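/-
The relations h(a) h(b) = h(ab) over a finite field follow from the rank one relations (Steinberg).

* `wEl x y t`, `hEl x y t`: x(t) y(-t⁻¹) x(t) and w(t) w(-1).
* `RankOne x y`: additivity, conjugation by w, centrality of the defects.
* `RankOne.hEl_mul`: h(a) h(b) = h(ab) over a finite field.
-/
import Cfsg.Agent.EqLemmas

set_option autoImplicit false

namespace Cfsg.Agent.ChevSt

variable {F E : Type*} [Field F] [Group E]

/-- w(t) = x(t) y(-t⁻¹) x(t). -/
def wEl (x y : F → E) (t : F) : E := x t * y (-t⁻¹) * x t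

/-- h(t) = w(t) w(-1). -/
def hEl (x y : F → E) (t : F) : E := wEl x y t * wEl x y (-1)

/-- The rank one relations. -/
structure RankOne (x y : F → E) : Prop where
  x_add : ∀ a b, x (a + b) = x a * x b
  y_add : ∀ a b, y (a + b) = y a * y b
  conj_x : ∀ t v, t ≠ 0 → wEl x y t * x v * (wEl x y t)⁻¹ = y (-(t⁻¹ ^ 2 * v))
  conj_y : ∀ t v, t ≠ 0 → wEl x y t * y v * (wEl x y t)⁻¹ = x (-(t ^ 2 * v))
  central : ∀ a b, a ≠ 0 → b ≠ 0 → hEl x y a * hEl x y b * (hEl x y (a * b))⁻¹ ∈ Subgroup.center E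

/-- A field element which is not a square splits as a sum of two nonzero squares. -/
theorem exists_sq_add_sq [Finite F] (h2 : ringChar F ≠ 2) {g : F} (hg : ¬ IsSquare g) :
    ∃ a b : F, a ≠ 0 ∧ b ≠ 0 ∧ a ^ 2 + b ^ 2 = g := by
  have := Fintype.ofFinite F
  obtain ⟨a, b, h⟩ : ∃ a b : F, Polynomial.eval a (Polynomial.X ^ 2) + Polynomial.eval b (Polynomial.X ^ 2 - Polynomial.C g) = 0 :=
    FiniteField.exists_root_sum_quadratic (Polynomial.degree_X_pow 2) (Polynomial.degree_X_pow_sub_C (by norm_num) g)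
      (FiniteField.odd_card_of_char_ne_two h2)
  simp only [Polynomial.eval_pow, Polynomial.eval_X, Polynomial.eval_sub, Polynomial.eval_C] at h
  have h' : a ^ 2 + b ^ 2 = g := by linear_combination h
  refine ⟨a, b, ?_, ?_, h'⟩
  · rintro rfl; exact hg ⟨b, by rw [← h']; ring⟩
  · rintro rfl; exact hg ⟨a, by rw [← h']; ring⟩

namespace RankOne

variable {x y : F → E} (R : RankOne x y)
include R

local notation "w" => wEl x y
local notation "h" => hEl x y

theorem x_zero : x 0 = 1 := (left_eq_mul (a := x 0) (b := x 0)).mp (by rw [← R.x_add, add_zero])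

theorem y_zero : y 0 = 1 := (left_eq_mul (a := y 0) (b := y 0)).mp (by rw [← R.y_add, add_zero])

theorem x_neg (a : F) : x (-a) = (x a)⁻¹ :=
  (inv_eq_of_mul_eq_one_right (by rw [← R.x_add, add_neg_cancel, R.x_zero])).symm

theorem y_neg (a : F) : y (-a) = (y a)⁻¹ :=
  (inv_eq_of_mul_eq_one_right (by rw [← R.y_add, add_neg_cancel, R.y_zero])).symm

theorem w_inv (t : F) : (w t)⁻¹ = w (-t) := by
  simp [wEl, ← R.x_neg, ← R.y_neg, mul_assoc, inv_neg]

theorem h_one : h 1 = 1 := by rw [hEl, ← R.w_inv, mul_inv_cancel]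

theorem w_eq (t : F) : w t = h t * w 1 := by
  rw [hEl, show w (-1) = (w 1)⁻¹ from (R.w_inv 1).symm, inv_mul_cancel_right]

theorem h_conj_x {t : F} (ht : t ≠ 0) (v : F) : h t * x v * (h t)⁻¹ = x (t ^ 2 * v) := by
  rw [hEl, show w t * w (-1) * x v * (w t * w (-1))⁻¹ = w t * (w (-1) * x v * (w (-1))⁻¹) * (w t)⁻¹ by group,
    R.conj_x _ _ (neg_ne_zero.2 one_ne_zero), R.conj_y _ _ ht]
  congr 1
  field_simp

theorem h_conj_y {t : F} (ht : t ≠ 0) (v : F) : h t * y v * (h t)⁻¹ = y (t⁻¹ ^ 2 * v) := by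
  rw [hEl, show w t * w (-1) * y v * (w t * w (-1))⁻¹ = w t * (w (-1) * y v * (w (-1))⁻¹) * (w t)⁻¹ by group,
    R.conj_y _ _ (neg_ne_zero.2 one_ne_zero), R.conj_x _ _ ht]
  congr 1
  ring

theorem h_conj_w {t : F} (ht : t ≠ 0) (u : F) : h t * w u * (h t)⁻¹ = w (t ^ 2 * u) := by
  rw [show w u = x u * y (-u⁻¹) * x u from rfl,
    show h t * (x u * y (-u⁻¹) * x u) * (h t)⁻¹ =
      (h t * x u * (h t)⁻¹) * (h t * y (-u⁻¹) * (h t)⁻¹) * (h t * x u * (h t)⁻¹) by group,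
    R.h_conj_x ht, R.h_conj_y ht, wEl]
  congr 3
  rw [mul_inv, inv_pow, mul_neg]

theorem h_conj_h {a : F} (ha : a ≠ 0) (b : F) : h a * h b * (h a)⁻¹ = h (a ^ 2 * b) * (h (a ^ 2))⁻¹ := by
  rw [show h b = w b * w (-1) from rfl,
    show h a * (w b * w (-1)) * (h a)⁻¹ = (h a * w b * (h a)⁻¹) * (h a * w (-1) * (h a)⁻¹) by group,
    R.h_conj_w ha, R.h_conj_w ha, R.w_eq (a ^ 2 * b), mul_neg_one, ← R.w_inv, R.w_eq (a ^ 2)]
  group

/-- Steinberg's identity for t + u = 1. -/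
theorem w_identity {t u : F} (ht : t ≠ 0) (hu : u ≠ 0) (htu : t + u = 1) :
    w (-(t ^ 2)) * w t * w u = w (t * u) := by
  set s := t * u with hs
  have hw : ∀ a : F, y (-a⁻¹) = x (-a) * w a * x (-a) := fun a => by
    rw [wEl, R.x_neg]; group
  have e0 : y (-t⁻¹) * y (-u⁻¹) = y (-s⁻¹) := by
    rw [← R.y_add]
    congr 1
    rw [hs]
    field_simp
    linear_combination -htu
  rw [hw, hw, hw] at e0
  have e1 : w t * x (-1) * w u = x (t ^ 2) * w s * x (u ^ 2) := by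
    have e2 : x (t ^ 2) = x t * x (-s) := by
      rw [← R.x_add]; congr 1; rw [hs]; linear_combination t * htu
    have e3 : x (u ^ 2) = x (-s) * x u := by
      rw [← R.x_add]; congr 1; rw [hs]; linear_combination u * htu
    have e4 : x (-1) = x (-t) * x (-u) := by
      rw [← R.x_add]; congr 1; linear_combination htu
    rw [e2, e3, e4]
    calc w t * (x (-t) * x (-u)) * w u
        = x t * (x (-t) * w t * x (-t) * (x (-u) * w u * x (-u))) * x u := by simp only [R.x_neg]; group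
      _ = _ := by rw [e0]; group
  have e5 : w t * x (-1) * (w t)⁻¹ = x (t ^ 2) * w (-(t ^ 2)) * x (t ^ 2) := by
    rw [R.conj_x _ _ ht]
    have := hw (-(t ^ 2))
    rw [_root_.neg_neg, inv_neg, _root_.neg_neg] at this
    rw [← this]
    congr 1
    ring
  have e6 : w t * w u * x (u ^ 2) * (w t * w u)⁻¹ = x (t ^ 2) := by
    rw [show w t * w u * x (u ^ 2) * (w t * w u)⁻¹ = w t * (w u * x (u ^ 2) * (w u)⁻¹) * (w t)⁻¹ by group,
      R.conj_x _ _ hu, R.conj_y _ _ ht]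
    congr 1
    field_simp
  have e7 : x (t ^ 2) * (w (-(t ^ 2)) * w t * w u) * x (u ^ 2) = x (t ^ 2) * w s * x (u ^ 2) := by
    rw [← e1]
    calc x (t ^ 2) * (w (-(t ^ 2)) * w t * w u) * x (u ^ 2)
        = x (t ^ 2) * w (-(t ^ 2)) * (w t * w u * x (u ^ 2) * (w t * w u)⁻¹) * (w t * w u) := by group
      _ = (w t * x (-1) * (w t)⁻¹) * (w t * w u) := by rw [e6, e5]
      _ = _ := by group
  exact mul_left_cancel (mul_right_cancel e7)

theorem h_identity {t u : F} (ht : t ≠ 0) (hu : u ≠ 0) (htu : t + u = 1) :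
    h (-(t ^ 2)) * (h (-t))⁻¹ * h u = h (t * u) := by
  have e := R.w_identity ht hu htu
  rw [R.w_eq (-(t ^ 2)), R.w_eq u, R.w_eq (t * u), show w t = (w (-t))⁻¹ by rw [R.w_inv, _root_.neg_neg],
    R.w_eq (-t)] at e
  refine mul_right_cancel (b := w 1) ?_
  rw [← e]
  group

theorem h_comm [Finite F] {a b : F} (ha : a ≠ 0) (hb : b ≠ 0) : Commute (h a) (h b) := by
  obtain ⟨g, hg⟩ := IsCyclic.exists_generator (α := Fˣ)
  have hpow : ∀ n : ℕ, ∃ z ∈ Subgroup.center E, h ((g : F) ^ n) = z * h (g : F) ^ n := by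
    intro n
    induction n with
    | zero => exact ⟨1, one_mem _, by rw [pow_zero, pow_zero, R.h_one, mul_one]⟩
    | succ n ih =>
      obtain ⟨z, hz, e⟩ := ih
      have hc := R.central _ (g : F) (pow_ne_zero n g.ne_zero) g.ne_zero
      refine ⟨(h ((g : F) ^ n) * h (g : F) * (h ((g : F) ^ n * g))⁻¹)⁻¹ * z, mul_mem (inv_mem hc) hz, ?_⟩
      rw [pow_succ, pow_succ, mul_assoc _ z, ← mul_assoc z, ← e]
      group
  have key : ∀ c : F, c ≠ 0 → ∃ z ∈ Subgroup.center E, ∃ n : ℕ, h c = z * h (g : F) ^ n := by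
    intro c hc
    obtain ⟨n, hn⟩ := Submonoid.mem_powers_iff _ _ |>.1
      ((mem_powers_iff_mem_zpowers (x := g)).2 (hg (Units.mk0 c hc)))
    have : c = (g : F) ^ n := by rw [← Units.val_pow_eq_pow_val, hn, Units.val_mk0]
    obtain ⟨z, hz, e⟩ := hpow n
    exact ⟨z, hz, n, this ▸ e⟩
  obtain ⟨z, hz, m, ea⟩ := key a ha
  obtain ⟨z', hz', n, eb⟩ := key b hb
  rw [ea, eb]
  have cz : ∀ v, Commute z v := fun v => (Subgroup.mem_center_iff.1 hz v).symm
  have cz' : ∀ v, Commute v z' := fun v => Subgroup.mem_center_iff.1 hz' v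
  exact ((cz z').mul_left (cz' _)).mul_right ((cz _).mul_left (Commute.pow_pow_self _ m n))

theorem h_sq_mul [Finite F] {a b : F} (ha : a ≠ 0) (hb : b ≠ 0) : h (a ^ 2 * b) = h (a ^ 2) * h b := by
  have e := R.h_conj_h ha b
  rw [(R.h_comm ha hb).eq, mul_inv_cancel_right, eq_mul_inv_iff_mul_eq] at e
  rw [← e, (R.h_comm (pow_ne_zero 2 ha) hb).eq]

/-- The relation h(a) h(b) = h(ab). -/
theorem hEl_mul [Finite F] {a b : F} (ha : a ≠ 0) (hb : b ≠ 0) : h a * h b = h (a * b) := by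
  have hsq : ∀ a b : F, IsSquare a → a ≠ 0 → b ≠ 0 → h (a * b) = h a * h b := by
    rintro _ b ⟨r, rfl⟩ hr hb
    rw [← pow_two] at hr ⊢
    exact R.h_sq_mul (fun e => hr (by rw [e]; ring)) hb
  classical
  by_cases hsa : IsSquare a
  · exact (hsq a b hsa ha hb).symm
  by_cases hsb : IsSquare b
  · rw [(R.h_comm ha hb).eq, mul_comm a b]; exact (hsq b a hsb hb ha).symm
  have h2 : ringChar F ≠ 2 := fun e => hsa (FiniteField.isSquare_of_char_two e a)
  have := Fintype.ofFinite F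
  have hnn : ∀ c e : F, ¬ IsSquare c → ¬ IsSquare e → c ≠ 0 → ∃ r, r ≠ 0 ∧ e = r ^ 2 * c := by
    intro c e hc he hc0
    have he0 : e ≠ 0 := fun z => he (z ▸ IsSquare.zero)
    have hm : IsSquare (e * c) := by
      rw [← quadraticChar_one_iff_isSquare (mul_ne_zero he0 hc0), map_mul,
        quadraticChar_neg_one_iff_not_isSquare.2 hc, quadraticChar_neg_one_iff_not_isSquare.2 he]
      rfl
    obtain ⟨m, hm⟩ := hm
    refine ⟨m / c, div_ne_zero (fun z => mul_ne_zero he0 hc0 (by rw [hm, z, mul_zero])) hc0, ?_⟩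
    field_simp
    linear_combination hm
  -- it suffices to treat one pair of non-squares
  suffices ∃ c, ¬ IsSquare c ∧ c ≠ 0 ∧ h c * h c = h (c * c) by
    obtain ⟨c, hc, hc0, e⟩ := this
    obtain ⟨r, hr, rfl⟩ := hnn c a hc hsa hc0
    obtain ⟨s, hs, rfl⟩ := hnn c b hc hsb hc0
    rw [show r ^ 2 * c * (s ^ 2 * c) = r ^ 2 * (s ^ 2 * (c * c)) by ring,
      R.h_sq_mul hr (mul_ne_zero (pow_ne_zero 2 hs) (mul_ne_zero hc0 hc0)), R.h_sq_mul hs (mul_ne_zero hc0 hc0),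
      R.h_sq_mul hr hc0, R.h_sq_mul hs hc0, ← e]
    have := (R.h_comm hc0 (pow_ne_zero 2 hs)).eq
    calc h (r ^ 2) * h c * (h (s ^ 2) * h c) = h (r ^ 2) * (h c * h (s ^ 2)) * h c := by group
      _ = _ := by rw [this]; group
  obtain ⟨p, q, hp, hq, hpq⟩ := exists_sq_add_sq h2 (g := a⁻¹) (fun z => hsa (by simpa using z.inv))
  by_cases hm : IsSquare (-1 : F)
  · obtain ⟨i, hi⟩ := hm
    -- t = 1 - z² is no square for z = i q / p
    set z := i * q / p with hz
    have hz0 : z ≠ 0 := div_ne_zero (mul_ne_zero (fun e => by rw [e] at hi; simp at hi) hq) hp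
    have ht : 1 - z ^ 2 = a⁻¹ / p ^ 2 := by
      rw [hz, ← hpq]; field_simp; linear_combination q ^ 2 * hi
    set t := a⁻¹ / p ^ 2 with htdef
    have ht0 : t ≠ 0 := div_ne_zero (inv_ne_zero ha) (pow_ne_zero 2 hp)
    have hts : ¬ IsSquare t := fun ⟨r, hr⟩ => hsa (by
      have : IsSquare a⁻¹ := ⟨r * p, by rw [show r * p * (r * p) = r * r * p ^ 2 by ring, ← hr, htdef]; field_simp⟩
      simpa using this.inv)
    refine ⟨t, hts, ht0, ?_⟩
    have e := R.h_identity ht0 (pow_ne_zero 2 hz0) (by rw [← ht]; ring)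
    rw [mul_comm t (z ^ 2), R.h_sq_mul hz0 ht0, (R.h_comm (pow_ne_zero 2 hz0) ht0).eq] at e
    have hi0 : i ≠ 0 := fun e' => by rw [e'] at hi; simp at hi
    rw [show -(t ^ 2) = i ^ 2 * (t * t) by rw [pow_two i, ← hi]; ring,
      show -t = i ^ 2 * t by rw [pow_two i, ← hi]; ring, R.h_sq_mul hi0 (mul_ne_zero ht0 ht0),
      R.h_sq_mul hi0 ht0] at e
    have e' := mul_right_cancel e
    rw [_root_.mul_inv_rev, ← mul_assoc, mul_inv_eq_iff_eq_mul] at e'
    have hc := (R.h_comm (pow_ne_zero 2 hi0) (mul_ne_zero ht0 ht0)).eq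
    have hc' := (R.h_comm (pow_ne_zero 2 hi0) ht0).eq
    rw [hc, mul_inv_eq_iff_eq_mul] at e'
    rw [← hc'] at e'
    rw [← hc, mul_assoc] at e'
    exact (mul_left_cancel e').symm
  · -- t, u non-squares with t + u = 1, so -t is a square
    set t := a * p ^ 2 with htdef
    set u := a * q ^ 2 with hudef
    have ht0 : t ≠ 0 := mul_ne_zero ha (pow_ne_zero 2 hp)
    have hu0 : u ≠ 0 := mul_ne_zero ha (pow_ne_zero 2 hq)
    have htu : t + u = 1 := by rw [htdef, hudef, ← mul_add, hpq, mul_inv_cancel₀ ha]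
    have hts : ¬ IsSquare t := fun ⟨r, hr⟩ => hsa ⟨r / p, by
      rw [div_mul_div_comm, ← hr, htdef]; field_simp⟩
    obtain ⟨s, hs, hst⟩ := hnn (-1) t hm hts (neg_ne_zero.2 one_ne_zero)
    refine ⟨t, hts, ht0, ?_⟩
    have hneg : IsSquare (-t) := ⟨s, by rw [hst]; ring⟩
    have e := R.h_identity ht0 hu0 htu
    rw [show -(t ^ 2) = -t * t by ring, hsq _ _ hneg (neg_ne_zero.2 ht0) ht0,
      (R.h_comm (neg_ne_zero.2 ht0) ht0).eq, mul_inv_cancel_right] at e
    rw [show u = (q / p) ^ 2 * t by rw [hudef, htdef]; field_simp,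
      R.h_sq_mul (div_ne_zero hq hp) ht0, show t * ((q / p) ^ 2 * t) = (q / p) ^ 2 * (t * t) by ring,
      R.h_sq_mul (div_ne_zero hq hp) (mul_ne_zero ht0 ht0), ← mul_assoc,
      (R.h_comm ht0 (pow_ne_zero 2 (div_ne_zero hq hp))).eq, mul_assoc] at e
    exact mul_left_cancel e

end RankOne

end Cfsg.Agent.ChevSt
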