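/-
The Steinberg presentation of SL, part 1: relations in the covering group.

* `ASys`: root elements x_ij(t) with the Steinberg relations over SL.
* `ASys.n_conj`, `ASys.h_conj`: conjugation by n̄_ab(t), h̄_ab(t).
* `ASys.th_injOn`: injectivity on unitriangular parts.
-/
import Cfsg.Agent.Lib.ChevSt.SymbolTrivial
import Mathlib.LinearAlgebra.Matrix.SpecialLinearGroup
import Mathlib.LinearAlgebra.Matrix.Transvection

set_option autoImplicit false

namespace Cfsg.Agent.ChevSt

open Matrix

variable {ι : Type*} [Fintype ι] [DecidableEq ι] {K : Type*} [Field K]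

/-- Root elements subject to the Steinberg relations, over the special linear group. -/
structure ASys (ι K : Type*) [Fintype ι] [DecidableEq ι] [Field K] (E : Type*) [Group E] where
  /-- the root elements -/
  x : ι → ι → K → E
  /-- the map to matrices -/
  th : E →* Matrix.SpecialLinearGroup ι K
  th_x : ∀ (i j : ι) (t : K), i ≠ j → (th (x i j t) : Matrix ι ι K) = Matrix.transvection i j t
  add : ∀ (i j : ι) (t u : K), i ≠ j → x i j (t + u) = x i j t * x i j u
  comm : ∀ (i j k l : ι) (t u : K), i ≠ j → k ≠ l → i ≠ l → j ≠ k → x i j t * x k l u = x k l u * x i j t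
  mid : ∀ (i j k : ι) (t u : K), i ≠ j → j ≠ k → i ≠ k →
    x i j t * x j k u = x i k (t * u) * x j k u * x i j t

namespace ASys

variable {E : Type*} [Group E] (S : ASys ι K E)

theorem x_zero {i j : ι} (h : i ≠ j) : S.x i j 0 = 1 :=
  (left_eq_mul (a := S.x i j 0) (b := S.x i j 0)).mp (by rw [← S.add i j 0 0 h, add_zero])

theorem x_neg {i j : ι} (h : i ≠ j) (t : K) : S.x i j (-t) = (S.x i j t)⁻¹ :=
  (inv_eq_of_mul_eq_one_right (by rw [← S.add i j _ _ h, add_neg_cancel, S.x_zero h])).symm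

theorem conj_fix {i j k l : ι} (hij : i ≠ j) (hkl : k ≠ l) (h₁ : i ≠ l) (h₂ : j ≠ k) (t u : K) :
    S.x i j t * S.x k l u * (S.x i j t)⁻¹ = S.x k l u := by
  rw [S.comm i j k l t u hij hkl h₁ h₂, mul_inv_cancel_right]

theorem conj_right {i j k : ι} (hij : i ≠ j) (hjk : j ≠ k) (hik : i ≠ k) (t u : K) :
    S.x i j t * S.x j k u * (S.x i j t)⁻¹ = S.x i k (t * u) * S.x j k u := by
  rw [S.mid i j k t u hij hjk hik, mul_inv_cancel_right]

theorem conj_left {i j k : ι} (hij : i ≠ j) (hjk : j ≠ k) (hik : i ≠ k) (t u : K) :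
    S.x j k t * S.x i j u * (S.x j k t)⁻¹ = S.x i k (-(t * u)) * S.x i j u := by
  have e := S.mid i j k u t hij hjk hik
  rw [mul_comm t u, S.x_neg hik, mul_inv_eq_iff_eq_mul, mul_assoc, eq_inv_mul_iff_mul_eq, ← mul_assoc, ← e]

/-- n̄_ab(t). -/
def n (a b : ι) (t : K) : E := wEl (S.x a b) (S.x b a) t

/-- h̄_ab(t). -/
def h (a b : ι) (t : K) : E := hEl (S.x a b) (S.x b a) t

/-- The coefficient of n̄_ab(t) at an index. -/
def nCoef (a b : ι) (t : K) (i : ι) : K := if i = a then -t⁻¹ else if i = b then t else 1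

/-- The coefficient of h̄_ab(t) at an index. -/
def hCoef (a b : ι) (t : K) (i : ι) : K := if i = a then t else if i = b then t⁻¹ else 1

omit [Fintype ι] in
theorem nCoef_ne {a b : ι} {t : K} (ht : t ≠ 0) (i : ι) : nCoef a b t i ≠ 0 := by
  unfold nCoef
  split_ifs <;> simp [ht]

theorem n_conj_third {a b i j : ι} (hab : a ≠ b) (hij : i ≠ j) (h₁ : ¬ (i = a ∧ j = b)) (h₂ : ¬ (i = b ∧ j = a))
    {t : K} (ht : t ≠ 0) (u : K) :
    S.n a b t * S.x i j u * (S.n a b t)⁻¹ =
      S.x (Equiv.swap a b i) (Equiv.swap a b j) (nCoef a b t i * (nCoef a b t j)⁻¹ * u) := by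
  have split3 : ∀ A B g : E, A * B * A * g * (A * B * A)⁻¹ = A * (B * (A * g * A⁻¹) * B⁻¹) * A⁻¹ := fun A B g => by
    group
  have dist : ∀ A g h : E, A * (g * h) * A⁻¹ = A * g * A⁻¹ * (A * h * A⁻¹) := fun A g h => by group
  have cancel : ∀ (p q : ι) (v : K), p ≠ q → i ≠ q → j ≠ p →
      S.x i j (-u) * S.x p q v * S.x i j u = S.x p q v := fun p q v h1 h2 h3 => by
    rw [S.comm i j p q (-u) v hij h1 h2 h3, mul_assoc, ← S.add _ _ _ _ hij, neg_add_cancel, S.x_zero hij, mul_one]
  rw [n, wEl, split3]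
  by_cases hia : i = a
  · subst hia
    have hjb : b ≠ j := fun e => h₁ ⟨rfl, e.symm⟩
    have s1 : S.x i b t * S.x i j u * (S.x i b t)⁻¹ = S.x i j u := S.conj_fix hab hij hij (Ne.symm hab) t u
    have s2 : S.x b i (-t⁻¹) * S.x i j u * (S.x b i (-t⁻¹))⁻¹ = S.x b j (-t⁻¹ * u) * S.x i j u :=
      S.conj_right (Ne.symm hab) hij hjb _ u
    have s3 : S.x i b t * S.x b j (-t⁻¹ * u) * (S.x i b t)⁻¹ = S.x i j (t * (-t⁻¹ * u)) * S.x b j (-t⁻¹ * u) :=
      S.conj_right hab hjb hij t _
    rw [Equiv.swap_apply_left, Equiv.swap_apply_of_ne_of_ne (Ne.symm hij) (Ne.symm hjb), s1, s2,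
      dist (S.x i b t) (S.x b j _), s3, s1, show nCoef i b t i = -t⁻¹ by simp [nCoef],
      show nCoef i b t j = 1 by simp [nCoef, Ne.symm hij, Ne.symm hjb], inv_one, mul_one,
      show t * (-t⁻¹ * u) = -u by field_simp, cancel b j _ hjb hij (Ne.symm hjb)]
  by_cases hib : i = b
  · subst hib
    have hja : a ≠ j := fun e => h₂ ⟨rfl, e.symm⟩
    have s1 : S.x a i t * S.x i j u * (S.x a i t)⁻¹ = S.x a j (t * u) * S.x i j u := S.conj_right hab hij hja t u
    have s2 : S.x i a (-t⁻¹) * S.x a j (t * u) * (S.x i a (-t⁻¹))⁻¹ = S.x i j (-t⁻¹ * (t * u)) * S.x a j (t * u) :=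
      S.conj_right (Ne.symm hab) hja hij _ _
    have s3 : S.x i a (-t⁻¹) * S.x i j u * (S.x i a (-t⁻¹))⁻¹ = S.x i j u :=
      S.conj_fix (Ne.symm hab) hij hij hab _ u
    have s4 : S.x a i t * S.x a j (t * u) * (S.x a i t)⁻¹ = S.x a j (t * u) :=
      S.conj_fix hab hja hja (Ne.symm hab) t _
    rw [Equiv.swap_apply_right, Equiv.swap_apply_of_ne_of_ne (Ne.symm hja) (Ne.symm hij), s1,
      dist (S.x i a _) (S.x a j _), s2, s3, show -t⁻¹ * (t * u) = -u by field_simp,
      cancel a j _ hja hij (Ne.symm hja), s4,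
      show nCoef a i t i = t by simp [nCoef, hia],
      show nCoef a i t j = 1 by simp [nCoef, Ne.symm hja, Ne.symm hij], inv_one, mul_one]
  by_cases hja : j = a
  · subst hja
    have s1 : S.x j b t * S.x i j u * (S.x j b t)⁻¹ = S.x i b (-(t * u)) * S.x i j u := S.conj_left hij hab hib t u
    have s2 : S.x b j (-t⁻¹) * S.x i b (-(t * u)) * (S.x b j (-t⁻¹))⁻¹ =
        S.x i j (-(-t⁻¹ * -(t * u))) * S.x i b (-(t * u)) := S.conj_left hib (Ne.symm hab) hij _ _
    have s3 : S.x b j (-t⁻¹) * S.x i j u * (S.x b j (-t⁻¹))⁻¹ = S.x i j u :=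
      S.conj_fix (Ne.symm hab) hij (Ne.symm hab) (Ne.symm hij) _ u
    have s4 : S.x j b t * S.x i b (-(t * u)) * (S.x j b t)⁻¹ = S.x i b (-(t * u)) :=
      S.conj_fix hab hib hab (Ne.symm hib) t _
    rw [Equiv.swap_apply_of_ne_of_ne hia hib, Equiv.swap_apply_left, s1, dist (S.x b j _) (S.x i b _), s2, s3,
      show -(-t⁻¹ * -(t * u)) = -u by field_simp, cancel i b _ hib hib (Ne.symm hij), s4, show nCoef j b t i = 1 by simp [nCoef, hij, hib],
      show nCoef j b t j = -t⁻¹ by simp [nCoef], one_mul, inv_neg, inv_inv, neg_mul]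
  by_cases hjb : j = b
  · subst hjb
    have s1 : S.x a j t * S.x i j u * (S.x a j t)⁻¹ = S.x i j u :=
      S.conj_fix hab hij hab (Ne.symm hij) t u
    have s2 : S.x j a (-t⁻¹) * S.x i j u * (S.x j a (-t⁻¹))⁻¹ = S.x i a (-(-t⁻¹ * u)) * S.x i j u :=
      S.conj_left hij (Ne.symm hab) hia _ u
    have s3 : S.x a j t * S.x i a (-(-t⁻¹ * u)) * (S.x a j t)⁻¹ =
        S.x i j (-(t * -(-t⁻¹ * u))) * S.x i a (-(-t⁻¹ * u)) := S.conj_left hia hab hij t _
    rw [Equiv.swap_apply_of_ne_of_ne hia hib, Equiv.swap_apply_right, s1, s2, dist (S.x a j t) (S.x i a _), s3, s1,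
      show -(t * -(-t⁻¹ * u)) = -u by field_simp, cancel i a _ hia hia (Ne.symm hij),
      show nCoef a j t i = 1 by simp [nCoef, hia, hij], show nCoef a j t j = t by simp [nCoef, hja],
      one_mul, neg_mul, _root_.neg_neg]
  · rw [Equiv.swap_apply_of_ne_of_ne hia hib, Equiv.swap_apply_of_ne_of_ne hja hjb,
      S.conj_fix hab hij (Ne.symm hja) (Ne.symm hib),
      S.conj_fix (Ne.symm hab) hij (Ne.symm hjb) (Ne.symm hia),
      S.conj_fix hab hij (Ne.symm hja) (Ne.symm hib)]
    simp [nCoef, hia, hib, hja, hjb]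

/-- n̄ x̄_ij(u) n̄⁻¹ for every root. -/
theorem n_conj (h3 : 3 ≤ Fintype.card ι) {a b i j : ι} (hab : a ≠ b) (hij : i ≠ j) {t : K} (ht : t ≠ 0) (u : K) :
    S.n a b t * S.x i j u * (S.n a b t)⁻¹ =
      S.x (Equiv.swap a b i) (Equiv.swap a b j) (nCoef a b t i * (nCoef a b t j)⁻¹ * u) := by
  by_cases h₀ : (i = a ∧ j = b) ∨ (i = b ∧ j = a)
  swap
  · push Not at h₀
    exact S.n_conj_third hab hij (fun e => h₀.1 e.1 e.2) (fun e => h₀.2 e.1 e.2) ht u
  obtain ⟨k, hk⟩ : ∃ k, k ∉ ({i, j} : Finset ι) := by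
    by_contra h
    push Not at h
    have := Finset.card_le_card (show (Finset.univ : Finset ι) ⊆ {i, j} from fun z _ => h z)
    rw [Finset.card_univ, Finset.card_pair hij] at this
    omega
  simp only [Finset.mem_insert, Finset.mem_singleton, not_or] at hk
  obtain ⟨hki, hkj⟩ := hk
  have hka : k ≠ a := by rcases h₀ with ⟨rfl, rfl⟩ | ⟨rfl, rfl⟩ <;> assumption
  have hkb : k ≠ b := by rcases h₀ with ⟨rfl, rfl⟩ | ⟨rfl, rfl⟩ <;> assumption
  set σ := Equiv.swap a b with hσ
  have hswap : σ k = k := Equiv.swap_apply_of_ne_of_ne hka hkb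
  have hne1 : σ i ≠ k := fun e => hki (σ.injective (hswap.trans e.symm))
  have hne2 : k ≠ σ j := fun e => hkj (σ.injective (hswap.trans e))
  have e : ∀ {p q r : ι} (v w : K), p ≠ r → r ≠ q → p ≠ q →
      S.x p q (v * w) = S.x p r v * S.x r q w * (S.x p r v)⁻¹ * (S.x r q w)⁻¹ := fun v w h1 h2 h3 => by
    rw [S.conj_right h1 h2 h3, mul_inv_cancel_right]
  have hc1 : nCoef a b t k = 1 := by simp [nCoef, hka, hkb]
  conv_lhs => rw [← mul_one u, e u 1 (Ne.symm hki) hkj hij]
  rw [show ∀ N A B C D : E, N * (A * B * C⁻¹ * D⁻¹) * N⁻¹ =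
      N * A * N⁻¹ * (N * B * N⁻¹) * (N * C * N⁻¹)⁻¹ * (N * D * N⁻¹)⁻¹ from fun N A B C D => by group,
    S.n_conj_third hab (Ne.symm hki) (fun h => hkb h.2) (fun h => hka h.2) ht,
    S.n_conj_third hab hkj (fun h => hka h.1) (fun h => hkb h.1) ht, ← hσ, hswap, hc1,
    ← e _ _ hne1 hne2 (σ.injective.ne hij)]
  congr 1
  ring

theorem h_conj (h3 : 3 ≤ Fintype.card ι) {a b i j : ι} (hab : a ≠ b) (hij : i ≠ j) {t : K} (ht : t ≠ 0) (u : K) :
    S.h a b t * S.x i j u * (S.h a b t)⁻¹ = S.x i j (hCoef a b t i * (hCoef a b t j)⁻¹ * u) := by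
  have hh : S.h a b t = S.n a b t * S.n a b (-1) := rfl
  rw [hh, show S.n a b t * S.n a b (-1) * S.x i j u * (S.n a b t * S.n a b (-1))⁻¹ =
    S.n a b t * (S.n a b (-1) * S.x i j u * (S.n a b (-1))⁻¹) * (S.n a b t)⁻¹ by group,
    S.n_conj h3 hab hij (neg_ne_zero.2 one_ne_zero),
    S.n_conj h3 hab ((Equiv.swap a b).injective.ne hij) ht, Equiv.swap_apply_self, Equiv.swap_apply_self]
  congr 1
  have key : ∀ i, nCoef a b t (Equiv.swap a b i) * nCoef a b (-1 : K) i = hCoef a b t i := by
    intro i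
    by_cases hia : i = a
    · subst hia; simp [nCoef, hCoef, Ne.symm hab]
    by_cases hib : i = b
    · subst hib; simp [nCoef, hCoef, hia]
    · simp [nCoef, hCoef, hia, hib, Equiv.swap_apply_of_ne_of_ne hia hib]
  rw [← key i, ← key j, mul_inv]
  ring

/-- The subgroup generated by the root elements of a set of pairs. -/
def genBy (T : Set (ι × ι)) : Subgroup E := Subgroup.closure {g | ∃ p ∈ T, ∃ t : K, g = S.x p.1 p.2 t}

/-- th is injective on the unitriangular subgroup of an order. -/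
theorem th_injOn {b : ι → ℤ} :
    ∀ (m : ℕ) (T : Finset (ι × ι)), T.card = m → (∀ p ∈ T, b p.1 < b p.2) →
      (∀ i j k, (i, j) ∈ T → (j, k) ∈ T → (i, k) ∈ T) →
      ∀ g ∈ S.genBy (T : Set (ι × ι)), S.th g = 1 → g = 1 := by
  intro m
  induction m with
  | zero =>
    intro T hT _ _ g hg _
    rw [Finset.card_eq_zero] at hT
    subst hT
    simpa [genBy] using hg
  | succ m ih =>
    intro T hT hpos hclosed g hg hgh
    obtain ⟨k, hk, hmin⟩ := T.exists_min_image (fun p => b p.2 - b p.1) (Finset.card_pos.mp (by omega))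
    obtain ⟨a, c⟩ := k
    set T' := T.erase (a, c) with hT'
    have hne : ∀ p ∈ T, p.1 ≠ p.2 := fun p hp e => by have := hpos p hp; rw [e] at this; omega
    have hac : a ≠ c := hne _ hk
    have hcl' : ∀ i j l, (i, j) ∈ T → (j, l) ∈ T → (i, l) ∈ T' := by
      intro i j l h1 h2
      refine Finset.mem_erase.mpr ⟨fun e => ?_, hclosed i j l h1 h2⟩
      obtain ⟨rfl, rfl⟩ := Prod.mk.injEq _ _ _ _ |>.mp e
      have := hmin _ h1
      have := hpos _ h2
      simp only at *
      omega
    have hmemT : ∀ p ∈ T', p ∈ T := fun p hp => Finset.mem_of_mem_erase hp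
    have hconj : ∀ (t : K), ∀ g ∈ S.genBy (T' : Set (ι × ι)), S.x a c t * g * (S.x a c t)⁻¹ ∈ S.genBy (T' : Set (ι × ι)) := by
      intro t g hg
      induction hg using Subgroup.closure_induction with
      | mem g hg =>
        obtain ⟨⟨i, j⟩, hp, u, rfl⟩ := hg
        have hp' := hmemT _ hp
        have hij : i ≠ j := hne _ hp'
        have hmem : ∀ {p : ι × ι}, p ∈ T' → ∀ v, S.x p.1 p.2 v ∈ S.genBy (T' : Set (ι × ι)) := fun hp v =>
          Subgroup.subset_closure ⟨_, hp, v, rfl⟩
        show S.x a c t * S.x i j u * (S.x a c t)⁻¹ ∈ _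
        by_cases h1 : a = j
        · subst h1
          have hic := hcl' i a c hp' hk
          have hne' : i ≠ c := hne (i, c) (hmemT _ hic)
          rw [S.conj_left hij hac hne']
          exact mul_mem (hmem hic _) (hmem hp _)
        by_cases h2 : c = i
        · subst h2
          have haj := hcl' a c j hk hp'
          rw [S.conj_right hac hij h1]
          exact mul_mem (hmem haj _) (hmem hp _)
        rw [S.conj_fix hac hij h1 h2]
        exact hmem hp _
      | one => rw [mul_one, mul_inv_cancel]; exact one_mem _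
      | mul p q _ _ hp hq =>
        rw [show S.x a c t * (p * q) * (S.x a c t)⁻¹ =
          S.x a c t * p * (S.x a c t)⁻¹ * (S.x a c t * q * (S.x a c t)⁻¹) by group]
        exact mul_mem hp hq
      | inv p _ hp =>
        rw [show S.x a c t * p⁻¹ * (S.x a c t)⁻¹ = (S.x a c t * p * (S.x a c t)⁻¹)⁻¹ by group]
        exact inv_mem hp
    obtain ⟨t, g', hg', rfl⟩ : ∃ t, ∃ g' ∈ S.genBy (T' : Set (ι × ι)), g = S.x a c t * g' := by
      clear hgh
      induction hg using Subgroup.closure_induction with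
      | mem g hg =>
        obtain ⟨p, hp, u, rfl⟩ := hg
        by_cases hpk : p = (a, c)
        · subst hpk; exact ⟨u, 1, one_mem _, by rw [mul_one]⟩
        · exact ⟨0, _, Subgroup.subset_closure ⟨p, Finset.mem_erase.mpr ⟨hpk, hp⟩, u, rfl⟩,
            by rw [S.x_zero hac, one_mul]⟩
      | one => exact ⟨0, 1, one_mem _, by rw [S.x_zero hac, one_mul]⟩
      | mul p q _ _ hp hq =>
        obtain ⟨t, p', hp', rfl⟩ := hp
        obtain ⟨u, q', hq', rfl⟩ := hq
        refine ⟨t + u, (S.x a c (-u) * p' * (S.x a c (-u))⁻¹) * q', mul_mem (hconj (-u) p' hp') hq', ?_⟩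
        rw [S.add _ _ _ _ hac, S.x_neg hac]; group
      | inv p _ hp =>
        obtain ⟨t, p', hp', rfl⟩ := hp
        refine ⟨-t, S.x a c t * p'⁻¹ * (S.x a c t)⁻¹, hconj t _ (inv_mem hp'), ?_⟩
        rw [S.x_neg hac]; group
    have hP : ∀ z ∈ S.genBy (T' : Set (ι × ι)), ∀ p q, (S.th z : Matrix ι ι K) p q ≠ (1 : Matrix ι ι K) p q →
        (p, q) ∈ T' := by
      intro z hz
      induction hz using Subgroup.closure_induction'' with
      | one => intro p q h; simp at h
      | mem z hz =>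
        obtain ⟨⟨i, j⟩, hp, u, rfl⟩ := hz
        intro p q h
        rw [S.th_x i j u (hne _ (hmemT _ hp)), Matrix.transvection, Matrix.add_apply] at h
        by_cases e : i = p ∧ j = q
        · obtain ⟨rfl, rfl⟩ := e; exact hp
        · rw [Matrix.single_apply, if_neg e, add_zero] at h
          exact absurd rfl h
      | inv_mem z hz =>
        obtain ⟨⟨i, j⟩, hp, u, rfl⟩ := hz
        intro p q h
        rw [← S.x_neg (hne _ (hmemT _ hp)), S.th_x i j _ (hne _ (hmemT _ hp)), Matrix.transvection,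
          Matrix.add_apply] at h
        by_cases e : i = p ∧ j = q
        · obtain ⟨rfl, rfl⟩ := e; exact hp
        · rw [Matrix.single_apply, if_neg e, add_zero] at h
          exact absurd rfl h
      | mul y z _ _ hy hz =>
        intro p q h
        rw [map_mul, Matrix.SpecialLinearGroup.coe_mul] at h
        by_contra hpq
        refine h ?_
        set A := (S.th y : Matrix ι ι K) with hA
        set B := (S.th z : Matrix ι ι K) with hB
        have hy' : A p q = (1 : Matrix ι ι K) p q := by_contra fun e => hpq (hy p q e)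
        have hz' : B p q = (1 : Matrix ι ι K) p q := by_contra fun e => hpq (hz p q e)
        have hdiag : ∀ {M : Matrix ι ι K}, (∀ p q, M p q ≠ (1 : Matrix ι ι K) p q → (p, q) ∈ T') →
            ∀ r, M r r = 1 := fun hM r => by
          by_contra e
          exact hne _ (hmemT _ (hM r r (by rwa [Matrix.one_apply_eq]))) rfl
        rw [Matrix.mul_apply]
        by_cases e : p = q
        · subst e
          rw [Finset.sum_eq_single p]
          · rw [hdiag hy, hdiag hz, Matrix.one_apply_eq, mul_one]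
          · intro r _ hr
            by_contra e
            have h1 := hy p r (by rw [Matrix.one_apply_ne (Ne.symm hr)]; exact left_ne_zero_of_mul e)
            have h2 := hz r p (by rw [Matrix.one_apply_ne hr]; exact right_ne_zero_of_mul e)
            exact hne _ (hmemT _ (hcl' p r p (hmemT _ h1) (hmemT _ h2))) rfl
          · simp
        · rw [Matrix.one_apply_ne e] at hy' hz' ⊢
          refine Finset.sum_eq_zero fun r _ => ?_
          by_contra e'
          by_cases hrp : r = p
          · subst hrp; exact right_ne_zero_of_mul e' hz'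
          by_cases hrq : r = q
          · subst hrq; exact left_ne_zero_of_mul e' hy'
          have h1 := hy p r (by rw [Matrix.one_apply_ne (Ne.symm hrp)]; exact left_ne_zero_of_mul e')
          have h2 := hz r q (by rw [Matrix.one_apply_ne hrq]; exact right_ne_zero_of_mul e')
          exact hpq (hcl' p r q (hmemT _ h1) (hmemT _ h2))
    have ht : t = 0 := by
      have e := congrArg (fun z : Matrix.SpecialLinearGroup ι K => (z : Matrix ι ι K) a c) hgh
      simp only [map_mul, Matrix.SpecialLinearGroup.coe_mul, S.th_x a c t hac, Matrix.SpecialLinearGroup.coe_one,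
        Matrix.transvection_mul_apply_same, Matrix.one_apply_ne hac] at e
      have h1 : (S.th g' : Matrix ι ι K) a c = 0 := by
        by_contra h
        exact (Finset.mem_erase.mp (hP g' hg' a c (by rwa [Matrix.one_apply_ne hac]))).1 rfl
      have h2 : (S.th g' : Matrix ι ι K) c c = 1 := by
        by_contra h
        exact hne _ (hmemT _ (hP g' hg' c c (by rwa [Matrix.one_apply_eq]))) rfl
      rw [h1, h2, zero_add, mul_one] at e
      exact e
    subst ht
    rw [S.x_zero hac, one_mul] at hgh ⊢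
    exact ih T' (by rw [hT', Finset.card_erase_of_mem hk, hT, Nat.add_sub_cancel])
      (fun p hp => hpos p (hmemT p hp)) (fun i j l h1 h2 => hcl' i j l (hmemT _ h1) (hmemT _ h2)) g' hg' hgh

end ASys

end Cfsg.Agent.ChevSt
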