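/-
The Steinberg presentation of SL, part 2: root group data and the kernel.

* `ASys.rgd`: root group data in the covering group; `ASys.ker_le_center`.
* `ASys.th_injective`: over a finite field the map to SL is injective.
-/
import Cfsg.Agent.Lib.ChevSt.TypeA
import Cfsg.Agent.Lib.SLRGD.Steinberg

set_option autoImplicit false

namespace Cfsg.Agent.ChevSt

open Matrix Cfsg.Agent.RGD

namespace ASys

variable {K : Type*} [Field K] {m : ℕ} {E : Type*} [Group E] (S : ASys (Fin (m + 1)) K E)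

theorem th_eq {i j : Fin (m + 1)} (h : i ≠ j) (t : K) : S.th (S.x i j t) = SLRGD.x K m h t :=
  Subtype.ext (S.th_x i j t h)

theorem th_n_one {a b : Fin (m + 1)} (hab : a ≠ b) (t : K) :
    S.th (S.n a b t) = SLRGD.x K m hab t * SLRGD.x K m hab.symm (-t⁻¹) * SLRGD.x K m hab t := by
  rw [n, wEl, map_mul, map_mul, S.th_eq hab, S.th_eq hab.symm]

theorem th_h {a b : Fin (m + 1)} (hab : a ≠ b) {t : K} (ht : t ≠ 0) :
    S.th (S.h a b t) = Matrix.SpecialLinearGroup.diag2n hab t ht := by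
  rw [show S.h a b t = S.n a b t * S.n a b (-1) from rfl, map_mul, S.th_n_one hab, S.th_n_one hab,
    SLGen.diag2n_eq_word hab ht]
  simp [SLRGD.x, mul_assoc]

/-- The root subgroup. -/
def rootSub (r : SLRGD.Root m) : Subgroup E where
  carrier := Set.range (S.x r.1.1 r.1.2)
  one_mem' := ⟨0, S.x_zero r.2⟩
  mul_mem' := by rintro _ _ ⟨a, rfl⟩ ⟨b, rfl⟩; exact ⟨a + b, S.add _ _ a b r.2⟩
  inv_mem' := by rintro _ ⟨a, rfl⟩; exact ⟨-a, S.x_neg r.2 a⟩

theorem x_mem {i j : Fin (m + 1)} (h : i ≠ j) (t : K) : S.x i j t ∈ S.rootSub ⟨(i, j), h⟩ := ⟨t, rfl⟩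

/-- Generated by the h̄ of the adjacent pairs. -/
def Hbar : Subgroup E :=
  Subgroup.closure {g | ∃ (i : Fin m) (t : K), t ≠ 0 ∧ g = S.h i.castSucc i.succ t}

theorem h_mem (i : Fin m) {t : K} (ht : t ≠ 0) : S.h i.castSucc i.succ t ∈ S.Hbar :=
  Subgroup.subset_closure ⟨i, t, ht, rfl⟩

theorem th_mem_diag {g : E} (hg : g ∈ S.Hbar) : S.th g ∈ SLRGD.diagSub K m := by
  have hle : S.Hbar ≤ (SLRGD.diagSub K m).comap S.th := by
    refine (Subgroup.closure_le _).2 ?_
    rintro z ⟨i, t, ht, rfl⟩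
    show S.th _ ∈ SLRGD.diagSub K m
    rw [S.th_h (Fin.castSucc_lt_succ (i := i)).ne ht]
    exact SLRGD.mem_diag_of_eq K m _ (Matrix.SpecialLinearGroup.diag2n_coe _ _ _)
  exact hle hg

/-- The pairs increasing for `b`. -/
def incr (b : Fin (m + 1) → ℤ) : Finset (Fin (m + 1) × Fin (m + 1)) := Finset.univ.filter fun p => b p.1 < b p.2

theorem eq_one_of_th {b : Fin (m + 1) → ℤ} {g : E}
    (hg : g ∈ S.genBy ((incr b : Finset _) : Set (Fin (m + 1) × Fin (m + 1)))) (h : S.th g = 1) : g = 1 :=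
  S.th_injOn (b := b) _ (incr b) rfl (fun p hp => (Finset.mem_filter.1 hp).2)
    (fun i j k h1 h2 => Finset.mem_filter.2 ⟨Finset.mem_univ _,
      lt_trans (Finset.mem_filter.1 h1).2 (Finset.mem_filter.1 h2).2⟩) g hg h

theorem x_mem_incr {b : Fin (m + 1) → ℤ} {i j : Fin (m + 1)} (h : b i < b j) (t : K) :
    S.x i j t ∈ S.genBy ((incr b : Finset _) : Set (Fin (m + 1) × Fin (m + 1))) :=
  Subgroup.subset_closure ⟨(i, j), Finset.mem_filter.2 ⟨Finset.mem_univ _, h⟩, t, rfl⟩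

variable (h3 : 3 ≤ m + 1)
include h3

theorem h_conj' {a b i j : Fin (m + 1)} (hab : a ≠ b) (hij : i ≠ j) {t : K} (ht : t ≠ 0) (u : K) :
    S.h a b t * S.x i j u * (S.h a b t)⁻¹ = S.x i j (hCoef a b t i * (hCoef a b t j)⁻¹ * u) :=
  S.h_conj (by simpa using h3) hab hij ht u

theorem n_conj' {a b i j : Fin (m + 1)} (hab : a ≠ b) (hij : i ≠ j) {t : K} (ht : t ≠ 0) (u : K) :
    S.n a b t * S.x i j u * (S.n a b t)⁻¹ =
      S.x (Equiv.swap a b i) (Equiv.swap a b j) (nCoef a b t i * (nCoef a b t j)⁻¹ * u) :=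
  S.n_conj (by simpa using h3) hab hij ht u

theorem exists_char {g : E} (hg : g ∈ S.Hbar) :
    ∃ χ : Fin (m + 1) → Fin (m + 1) → Kˣ, ∀ i j u, i ≠ j → g * S.x i j u * g⁻¹ = S.x i j ((χ i j : K) * u) := by
  induction hg using Subgroup.closure_induction with
  | mem g hg =>
    obtain ⟨a, t, ht, rfl⟩ := hg
    have hc : ∀ k, hCoef a.castSucc a.succ t k ≠ 0 := fun k => by unfold hCoef; split_ifs <;> simp [ht]
    exact ⟨fun i j => Units.mk0 _ (hc i) * (Units.mk0 _ (hc j))⁻¹, fun i j u hij => by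
      rw [S.h_conj' h3 (Fin.castSucc_lt_succ (i := a)).ne hij ht, Units.val_mul, Units.val_inv_eq_inv_val,
        Units.val_mk0, Units.val_mk0]⟩
  | one => exact ⟨fun _ _ => 1, fun i j u _ => by simp⟩
  | mul a b _ _ ha hb =>
    obtain ⟨χ, hχ⟩ := ha
    obtain ⟨ψ, hψ⟩ := hb
    refine ⟨fun i j => χ i j * ψ i j, fun i j u hij => ?_⟩
    rw [show a * b * S.x i j u * (a * b)⁻¹ = a * (b * S.x i j u * b⁻¹) * a⁻¹ by group, hψ i j u hij, hχ i j _ hij,
      Units.val_mul, mul_assoc]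
  | inv a _ ha =>
    obtain ⟨χ, hχ⟩ := ha
    refine ⟨fun i j => (χ i j)⁻¹, fun i j u hij => ?_⟩
    have := hχ i j (((χ i j)⁻¹ : Kˣ) * u) hij
    rw [← mul_assoc ((χ i j : K)), ← Units.val_mul, mul_inv_cancel, Units.val_one, one_mul] at this
    rw [← this]; group

theorem n_conj_h (i j : Fin m) {t : K} (ht : t ≠ 0) :
    S.n j.castSucc j.succ 1 * S.h i.castSucc i.succ t * (S.n j.castSucc j.succ 1)⁻¹ ∈ S.Hbar := by
  have hj := (Fin.castSucc_lt_succ (i := j)).ne
  have hi := (Fin.castSucc_lt_succ (i := i)).ne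
  set c : K := hCoef i.castSucc i.succ t j.castSucc * (hCoef i.castSucc i.succ t j.succ)⁻¹ with hc
  have hne : ∀ k, hCoef i.castSucc i.succ t k ≠ 0 := fun k => by unfold hCoef; split_ifs <;> simp [ht]
  have hc0 : c ≠ 0 := mul_ne_zero (hne _) (inv_ne_zero (hne _))
  set g := S.h i.castSucc i.succ t with hgdef
  have e1 : g * S.n j.castSucc j.succ 1 * g⁻¹ = S.n j.castSucc j.succ c := by
    rw [n, n, wEl, wEl, show g * (S.x j.castSucc j.succ 1 * S.x j.succ j.castSucc (-1⁻¹) * S.x j.castSucc j.succ 1) * g⁻¹ =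
      (g * S.x j.castSucc j.succ 1 * g⁻¹) * (g * S.x j.succ j.castSucc (-1⁻¹) * g⁻¹) *
        (g * S.x j.castSucc j.succ 1 * g⁻¹) by group, hgdef, S.h_conj' h3 hi hj ht, S.h_conj' h3 hi hj.symm ht, hc]
    simp [mul_comm]
  have e3 : (S.n j.castSucc j.succ 1)⁻¹ = S.n j.castSucc j.succ (-1) := by
    simp [n, wEl, ← S.x_neg hj, ← S.x_neg hj.symm, mul_assoc]
  have e2 : S.n j.castSucc j.succ 1 * g * (S.n j.castSucc j.succ 1)⁻¹ = (S.h j.castSucc j.succ c)⁻¹ * g := by
    rw [show S.h j.castSucc j.succ c = S.n j.castSucc j.succ c * S.n j.castSucc j.succ (-1) from rfl, ← e3, ← e1]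
    group
  rw [e2]
  exact mul_mem (inv_mem (S.h_mem j hc0)) (S.h_mem i ht)

/-- The root group data. -/
def rgd : RootData E (SLRGD.Root m) (Fin m) where
  U := S.rootSub
  H := S.Hbar
  n i := S.n i.castSucc i.succ 1
  simple := (SLRGD.slRGD K m).simple
  pos := (SLRGD.slRGD K m).pos
  neg := (SLRGD.slRGD K m).neg
  w := (SLRGD.slRGD K m).w
  neg_neg := (SLRGD.slRGD K m).neg_neg
  pos_neg := (SLRGD.slRGD K m).pos_neg
  pos_simple := (SLRGD.slRGD K m).pos_simple
  simple_inj := (SLRGD.slRGD K m).simple_inj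
  w_simple := (SLRGD.slRGD K m).w_simple
  w_pos := (SLRGD.slRGD K m).w_pos
  w_neg := (SLRGD.slRGD K m).w_neg
  w_w := (SLRGD.slRGD K m).w_w
  H_conj_U g hg r x hx := by
    obtain ⟨t, rfl⟩ := hx
    obtain ⟨χ, hχ⟩ := S.exists_char h3 hg
    rw [hχ _ _ _ r.2]
    exact S.x_mem r.2 _
  n_conj_U i r x hx := by
    obtain ⟨t, rfl⟩ := hx
    rw [S.n_conj' h3 (Fin.castSucc_lt_succ (i := i)).ne r.2 one_ne_zero]
    exact ⟨_, rfl⟩
  n_conj_H i g hg := by
    have hle : S.Hbar ≤ S.Hbar.comap (MulAut.conj (S.n i.castSucc i.succ 1)).toMonoidHom := by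
      refine (Subgroup.closure_le _).2 ?_
      rintro z ⟨j, t, ht, rfl⟩
      exact S.n_conj_h h3 j i ht
    exact hle hg
  n_sq i := by
    have hab := (Fin.castSucc_lt_succ (i := i)).ne
    have e : S.n i.castSucc i.succ 1 * S.n i.castSucc i.succ 1 = (S.h i.castSucc i.succ (-1))⁻¹ := by
      simp [h, hEl, n, wEl, ← S.x_neg hab, ← S.x_neg hab.symm, mul_assoc]
    rw [e]
    exact inv_mem (S.h_mem i (neg_ne_zero.2 one_ne_zero))
  n_mem i := mul_mem (mul_mem
      (Subgroup.mem_sup_left (Subgroup.mem_sup_left ⟨_, rfl⟩))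
      (Subgroup.mem_sup_left (Subgroup.mem_sup_right ⟨_, rfl⟩)))
      (Subgroup.mem_sup_left (Subgroup.mem_sup_left ⟨_, rfl⟩))
  U_conj := by
    rintro i _ ⟨s, rfl⟩ r hr hne _ ⟨t, rfl⟩
    obtain ⟨⟨c, d⟩, hcd⟩ := r
    have hr' : c < d := hr
    have hne' : ¬ (c = i.castSucc ∧ d = i.succ) := fun h => hne (Subtype.ext (Prod.ext h.1 h.2))
    have hab := Fin.castSucc_lt_succ (i := i)
    show S.x i.castSucc i.succ s * S.x c d t * (S.x i.castSucc i.succ s)⁻¹ ∈ _
    have hmem : ∀ (q : SLRGD.Root m), q.1.1 < q.1.2 → ¬ (q.1.1 = i.castSucc ∧ q.1.2 = i.succ) → ∀ u : K,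
        S.x q.1.1 q.1.2 u ∈ ⨆ r ∈ {r : SLRGD.Root m | r.1.1 < r.1.2 ∧ r ≠ ⟨(i.castSucc, i.succ), hab.ne⟩}, S.rootSub r :=
      fun q h1 h2 u => Subgroup.mem_iSup_of_mem q (Subgroup.mem_iSup_of_mem
        ⟨h1, fun e => h2 ⟨congrArg (fun r : SLRGD.Root m => r.1.1) e, congrArg (fun r : SLRGD.Root m => r.1.2) e⟩⟩
        ⟨u, rfl⟩)
    by_cases hbc : i.succ = c
    · subst hbc
      have had : i.castSucc < d := hab.trans hr'
      rw [S.conj_right hab.ne hcd had.ne]
      exact mul_mem (hmem ⟨(_, _), had.ne⟩ had (fun h => hr'.ne h.2.symm) _)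
        (hmem ⟨(i.succ, d), hcd⟩ hr' hne' t)
    by_cases had : i.castSucc = d
    · subst had
      have hcb : c < i.succ := hr'.trans hab
      rw [S.conj_left hcd hab.ne hcb.ne]
      exact mul_mem (hmem ⟨(_, _), hcb.ne⟩ hcb (fun h => hr'.ne h.1) _)
        (hmem ⟨(c, i.castSucc), hcd⟩ hr' hne' t)
    rw [S.conj_fix hab.ne hcd had hbc]
    exact hmem ⟨(c, d), hcd⟩ hr' hne' t
  rank_one := by
    rintro i _ ⟨t, rfl⟩ hy1
    have hab := (Fin.castSucc_lt_succ (i := i)).ne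
    have ht : t ≠ 0 := fun h => hy1 (h.symm ▸ S.x_zero hab.symm)
    refine ⟨_, ⟨t⁻¹, rfl⟩, S.h i.castSucc i.succ (-t⁻¹), S.h_mem i (neg_ne_zero.2 (inv_ne_zero ht)), _, ⟨t⁻¹, rfl⟩, ?_⟩
    have e1 : S.h i.castSucc i.succ (-t⁻¹) * S.n i.castSucc i.succ 1 = S.n i.castSucc i.succ (-t⁻¹) := by
      have e3 : S.n i.castSucc i.succ (-1) = (S.n i.castSucc i.succ 1)⁻¹ := by
        simp [n, wEl, ← S.x_neg hab, ← S.x_neg hab.symm, mul_assoc]
      rw [show S.h i.castSucc i.succ (-t⁻¹) = S.n i.castSucc i.succ (-t⁻¹) * S.n i.castSucc i.succ (-1) from rfl, e3,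
        inv_mul_cancel_right]
    show S.x i.succ i.castSucc t = S.x i.castSucc i.succ t⁻¹ * S.h i.castSucc i.succ (-t⁻¹) *
      S.n i.castSucc i.succ 1 * S.x i.castSucc i.succ t⁻¹
    rw [mul_assoc (S.x i.castSucc i.succ t⁻¹), e1, n, wEl, inv_neg, inv_inv, _root_.neg_neg,
      ← mul_assoc, ← mul_assoc, ← S.add _ _ _ _ hab, add_neg_cancel, S.x_zero hab, one_mul, mul_assoc,
      ← S.add _ _ _ _ hab, neg_add_cancel, S.x_zero hab, mul_one]
  U_ne_bot r h := by
    have h1 := S.x_mem r.2 1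
    rw [show (⟨(r.1.1, r.1.2), r.2⟩ : SLRGD.Root m) = r from rfl, h, Subgroup.mem_bot] at h1
    have h2 := congrArg (fun g => (S.th g : Matrix (Fin (m + 1)) (Fin (m + 1)) K) r.1.1 r.1.2) h1
    simp [S.th_x _ _ _ r.2, Matrix.transvection, Matrix.one_apply_ne r.2] at h2
  B_inf_V := by
    rw [eq_bot_iff]
    rintro g ⟨hgB, hgV⟩
    have hB : ((⨆ s ∈ {s : SLRGD.Root m | (SLRGD.slRGD K m).pos s}, S.rootSub s) ⊔ S.Hbar) ≤
        (SLRGD.slRGD K m).B.comap S.th := by
      refine sup_le (iSup₂_le fun s hs => ?_) fun z hz => Subgroup.mem_sup_right (S.th_mem_diag hz)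
      rintro _ ⟨t, rfl⟩
      exact RootData.Upos_le_B _ (RootData.U_le_Upos (SLRGD.slRGD K m) (r := s) hs ⟨t, S.th_eq s.2 t⟩)
    have hV : (⨆ s ∈ {s : SLRGD.Root m | ¬ (SLRGD.slRGD K m).pos s}, S.rootSub s) ≤
        (SLRGD.slRGD K m).Vneg.comap S.th ⊓
          S.genBy (↑(incr (m := m) fun k => -(k.val : ℤ)) : Set (Fin (m + 1) × Fin (m + 1))) := by
      refine iSup₂_le fun s hs => ?_
      rintro _ ⟨t, rfl⟩
      refine ⟨RootData.U_le_Vneg (SLRGD.slRGD K m) (r := s) hs ⟨t, S.th_eq s.2 t⟩, S.x_mem_incr ?_ t⟩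
      have h1 : ¬ s.1.1.val < s.1.2.val := hs
      have h2 : s.1.1.val ≠ s.1.2.val := Fin.val_ne_of_ne s.2
      omega
    have h1 : S.th g ∈ (SLRGD.slRGD K m).B ⊓ (SLRGD.slRGD K m).Vneg := ⟨hB hgB, (hV hgV).1⟩
    have h0 : (SLRGD.slRGD K m).B ⊓ (SLRGD.slRGD K m).Vneg = ⊥ := (SLRGD.slRGD K m).B_inf_V
    rw [h0, Subgroup.mem_bot] at h1
    exact S.eq_one_of_th (hV hgV).2 h1
  U_inf_H := by
    rw [eq_bot_iff]
    rintro g ⟨hgU, hgH⟩
    have hU : (⨆ s ∈ {s : SLRGD.Root m | (SLRGD.slRGD K m).pos s}, S.rootSub s) ≤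
        (SLRGD.slRGD K m).Upos.comap S.th ⊓
          S.genBy (↑(incr (m := m) fun k => (k.val : ℤ)) : Set (Fin (m + 1) × Fin (m + 1))) := by
      refine iSup₂_le fun s hs => ?_
      rintro _ ⟨t, rfl⟩
      refine ⟨RootData.U_le_Upos (SLRGD.slRGD K m) (r := s) hs ⟨t, S.th_eq s.2 t⟩, S.x_mem_incr ?_ t⟩
      have h1 : s.1.1.val < s.1.2.val := hs
      omega
    have h1 : S.th g ∈ (SLRGD.slRGD K m).Upos ⊓ (SLRGD.slRGD K m).H := ⟨(hU hgU).1, S.th_mem_diag hgH⟩
    have h0 : (SLRGD.slRGD K m).Upos ⊓ (SLRGD.slRGD K m).H = ⊥ := (SLRGD.slRGD K m).U_inf_H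
    rw [h0, Subgroup.mem_bot] at h1
    exact S.eq_one_of_th (hU hgU).2 h1

variable (hgen : Subgroup.closure {g | ∃ (i j : Fin (m + 1)) (t : K), i ≠ j ∧ g = S.x i j t} = ⊤)
include hgen

theorem rgd_G : (S.rgd h3).G = ⊤ := by
  obtain ⟨l, hl⟩ := SLRGD.exists_long K m
  set R := S.rgd h3
  have hl' : ∀ r, R.pos r → ¬ R.pos (R.ww l r) := hl
  rw [eq_top_iff, ← hgen]
  refine (Subgroup.closure_le _).2 ?_
  rintro g ⟨i, j, t, hij, rfl⟩
  by_cases hlt : i < j
  · exact R.B_le_G (R.Upos_le_B (R.U_le_Upos (r := ⟨(i, j), hij⟩) hlt ⟨t, rfl⟩))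
  · have hx : S.x i j t ∈ R.Vneg := R.U_le_Vneg (r := ⟨(i, j), hij⟩) hlt ⟨t, rfl⟩
    rw [← RootData.map_conj_long R hl'] at hx
    obtain ⟨u, hu, he⟩ := hx
    rw [SetLike.mem_coe, ← he]
    exact mul_mem (mul_mem (R.N_le_G (R.nw_mem_N l)) (R.B_le_G (R.Upos_le_B hu))) (inv_mem (R.N_le_G (R.nw_mem_N l)))

theorem ker_le_H : S.th.ker ≤ S.Hbar := by
  intro k hk
  rw [MonoidHom.mem_ker] at hk
  set R := S.rgd h3
  set C := SLRGD.slRGD K m
  obtain ⟨w, hw⟩ := BN.exists_mem_C R.bnPair ⟨k, by rw [S.rgd_G h3 hgen]; trivial⟩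
  induction w using QuotientGroup.induction_on with
  | H q =>
    obtain ⟨b, hb, b', hb', e⟩ := (BN.mem_C_mk R.bnPair).1 hw
    have hbB : (b : E) ∈ R.B := hb
    have hb'B : (b' : E) ∈ R.B := hb'
    obtain ⟨g, hg, l, hl⟩ := R.mem_N_iff.1 (show ((q : R.G) : E) ∈ R.N from q.2)
    have e' : k = (b : E) * (g * R.nw l) * (b' : E) := by rw [← hl]; exact congrArg Subtype.val e
    have hthU : ∀ z ∈ R.Upos, S.th z ∈ C.Upos := fun z hz => by
      have : R.Upos ≤ C.Upos.comap S.th := R.span_le fun r hr z hz => by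
        obtain ⟨t, rfl⟩ := hz
        exact C.U_le_Upos (r := r) hr ⟨t, S.th_eq r.2 t⟩
      exact this hz
    have hth : ∀ z ∈ R.B, S.th z ∈ C.B := fun z hz => by
      have : R.B ≤ C.B.comap S.th :=
        sup_le (fun z hz => C.Upos_le_B (hthU z hz)) fun z hz => C.H_le_B (S.th_mem_diag hz)
      exact this hz
    have hnw : ∀ l, S.th (R.nw l) = C.nw l := by
      intro l
      induction l with
      | nil => simp
      | cons i l ih =>
        rw [R.nw_cons, C.nw_cons, map_mul, ih]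
        congr 1
        show S.th (S.n i.castSucc i.succ 1) = SLRGD.nn K m i
        rw [S.th_n_one (Fin.castSucc_lt_succ (i := i)).ne, inv_one]
        rfl
    have h1 : S.th (R.nw l) ∈ C.B := by
      have : R.nw l = g⁻¹ * (b : E)⁻¹ * k * (b' : E)⁻¹ := by rw [e']; group
      rw [this, map_mul, map_mul, map_mul, map_inv, map_inv, map_inv, hk, mul_one]
      exact C.B.mul_mem (C.B.mul_mem (C.B.inv_mem (C.H_le_B (S.th_mem_diag hg))) (C.B.inv_mem (hth _ hbB)))
        (C.B.inv_mem (hth _ hb'B))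
    rw [hnw, C.nw_mem_B_iff, C.mem_H_iff] at h1
    have h2 : R.nw l ∈ R.H := R.mem_H_of_pos h1
    have hkB : k ∈ R.B := e' ▸ mul_mem (mul_mem hbB (R.H_le_B (mul_mem hg h2))) hb'B
    obtain ⟨u, hu, z, hz, rfl⟩ := R.exists_B hkB
    have h3' : S.th u ∈ C.Upos ⊓ C.H := by
      refine ⟨hthU u hu, ?_⟩
      have : S.th u = (S.th z)⁻¹ := eq_inv_of_mul_eq_one_left (by rw [← map_mul, hk])
      rw [this]
      exact C.H.inv_mem (S.th_mem_diag hz)
    have hUH : C.Upos ⊓ C.H = ⊥ := C.U_inf_H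
    rw [hUH, Subgroup.mem_bot] at h3'
    have hu' : u ∈ S.genBy (↑(incr (m := m) fun k => (k.val : ℤ)) : Set (Fin (m + 1) × Fin (m + 1))) := by
      have : R.Upos ≤ S.genBy (↑(incr (m := m) fun k => (k.val : ℤ)) : Set (Fin (m + 1) × Fin (m + 1))) :=
        R.span_le fun r hr z hz => by
          obtain ⟨t, rfl⟩ := hz
          refine S.x_mem_incr ?_ t
          have h1 : r.1.1.val < r.1.2.val := hr
          omega
      exact this hu
    rw [S.eq_one_of_th hu' h3', one_mul]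
    exact hz

theorem ker_le_center : S.th.ker ≤ Subgroup.center E := by
  intro k hk
  obtain ⟨χ, hχ⟩ := S.exists_char h3 (S.ker_le_H h3 hgen hk)
  rw [MonoidHom.mem_ker] at hk
  have hx : ∀ i j u, i ≠ j → k * S.x i j u = S.x i j u * k := by
    intro i j u hij
    have e := hχ i j u hij
    have e0 := congrArg (fun g => (S.th g : Matrix (Fin (m + 1)) (Fin (m + 1)) K) i j) e
    simp [hk, S.th_x i j _ hij, Matrix.transvection, Matrix.one_apply_ne hij] at e0
    rw [← e0] at e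
    exact mul_inv_eq_iff_eq_mul.1 e
  rw [Subgroup.mem_center_iff]
  intro g
  have hle : Subgroup.closure {g | ∃ (i j : Fin (m + 1)) (t : K), i ≠ j ∧ g = S.x i j t} ≤ Subgroup.centralizer {k} := by
    refine (Subgroup.closure_le _).2 ?_
    rintro z ⟨i, j, t, hij, rfl⟩
    rw [SetLike.mem_coe, Subgroup.mem_centralizer_iff]
    rintro y rfl
    exact hx i j t hij
  rw [hgen] at hle
  exact (Subgroup.mem_centralizer_iff.1 (hle (Subgroup.mem_top g)) k rfl).symm

variable [Finite K]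

theorem h_mul {a b : Fin (m + 1)} (hab : a ≠ b) {t u : K} (ht : t ≠ 0) (hu : u ≠ 0) :
    S.h a b t * S.h a b u = S.h a b (t * u) := by
  have R : RankOne (S.x a b) (S.x b a) := by
    refine ⟨fun p q => S.add _ _ p q hab, fun p q => S.add _ _ p q hab.symm, fun s v hs => ?_, fun s v hs => ?_,
      fun p q hp hq => ?_⟩
    · show S.n a b s * S.x a b v * (S.n a b s)⁻¹ = _
      rw [S.n_conj' h3 hab hab hs, Equiv.swap_apply_left, Equiv.swap_apply_right]
      congr 1
      simp only [nCoef, hab.symm, if_true, if_false, inv_neg, inv_inv]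
      ring
    · show S.n a b s * S.x b a v * (S.n a b s)⁻¹ = _
      rw [S.n_conj' h3 hab hab.symm hs, Equiv.swap_apply_left, Equiv.swap_apply_right]
      congr 1
      simp only [nCoef, hab.symm, if_true, if_false, inv_neg, inv_inv]
      ring
    · refine S.ker_le_center h3 hgen ?_
      show S.th (S.h a b p * S.h a b q * (S.h a b (p * q))⁻¹) = 1
      rw [map_mul, map_mul, map_inv, S.th_h hab hp, S.th_h hab hq, S.th_h hab (mul_ne_zero hp hq), mul_inv_eq_one]
      apply Subtype.ext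
      rw [Matrix.SpecialLinearGroup.coe_mul, Matrix.SpecialLinearGroup.diag2n_coe,
        Matrix.SpecialLinearGroup.diag2n_coe, Matrix.SpecialLinearGroup.diag2n_coe, Matrix.diagonal_mul_diagonal]
      congr 1
      ext k
      split_ifs <;> simp [mul_comm]
  exact R.hEl_mul ht hu

theorem th_injective : Function.Injective S.th := by
  have hab : ∀ i : Fin m, i.castSucc ≠ i.succ := fun i => (Fin.castSucc_lt_succ (i := i)).ne
  let hHom : Fin m → (Kˣ →* E) := fun i =>
    MonoidHom.mk' (fun t => S.h i.castSucc i.succ (t : K)) fun p q => by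
      show S.h i.castSucc i.succ ((p * q : Kˣ) : K) = _
      rw [Units.val_mul, S.h_mul h3 hgen (hab i) p.ne_zero q.ne_zero]
  have hcomm : Pairwise fun i j : Fin m => ∀ x y : Kˣ, Commute (hHom i x) (hHom j y) := by
    intro i j _ x y
    show Commute (S.h i.castSucc i.succ (x : K)) (S.h j.castSucc j.succ (y : K))
    set c : K := hCoef i.castSucc i.succ (x : K) j.castSucc * (hCoef i.castSucc i.succ (x : K) j.succ)⁻¹ with hc
    have hne : ∀ k, hCoef i.castSucc i.succ (x : K) k ≠ 0 := fun k => by unfold hCoef; split_ifs <;> simp [x.ne_zero]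
    have hc0 : c ≠ 0 := mul_ne_zero (hne _) (inv_ne_zero (hne _))
    set g := S.h i.castSucc i.succ (x : K) with hgdef
    have e1 : ∀ v : K, g * S.n j.castSucc j.succ v * g⁻¹ = S.n j.castSucc j.succ (c * v) := fun v => by
      rw [n, n, wEl, wEl, show ∀ A B : E, g * (A * B * A) * g⁻¹ = g * A * g⁻¹ * (g * B * g⁻¹) * (g * A * g⁻¹) from
        fun A B => by group, hgdef, S.h_conj' h3 (hab i) (hab j) x.ne_zero,
        S.h_conj' h3 (hab i) (hab j).symm x.ne_zero, ← hc]
      congr 3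
      rw [hc, mul_inv, mul_inv, inv_inv, mul_neg]
      ring
    have e2 : g * S.h j.castSucc j.succ (y : K) * g⁻¹ = S.h j.castSucc j.succ (y : K) := by
      have hh : ∀ v, S.h j.castSucc j.succ v = S.n j.castSucc j.succ v * S.n j.castSucc j.succ (-1) := fun _ => rfl
      have hinv : S.n j.castSucc j.succ (c * -1) = (S.n j.castSucc j.succ c)⁻¹ := by
        simp [n, wEl, ← S.x_neg (hab j), ← S.x_neg (hab j).symm, mul_assoc, inv_neg]
      have hw : ∀ v, S.n j.castSucc j.succ v = S.h j.castSucc j.succ v * (S.n j.castSucc j.succ (-1))⁻¹ := fun v => by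
        rw [hh, mul_inv_cancel_right]
      conv_lhs => rw [hh]
      rw [show g * (S.n j.castSucc j.succ (y : K) * S.n j.castSucc j.succ (-1)) * g⁻¹ =
        g * S.n j.castSucc j.succ (y : K) * g⁻¹ * (g * S.n j.castSucc j.succ (-1) * g⁻¹) by group, e1, e1, hinv,
        hw, hw c, mul_comm c, ← S.h_mul h3 hgen (hab j) y.ne_zero hc0]
      group
    exact mul_inv_eq_iff_eq_mul.1 e2
  let T := MonoidHom.noncommPiCoprod hHom hcomm
  rw [injective_iff_map_eq_one]
  intro k hk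
  have hrange : S.Hbar ≤ T.range := by
    rw [MonoidHom.noncommPiCoprod_range]
    refine (Subgroup.closure_le _).2 ?_
    rintro g ⟨i, t, ht, rfl⟩
    exact Subgroup.mem_iSup_of_mem i ⟨Units.mk0 t ht, rfl⟩
  obtain ⟨t, rfl⟩ := hrange (S.ker_le_H h3 hgen (MonoidHom.mem_ker.2 hk))
  -- the diagonal entries determine t
  have hdiag : ∀ t : Fin m → Kˣ, (S.th (T t) : Matrix (Fin (m + 1)) (Fin (m + 1)) K) =
      Matrix.diagonal fun k => ((∏ i : Fin m, (if k = i.castSucc then t i else if k = i.succ then (t i)⁻¹ else 1) : Kˣ) : K) := by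
    let D₂ : (Fin m → Kˣ) →* Matrix (Fin (m + 1)) (Fin (m + 1)) K :=
      { toFun := fun t => Matrix.diagonal fun k =>
          ((∏ i : Fin m, (if k = i.castSucc then t i else if k = i.succ then (t i)⁻¹ else 1) : Kˣ) : K)
        map_one' := by rw [← Matrix.diagonal_one]; congr 1; ext k; simp
        map_mul' := fun p q => by
          rw [Matrix.diagonal_mul_diagonal]
          congr 1
          ext k
          rw [← Units.val_mul, ← Finset.prod_mul_distrib]
          congr 1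
          refine Finset.prod_congr rfl fun i _ => ?_
          split_ifs <;> simp [mul_comm] }
    let D₁ : (Fin m → Kˣ) →* Matrix (Fin (m + 1)) (Fin (m + 1)) K :=
      { toFun := fun t => (S.th (T t) : Matrix (Fin (m + 1)) (Fin (m + 1)) K)
        map_one' := by rw [map_one, map_one]; rfl
        map_mul' := fun p q => by rw [map_mul, map_mul]; rfl }
    have : D₁ = D₂ := (MonoidHom.noncommPiCoprodEquiv (N := fun _ : Fin m => Kˣ)).symm.injective
      (Subtype.ext (funext fun i => MonoidHom.ext fun y => by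
        show D₁ (Pi.mulSingle i y) = D₂ (Pi.mulSingle i y)
        show (S.th (T (Pi.mulSingle i y)) : Matrix (Fin (m + 1)) (Fin (m + 1)) K) = Matrix.diagonal _
        rw [MonoidHom.noncommPiCoprod_mulSingle]
        show (S.th (S.h i.castSucc i.succ (y : K)) : Matrix (Fin (m + 1)) (Fin (m + 1)) K) = _
        rw [S.th_h (hab i) y.ne_zero, Matrix.SpecialLinearGroup.diag2n_coe]
        congr 1
        funext k
        rw [Fintype.prod_eq_single i fun j hj => by simp [Pi.mulSingle_eq_of_ne hj]]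
        simp only [Pi.mulSingle_eq_same]
        split_ifs <;> simp))
    exact fun t => DFunLike.congr_fun this t
  suffices t = 1 by rw [this, map_one]
  have hprod : ∀ k, (∏ i : Fin m, (if k = i.castSucc then t i else if k = i.succ then (t i)⁻¹ else 1)) = 1 := by
    intro k
    have e := congrArg (fun M : Matrix (Fin (m + 1)) (Fin (m + 1)) K => M k k)
      ((hdiag t).symm.trans (congrArg (fun g : Matrix.SpecialLinearGroup (Fin (m + 1)) K =>
        (g : Matrix (Fin (m + 1)) (Fin (m + 1)) K)) hk))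
    simp only [Matrix.diagonal_apply_eq, Matrix.SpecialLinearGroup.coe_one, Matrix.one_apply_eq] at e
    exact Units.val_eq_one.1 e
  funext i
  induction hi : i.val using Nat.strong_induction_on generalizing i with
  | _ q ih =>
    have e := hprod i.castSucc
    rw [Fintype.prod_eq_single i] at e
    · simpa using e
    · intro j hj
      rw [if_neg fun e => hj (Fin.castSucc_injective _ e.symm)]
      by_cases hs : i.castSucc = j.succ
      · rw [if_pos hs, ih j.val (by have := congrArg Fin.val hs; simp at this; omega) j rfl]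
        simp
      · rw [if_neg hs]

end ASys

end Cfsg.Agent.ChevSt
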