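/-
Steinberg presentations, part 1: additive functions on the roots of a `Good` datum.

* `IsLin D f`: f is odd and additive along `chainRoot`.
* `isLin_pairing`, `exists_ortho` (kills r, positive on s), `exists_both_pos` (positive on r and s).
* `IsLin.chain`, `IsLin.refl`, `IsLin.commTerms`: values along chains, under reflections, on commutator terms.
-/
import Cfsg.Agent.Lib.Chev.Good

set_option autoImplicit false

namespace Cfsg.Agent.ChevSt

open Cfsg.Lie Cfsg.Lie.ChevalleyDatum Cfsg.Agent.Chev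

/-- An odd function on the roots, additive along `chainRoot`. -/
structure IsLin (D : ChevalleyDatum) (f : ℕ → ℤ) : Prop where
  add : ∀ r < D.nroots, ∀ s < D.nroots, ∀ k, D.chainRoot r s 1 = some k → f k = f r + f s
  neg : ∀ r < D.nroots, f (D.neg r) = -f r

variable {D : ChevalleyDatum}

theorem chainRoot_lt (hD : Good D) {r s k : ℕ} (hr : r < D.nroots) (hs : s < D.nroots)
    (h : D.chainRoot r s 1 = some k) : k < D.nroots :=
  (hD.cartan_add r hr s hs k h).1

theorem isLin_cartan (hD : Good D) {i : ℕ} (hi : i < D.rank) : IsLin D (fun q => D.cartan i q) :=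
  ⟨fun r hr s hs k h => (hD.cartan_add r hr s hs k h).2 i hi, fun r hr => hD.cartan_neg r hr i hi⟩

theorem IsLin.smul {f : ℕ → ℤ} (h : IsLin D f) (a : ℤ) : IsLin D (fun q => a * f q) :=
  ⟨fun r hr s hs k hk => by simp only [h.add r hr s hs k hk, mul_add],
    fun r hr => by simp only [h.neg r hr, mul_neg]⟩

theorem IsLin.addFun {f g : ℕ → ℤ} (h : IsLin D f) (h' : IsLin D g) : IsLin D (fun q => f q + g q) :=
  ⟨fun r hr s hs k hk => by simp only [h.add r hr s hs k hk, h'.add r hr s hs k hk]; ring,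
    fun r hr => by simp only [h.neg r hr, h'.neg r hr]; ring⟩

theorem isLin_pairing (hD : Good D) (a : ℕ) : IsLin D (fun q => D.pairing a q) := by
  constructor
  · intro r hr s hs k hk
    simp only [pairing_eq_sum, ← Finset.sum_add_distrib]
    exact Finset.sum_congr rfl fun i _ => by rw [(hD.cartan_add r hr s hs k hk).2 i.val i.isLt, mul_add]
  · intro r hr
    exact hD.pairing_neg_right a hr

theorem stepOK_getElem (hD : Good D) {f : ℕ → ℤ} (hf : IsLin D f) {r : ℕ} (hr : r < D.nroots) :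
    ∀ {L : List (ℕ × ℤ)} {k : ℕ} {M : ℤ} {q : ℕ}, StepOK D r L k M q →
      ∀ {i : ℕ} {u : ℕ × ℤ}, L[i]? = some u →
        u.1 < D.nroots ∧ u.1 ≠ r ∧ u.1 ≠ D.neg r ∧ f u.1 = (i + 1 : ℕ) * f r + f q
  | [], _, _, _, _, i, u, h => by simp at h
  | (q', M') :: L, k, M, q, hS, i, u, h => by
    obtain ⟨hq, -, -, hstep, -, hrest⟩ := hS
    have hadd := hf.add r hr q hq q' hstep
    have hq' : q' < D.nroots ∧ q' ≠ r ∧ q' ≠ D.neg r := by
      cases L with
      | nil => exact ⟨hrest.1, hrest.2.1, hrest.2.2.1⟩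
      | cons a L => exact ⟨hrest.1, hrest.2.1, hrest.2.2.1⟩
    cases i with
    | zero =>
      simp only [List.getElem?_cons_zero, Option.some.injEq] at h
      subst h
      exact ⟨hq'.1, hq'.2.1, hq'.2.2, by simp [hadd]⟩
    | succ i =>
      simp only [List.getElem?_cons_succ] at h
      obtain ⟨h1, h2, h3, h4⟩ := stepOK_getElem hD hf hr hrest h
      exact ⟨h1, h2, h3, by rw [h4, hadd]; push_cast; ring⟩

/-- The value at the i-th root of a chain. -/
theorem IsLin.chain (hD : Good D) {f : ℕ → ℤ} (hf : IsLin D f) {r s i k : ℕ} (hr : r < D.nroots)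
    (hs : s < D.nroots) (h₁ : s ≠ r) (h₂ : s ≠ D.neg r) (hi : 1 ≤ i) (h : D.chainRoot r s i = some k) :
    k < D.nroots ∧ k ≠ r ∧ k ≠ D.neg r ∧ f k = i * f r + f s := by
  simp only [ChevalleyDatum.chainRoot, Option.map_eq_some_iff] at h
  obtain ⟨u, hu, rfl⟩ := h
  have := stepOK_getElem hD hf hr (hD.step r hr s hs h₁ h₂) hu
  rwa [Nat.sub_add_cancel hi] at this

theorem refl_lt (hD : Good D) {r s : ℕ} (hr : r < D.nroots) (hs : s < D.nroots) :
    Chev.refl D r s < D.nroots := by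
  by_cases h₁ : s = r
  · simp [Chev.refl, h₁, hD.neg_lt r hr]
  by_cases h₂ : s = D.neg r
  · simp [Chev.refl, h₂, hD.neg_ne r hr, hr]
  · exact (hD.nword r hr s hs h₁ h₂).2.1

theorem refl_refl (hD : Good D) {r s : ℕ} (hr : r < D.nroots) (hs : s < D.nroots) :
    Chev.refl D r (Chev.refl D r s) = s := by
  by_cases h₁ : s = r
  · subst h₁
    simp [Chev.refl, hD.neg_ne s hr]
  by_cases h₂ : s = D.neg r
  · subst h₂
    simp [Chev.refl, hD.neg_ne r hr]
  · exact (hD.nword r hr s hs h₁ h₂).2.2.1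

theorem neg_neg' (hD : Good D) {r : ℕ} (hr : r < D.nroots) : D.neg (D.neg r) = r := hD.neg_neg r hr

/-- The value at a reflected root. -/
theorem IsLin.refl (hD : Good D) {f : ℕ → ℤ} (hf : IsLin D f) {r s : ℕ} (hr : r < D.nroots)
    (hs : s < D.nroots) : f (Chev.refl D r s) = f s - D.pairing r s * f r := by
  have hn := hD.neg_lt r hr
  by_cases h₁ : s = r
  · subst h₁
    rw [show Chev.refl D s s = D.neg s by simp [Chev.refl], hf.neg s hr, hD.pairing_self s hr]
    ring
  by_cases h₂ : s = D.neg r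
  · subst h₂
    rw [show Chev.refl D r (D.neg r) = r by simp [Chev.refl, h₁], hf.neg r hr, hD.pairing_neg_right r hr,
      hD.pairing_self r hr]
    ring
  have hw := hD.nword r hr s hs h₁ h₂
  have hP : D.pairing r (Chev.refl D r s) = -D.pairing r s := hw.2.2.2.2.2.1
  have hQ := (isLin_pairing hD r)
  unfold Chev.refl at hP ⊢
  rw [if_neg h₁, if_neg h₂] at hP ⊢
  split_ifs at hP ⊢ with hp hm
  · cases hk : D.chainRoot (D.neg r) s (D.pairing r s).toNat with
    | none =>
      rw [hk] at hP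
      simp at hP
      omega
    | some k =>
      have h' := (hf.chain hD hn hs h₂ (by rw [neg_neg' hD hr]; exact h₁) (by omega) hk).2.2.2
      simp only [Option.getD_some, h', hf.neg r hr, Int.toNat_of_nonneg hp.le]
      ring
  · cases hk : D.chainRoot r s (-D.pairing r s).toNat with
    | none =>
      rw [hk] at hP
      simp at hP
      omega
    | some k =>
      have h' := (hf.chain hD hr hs h₁ h₂ (by omega) hk).2.2.2
      simp only [Option.getD_some, h', Int.toNat_of_nonneg (by omega : (0 : ℤ) ≤ -D.pairing r s)]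
      ring
  · have : D.pairing r s = 0 := by omega
    rw [this]; ring

/-- The value at a term of the commutator formula. -/
theorem IsLin.commTerms (hD : Good D) {f : ℕ → ℤ} (hf : IsLin D f) {r s : ℕ} (hr : r < D.nroots)
    (hs : s < D.nroots) (h₁ : s ≠ r) (h₂ : s ≠ D.neg r) {τ : ℕ × ℤ × ℕ × ℕ} (h : τ ∈ D.commTerms r s) :
    τ.1 < D.nroots ∧ 1 ≤ τ.2.2.1 ∧ 1 ≤ τ.2.2.2 ∧ f τ.1 = τ.2.2.1 * f r + τ.2.2.2 * f s := by
  have h₁' : r ≠ s := Ne.symm h₁
  have h₂' : r ≠ D.neg s := fun e => h₂ (by rw [e, neg_neg' hD hs])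
  have hc : ∀ {i k : ℕ}, 1 ≤ i → D.chainRoot r s i = some k → k < D.nroots ∧ f k = i * f r + f s :=
    fun hi hk => ⟨(hf.chain hD hr hs h₁ h₂ hi hk).1, (hf.chain hD hr hs h₁ h₂ hi hk).2.2.2⟩
  have hc' : ∀ {i k : ℕ}, 1 ≤ i → D.chainRoot s r i = some k → k < D.nroots ∧ f k = i * f s + f r :=
    fun hi hk => ⟨(hf.chain hD hs hr h₁' h₂' hi hk).1, (hf.chain hD hs hr h₁' h₂' hi hk).2.2.2⟩
  simp only [ChevalleyDatum.commTerms, List.mem_filterMap, List.mem_cons, List.not_mem_nil, or_false] at h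
  obtain ⟨c, hc0, hg⟩ := h
  rcases hc0 with rfl | rfl | rfl | rfl | rfl | rfl | rfl <;>
    simp only [Option.map_eq_some_iff, Option.bind_eq_some_iff] at hg
  · obtain ⟨k, hk, rfl⟩ := hg
    obtain ⟨h3, h4⟩ := hc le_rfl hk
    exact ⟨h3, le_rfl, le_rfl, by rw [h4]; simp⟩
  · obtain ⟨k, hk, rfl⟩ := hg
    obtain ⟨h3, h4⟩ := hc (by norm_num) hk
    exact ⟨h3, by norm_num, le_rfl, by rw [h4]; simp⟩
  · obtain ⟨k, hk, rfl⟩ := hg
    obtain ⟨h3, h4⟩ := hc' (by norm_num) hk
    exact ⟨h3, le_rfl, by norm_num, by rw [h4]; simp; ring⟩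
  · obtain ⟨k, hk, rfl⟩ := hg
    obtain ⟨h3, h4⟩ := hc (by norm_num) hk
    exact ⟨h3, by norm_num, le_rfl, by rw [h4]; simp⟩
  · obtain ⟨k, hk, rfl⟩ := hg
    obtain ⟨h3, h4⟩ := hc' (by norm_num) hk
    exact ⟨h3, le_rfl, by norm_num, by rw [h4]; simp; ring⟩
  · obtain ⟨k, ⟨k', hk', hk⟩, rfl⟩ := hg
    obtain ⟨h3, h4⟩ := hc (by norm_num) hk'
    refine ⟨chainRoot_lt hD h3 hs hk, by norm_num, by norm_num, ?_⟩
    rw [hf.add k' h3 s hs k hk, h4]; push_cast; ring
  · obtain ⟨k, ⟨k', hk', hk⟩, rfl⟩ := hg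
    obtain ⟨h3, h4⟩ := hc' (by norm_num) hk'
    refine ⟨chainRoot_lt hD h3 hr hk, by norm_num, by norm_num, ?_⟩
    rw [hf.add k' h3 r hr k hk, h4]; push_cast; ring

/-- A linear function killing r and positive on s, when ⟨r,s⟩⟨s,r⟩ < 4. -/
theorem exists_ortho (hD : Good D) {r s : ℕ} (hr : r < D.nroots) (hs : s < D.nroots)
    (h : D.pairing r s * D.pairing s r < 4) : ∃ f, IsLin D f ∧ f r = 0 ∧ 0 < f s := by
  refine ⟨_, ((isLin_pairing hD s).smul 2).addFun ((isLin_pairing hD r).smul (-D.pairing s r)), ?_, ?_⟩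
  · simp only [hD.pairing_self r hr]; ring
  · simp only [hD.pairing_self s hs]; nlinarith

/-- A linear function positive on r and on s, when ⟨r,s⟩⟨s,r⟩ < 4. -/
theorem exists_both_pos (hD : Good D) {r s : ℕ} (hr : r < D.nroots) (hs : s < D.nroots)
    (h : D.pairing r s * D.pairing s r < 4) : ∃ f, IsLin D f ∧ 0 < f r ∧ 0 < f s := by
  refine ⟨_, ((isLin_pairing hD r).smul (2 - D.pairing s r)).addFun
    ((isLin_pairing hD s).smul (2 - D.pairing r s)), ?_, ?_⟩
  · simp only [hD.pairing_self r hr]; nlinarith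
  · simp only [hD.pairing_self s hs]; nlinarith

end Cfsg.Agent.ChevSt
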