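/-
Steinberg presentations, part 3: conjugation of root elements by n_r(t) as matrices, over any field.

* `nMat_conj`: n_r(t) x_s(u) = x_{w_r s}(η t^(-⟨r,s⟩) u) n_r(t).
-/
import Cfsg.Agent.Lib.ChevSt.Linear

set_option autoImplicit false

namespace Cfsg.Agent.ChevSt

open Cfsg.Lie Cfsg.Lie.ChevalleyDatum Cfsg.Agent.Chev Matrix Polynomial
open scoped LaurentPolynomial

variable {D : ChevalleyDatum}

/-- n_r(t) over a ring, given the inverse of t. -/
def nR (D : ChevalleyDatum) (R : Type*) [CommRing R] (r : ℕ) (t t' : R) : Matrix D.Idx D.Idx R :=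
  xR D R r t * xR D R (D.neg r) (-t') * xR D R r t

theorem nR_map {R S : Type*} [CommRing R] [CommRing S] (f : R →+* S) (r : ℕ) (t t' : R) :
    (nR D R r t t').map f = nR D S r (f t) (f t') := by
  simp [nR, Matrix.map_mul, xR_map]

theorem nMat_eq_nR (hD : Good D) {F : Type*} [Field F] {r : ℕ} (hr : r < D.nroots) (t : F) :
    D.nMat F r t = nR D F r t t⁻¹ :=
  hD.nMat_eq hr t

theorem nR_ad (hD : Good D) {R : Type*} [CommRing R] {r : ℕ} (hr : r < D.nroots) (t t' : R) (v : D.Idx → R) :
    nR D R r t t' * ad D R v = ad D R (nR D R r t t' *ᵥ v) * nR D R r t t' := by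
  have hn := hD.neg_lt r hr
  simp only [nR, Matrix.mul_assoc]
  rw [hD.xR_conj hr, ← Matrix.mul_assoc (xR D R (D.neg r) (-t')), hD.xR_conj hn, Matrix.mul_assoc,
    ← Matrix.mul_assoc (xR D R r t), hD.xR_conj hr, Matrix.mulVec_mulVec, Matrix.mulVec_mulVec]
  simp only [Matrix.mul_assoc]

/-- n_r(t) x_s(u) = x_{w_r s}(η t^(-⟨r,s⟩) u) n_r(t). -/
theorem nMat_conj (hD : Good D) {F : Type*} [Field F] {r s : ℕ} (hr : r < D.nroots) (hs : s < D.nroots)
    {t : F} (ht : t ≠ 0) (u : F) :
    D.nMat F r t * D.x F s u =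
      D.x F (Chev.refl D r s) ((nSign D r s : F) * t ^ (-D.pairing r s) * u) * D.nMat F r t := by
  set w := Chev.refl D r s with hwdef
  have hw : w < D.nroots := refl_lt hD hr hs
  set R := ℤ[T;T⁻¹] with hR
  set N : Matrix D.Idx D.Idx R := nR D R r (LaurentPolynomial.T 1) (LaurentPolynomial.T (-1)) with hN
  set c : R := (nSign D r s : R) * LaurentPolynomial.T (-D.pairing r s) with hc
  have hTz : ∀ {S : Type} [Field S] (f : R →+* S), f (LaurentPolynomial.T 1) ≠ 0 →
      ∀ z : ℤ, f (LaurentPolynomial.T z) = f (LaurentPolynomial.T 1) ^ z := by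
    intro S _ f h0 z
    induction z using Int.induction_on with
    | zero => simp
    | succ i ih => rw [LaurentPolynomial.T_add, map_mul, ih, zpow_add_one₀ h0]
    | pred i ih => rw [sub_eq_add_neg, LaurentPolynomial.T_add, map_mul, ih, ← sub_eq_add_neg, zpow_sub_one₀ h0]
                   congr 1
                   refine eq_inv_of_mul_eq_one_left ?_
                   rw [← map_mul, ← LaurentPolynomial.T_add]; simp
  haveI : CharZero R := charZero_of_injective_ringHom (f := (LaurentPolynomial.C : ℤ →+* R))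
    (fun a b h => by
      have := congrArg (LaurentPolynomial.eval₂ (Int.castRingHom ℚ) 1) h
      simpa using this)
  have hev : N *ᵥ ev D R s = c • ev D R w := by
    let K := FractionRing R
    let f : R →+* K := algebraMap R K
    have hinj : Function.Injective f := IsFractionRing.injective R K
    have hT0 : f (LaurentPolynomial.T 1) ≠ 0 := fun h =>
      one_ne_zero (α := R) (by
        have : (LaurentPolynomial.T 1 : R) = 0 := hinj (h.trans (map_zero f).symm)
        rw [← LaurentPolynomial.T_zero, show (0 : ℤ) = 1 + (-1) by norm_num, LaurentPolynomial.T_add, this, zero_mul])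
    have hz : ∀ z : ℤ, f (LaurentPolynomial.T z) = f (LaurentPolynomial.T 1) ^ z := hTz f hT0
    apply hinj.comp_left
    show f ∘ (N *ᵥ ev D R s) = f ∘ (c • ev D R w)
    rw [comp_mulVec, ev_map, hN, nR_map, hz (-1), _root_.zpow_neg_one, ← nMat_eq_nR hD hr, hD.n_root hr hs hT0]
    ext a
    have := congrFun (ev_map D f w) a
    simp only [Function.comp_apply] at this
    rw [Function.comp_apply, Pi.smul_apply, Pi.smul_apply, smul_eq_mul, smul_eq_mul, map_mul, this, hc, map_mul,
      map_intCast, hz (-D.pairing r s), hz 1, _root_.zpow_one, hwdef]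
  have H : N * adE D R s = c • (adE D R w * N) := by
    rw [← ad_ev D hs, nR_ad hD hr, ← hN, hev, map_smul, ad_ev D hw, Matrix.smul_mul]
  have key : N.map C * xR D R[X] s X = xR D R[X] w (C c * X) * N.map C := by
    refine ode_unique (c • adE D R w) _ _ ?_ ?_ ?_
    · rw [dM_mul, dM_map_C, zero_mul, zero_add, hD.dM_xR' hs, derivative_X, one_smul,
        ← adE_map D (C : R →+* R[X]) s, ← mul_assoc, ← Matrix.map_mul, H]
      rw [Matrix.map_smul' C c _ (fun _ _ => C_mul), Matrix.map_smul' C c _ (fun _ _ => C_mul), Matrix.map_mul]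
      simp only [Matrix.smul_mul, mul_assoc]
    · rw [dM_mul, dM_map_C, mul_zero, add_zero, hD.dM_xR' hw, derivative_C_mul, derivative_X, mul_one,
        ← adE_map D (C : R →+* R[X]) w]
      rw [Matrix.map_smul' C c _ (fun _ _ => C_mul)]
      simp only [Matrix.smul_mul, mul_assoc]
    · rw [← coe_evalRingHom, Matrix.map_mul, Matrix.map_mul, xR_map, xR_map]
      simp [hD.xR_zero' hs, hD.xR_zero' hw]
  let g : R →+* F := LaurentPolynomial.eval₂ (Int.castRingHom F) (Units.mk0 t ht)
  have hgT : ∀ z : ℤ, g (LaurentPolynomial.T z) = t ^ z := fun z => by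
    show LaurentPolynomial.eval₂ _ _ (LaurentPolynomial.T z) = _
    rw [LaurentPolynomial.eval₂_T, Units.val_zpow_eq_zpow_val, Units.val_mk0]
  have hmapN : N.map g = D.nMat F r t := by
    rw [hN, nR_map, hgT, hgT, zpow_one, _root_.zpow_neg_one, nMat_eq_nR hD hr]
  have h := congrArg (fun M : Matrix D.Idx D.Idx R[X] => M.map (eval₂RingHom g u)) key
  simp only [Matrix.map_mul, xR_map, Matrix.map_map] at h
  have hC : (fun z => eval₂RingHom g u (C z)) = fun z => g z := by
    funext z; simp
  simp only [Function.comp_def, hC, hmapN, coe_eval₂RingHom, eval₂_X, eval₂_mul, eval₂_C] at h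
  rw [x_eq_xR D hs, x_eq_xR D hw, h, hc, map_mul, map_intCast, hgT]

end Cfsg.Agent.ChevSt
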