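/-
Steinberg presentations, part 4: each fundamental root and its negative occur in a suitable commutator word.

* `Decomp D r`: roots a, b, independent of r, whose commutator word has exactly one term at r, with unit coefficient.
* `exists_decomp`: for the seven data, `r = ± simple i`.
-/
import Cfsg.Agent.Lib.ChevBN.RootTables

set_option autoImplicit false
set_option maxRecDepth 100000

namespace Cfsg.Agent.ChevSt

open Cfsg.Lie Cfsg.Lie.ChevalleyDatum

/-- The root r occurs exactly once in a commutator word, with coefficient ±1 and an exponent 1. -/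
def Decomp (D : ChevalleyDatum) (r : ℕ) : Prop :=
  ∃ a b, a < D.nroots ∧ b < D.nroots ∧ a ≠ r ∧ a ≠ D.neg r ∧ b ≠ r ∧ b ≠ D.neg r ∧ b ≠ a ∧ b ≠ D.neg a ∧
    D.pairing a b * D.pairing b a < 4 ∧
    ∃ L₁ τ L₂, D.commTerms a b = L₁ ++ τ :: L₂ ∧ τ.1 = r ∧ (∀ σ ∈ L₁ ++ L₂, σ.1 ≠ r) ∧
      (τ.2.1 = 1 ∨ τ.2.1 = -1) ∧ (τ.2.2.1 = 1 ∨ τ.2.2.2 = 1)

/-- The test for a pair. -/
def condB (D : ChevalleyDatum) (r a b : ℕ) : Bool :=
  decide (a < D.nroots ∧ b < D.nroots ∧ a ≠ r ∧ a ≠ D.neg r ∧ b ≠ r ∧ b ≠ D.neg r ∧ b ≠ a ∧ b ≠ D.neg a) &&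
    ((D.commTerms a b).countP (fun τ => τ.1 == r) == 1) &&
    ((D.commTerms a b).any fun τ => τ.1 == r && decide ((τ.2.1 = 1 ∨ τ.2.1 = -1) ∧ (τ.2.2.1 = 1 ∨ τ.2.2.2 = 1))) &&
    decide (D.pairing a b * D.pairing b a < 4)

/-- Search for a pair. -/
def decompB (D : ChevalleyDatum) (r : ℕ) : Bool :=
  (List.range D.nroots).any fun a => [1, 2, 3].any fun k =>
    match D.chainRoot (D.neg a) r k with
    | some b => condB D r a b
    | none => false

/-- All checks of a datum. -/
def decompAllB (D : ChevalleyDatum) : Bool :=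
  (List.range D.rank).all fun i => decompB D (D.simple i) && decompB D (D.neg (D.simple i))

theorem decomp_of_decompB {D : ChevalleyDatum} {r : ℕ} (h : decompB D r = true) : Decomp D r := by
  simp only [decompB, List.any_eq_true] at h
  obtain ⟨a, -, k, -, h⟩ := h
  split at h
  swap
  · cases h
  rename_i b _
  simp only [condB, Bool.and_eq_true, decide_eq_true_eq, beq_iff_eq, List.any_eq_true] at h
  obtain ⟨⟨⟨⟨h1, h2, h3, h4, h5, h6, h7, h8⟩, hc⟩, ⟨τ, hτ, hτr, hu⟩⟩, hp⟩ := h
  obtain ⟨L₁, L₂, e⟩ := List.append_of_mem hτ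
  refine ⟨a, b, h1, h2, h3, h4, h5, h6, h7, h8, hp, L₁, τ, L₂, e, hτr, fun σ hσ hσr => ?_, hu.1, hu.2⟩
  rw [e, List.countP_append, List.countP_cons_of_pos (by simpa using hτr)] at hc
  have h0 : L₁.countP (fun τ => τ.1 == r) = 0 ∧ L₂.countP (fun τ => τ.1 == r) = 0 := by omega
  rcases List.mem_append.1 hσ with hm | hm
  · exact absurd hσr (by simpa using List.countP_eq_zero.1 h0.1 σ hm)
  · exact absurd hσr (by simpa using List.countP_eq_zero.1 h0.2 σ hm)

theorem decompAllB_G2 : decompAllB chevG2 = true := by decide +kernel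
theorem decompAllB_B2 : decompAllB chevB2 = true := by decide +kernel
theorem decompAllB_D4 : decompAllB chevD4 = true := by decide +kernel
theorem decompAllB_F4 : decompAllB chevF4 = true := by decide +kernel
theorem decompAllB_E6 : decompAllB chevE6 = true := by decide +kernel
theorem decompAllB_E7 : decompAllB chevE7 = true := by decide +kernel
theorem decompAllB_E8 : decompAllB chevE8 = true := by decide +kernel

/-- Decompositions of the fundamental roots and their negatives. -/
theorem exists_decomp (D : ChevalleyDatum)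
    (hD : D ∈ [chevG2, chevB2, chevD4, chevF4, chevE6, chevE7, chevE8]) {i : ℕ} (hi : i < D.rank) :
    Decomp D (D.simple i) ∧ Decomp D (D.neg (D.simple i)) := by
  have h : decompAllB D = true := by
    simp only [List.mem_cons, List.not_mem_nil, or_false] at hD
    rcases hD with rfl | rfl | rfl | rfl | rfl | rfl | rfl
    exacts [decompAllB_G2, decompAllB_B2, decompAllB_D4, decompAllB_F4, decompAllB_E6, decompAllB_E7,
      decompAllB_E8]
  simp only [decompAllB, List.all_eq_true, List.mem_range, Bool.and_eq_true] at h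
  exact ⟨decomp_of_decompB (h i hi).1, decomp_of_decompB (h i hi).2⟩

end Cfsg.Agent.ChevSt
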