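/-
Steinberg presentations, part 2: groups with root elements satisfying (R1), (R2), mapped to the matrix group.

* `Sys D F E`: elements `x r t` of `E` with the relations and a hom `th` to GL with `th (x r t) = x_r(t)`.
* `Sys.halfU f`: generated by the `x q t` with `0 < f q`.
* `Sys.th_injOn_halfU`: `th` is injective on it.
* `Sys.x_mem_normalizer`: `x r t` normalises `halfU f` when `f r = 0`; `Sys.comm_mem`.
-/
import Cfsg.Agent.Lib.ChevSt.Linear

set_option autoImplicit false

namespace Cfsg.Agent.ChevSt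

open Cfsg.Lie Cfsg.Lie.ChevalleyDatum Cfsg.Agent.Chev Matrix

/-- Root elements in a group satisfying (R1), (R2) and lifting those of the Chevalley group. -/
structure Sys (D : ChevalleyDatum) (F : Type*) [Field F] (E : Type*) [Group E] where
  /-- the root elements -/
  x : ℕ → F → E
  /-- the map to matrices -/
  th : E →* GL D.Idx F
  th_x : ∀ (r : ℕ) (t : F), (th (x r t) : Matrix D.Idx D.Idx F) = D.x F r t
  x_out : ∀ (r : ℕ) (t : F), D.nroots ≤ r → x r t = 1
  add : ∀ (r : ℕ) (t u : F), x r (t + u) = x r t * x r u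
  comm : ∀ r s : ℕ, r < D.nroots → s < D.nroots → s ≠ r → s ≠ D.neg r → ∀ t u : F,
    x s u * x r t = x r t * x s u * ((D.commWord F r s t u).map fun p => x p.1 p.2).prod

namespace Sys

variable {D : ChevalleyDatum} {F : Type*} [Field F] {E : Type*} [Group E] (S : Sys D F E)

theorem x_zero (r : ℕ) : S.x r 0 = 1 := by
  have h := S.add r 0 0
  rw [add_zero] at h
  exact left_eq_mul.mp h

theorem x_neg (r : ℕ) (t : F) : S.x r (-t) = (S.x r t)⁻¹ :=
  (inv_eq_of_mul_eq_one_right (by rw [← S.add, add_neg_cancel, S.x_zero])).symm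

/-- The subgroup generated by the root elements of a set of roots. -/
def genBy (T : Set ℕ) : Subgroup E := Subgroup.closure {g | ∃ q ∈ T, ∃ t : F, g = S.x q t}

/-- The subgroup of the positive half-space of `f`. -/
def halfU (f : ℕ → ℤ) : Subgroup E := S.genBy {q | q < D.nroots ∧ 0 < f q}

theorem x_mem_genBy {T : Set ℕ} {q : ℕ} (hq : q ∈ T) (t : F) : S.x q t ∈ S.genBy T :=
  Subgroup.subset_closure ⟨q, hq, t, rfl⟩

theorem x_mem_halfU {f : ℕ → ℤ} {q : ℕ} (hq : q < D.nroots) (h : 0 < f q) (t : F) : S.x q t ∈ S.halfU f :=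
  S.x_mem_genBy (T := {q | q < D.nroots ∧ 0 < f q}) ⟨hq, h⟩ t

theorem word_mem {T : Set ℕ} {r s : ℕ} (t u : F) (h : ∀ τ ∈ D.commTerms r s, τ.1 ∈ T) :
    ((D.commWord F r s t u).map fun p => S.x p.1 p.2).prod ∈ S.genBy T := by
  refine list_prod_mem fun g hg => ?_
  simp only [ChevalleyDatum.commWord, List.map_map, List.mem_map, Function.comp_apply] at hg
  obtain ⟨τ, hτ, rfl⟩ := hg
  exact S.x_mem_genBy (h τ hτ) _

theorem conj_mem {T : Set ℕ} {r : ℕ} (hr : r < D.nroots) (hlt : ∀ s ∈ T, s < D.nroots)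
    (h₁ : ∀ s ∈ T, s ≠ r ∧ s ≠ D.neg r) (h : ∀ s ∈ T, ∀ τ ∈ D.commTerms r s, τ.1 ∈ T)
    (t : F) {g : E} (hg : g ∈ S.genBy T) : (S.x r t)⁻¹ * g * S.x r t ∈ S.genBy T := by
  induction hg using Subgroup.closure_induction with
  | mem g hg =>
    obtain ⟨s, hs, u, rfl⟩ := hg
    rw [mul_assoc, S.comm r s hr (hlt s hs) (h₁ s hs).1 (h₁ s hs).2 t u, mul_assoc (S.x r t), inv_mul_cancel_left]
    exact mul_mem (S.x_mem_genBy hs u) (S.word_mem t u (h s hs))
  | one => simp [one_mem]
  | mul a b _ _ ha hb =>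
    have := mul_mem ha hb
    convert this using 1
    group
  | inv a _ ha =>
    have := inv_mem ha
    convert this using 1
    group

theorem x_mem_normalizer_genBy {T : Set ℕ} {r : ℕ} (hr : r < D.nroots) (hlt : ∀ s ∈ T, s < D.nroots)
    (h₁ : ∀ s ∈ T, s ≠ r ∧ s ≠ D.neg r) (h : ∀ s ∈ T, ∀ τ ∈ D.commTerms r s, τ.1 ∈ T) (t : F) :
    S.x r t ∈ Subgroup.normalizer (S.genBy T : Set E) := by
  rw [Subgroup.mem_normalizer_iff]
  intro g
  constructor
  · intro hg
    have := S.conj_mem hr hlt h₁ h (-t) hg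
    rwa [S.x_neg, inv_inv] at this
  · intro hg
    have := S.conj_mem hr hlt h₁ h t hg
    simpa [mul_assoc] using this

/-- `x r t` normalises the half-space subgroup when `f r = 0`. -/
theorem x_mem_normalizer (hD : Good D) {f : ℕ → ℤ} (hf : IsLin D f) {r : ℕ} (hr : r < D.nroots) (h0 : f r = 0)
    (t : F) : S.x r t ∈ Subgroup.normalizer (S.halfU f : Set E) := by
  refine S.x_mem_normalizer_genBy hr (fun s hs => hs.1) (fun s hs => ⟨?_, ?_⟩) (fun s hs τ hτ => ?_) t
  · rintro rfl; exact absurd hs.2 (by omega)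
  · rintro rfl; exact absurd hs.2 (by rw [hf.neg r hr]; omega)
  · have h₁ : s ≠ r := by rintro rfl; exact absurd hs.2 (by omega)
    have h₂ : s ≠ D.neg r := by rintro rfl; exact absurd hs.2 (by rw [hf.neg r hr]; omega)
    obtain ⟨h3, h4, h5, h6⟩ := hf.commTerms hD hr hs.1 h₁ h₂ hτ
    refine ⟨h3, ?_⟩
    rw [h6, h0, mul_zero, zero_add]
    exact Int.mul_pos (by exact_mod_cast h5) hs.2

theorem comm_mem (hD : Good D) {f : ℕ → ℤ} (hf : IsLin D f) {r s : ℕ} (hr : r < D.nroots) (hs : s < D.nroots)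
    (hfr : 0 < f r) (hfs : 0 < f s) (h₁ : s ≠ r) (t u : F) :
    ((D.commWord F r s t u).map fun p => S.x p.1 p.2).prod ∈ S.halfU f := by
  refine S.word_mem t u fun τ hτ => ?_
  have h₂ : s ≠ D.neg r := by rintro rfl; rw [hf.neg r hr] at hfs; omega
  obtain ⟨h3, h4, h5, h6⟩ := hf.commTerms hD hr hs h₁ h₂ hτ
  exact ⟨h3, by rw [h6]; positivity⟩

/-! ### Injectivity -/

/-- The span of the root vectors of `f`-value above `c`. -/
def above (D : ChevalleyDatum) (F : Type*) [Field F] (f : ℕ → ℤ) (c : ℤ) : Submodule F (D.Idx → F) :=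
  Submodule.span F {v | ∃ q, q < D.nroots ∧ c < f q ∧ v = ev D F q}

theorem above_inl {f : ℕ → ℤ} {c : ℤ} {v : D.Idx → F} (hv : v ∈ above D F f c) (i : Fin D.rank) :
    v (Sum.inl i) = 0 := by
  induction hv using Submodule.span_induction with
  | mem v hv => obtain ⟨q, -, -, rfl⟩ := hv; simp [ev]
  | zero => rfl
  | add a b _ _ ha hb => simp [ha, hb]
  | smul a b _ hb => simp [hb]

theorem sumCol_mem_above (hD : Good D) {f : ℕ → ℤ} (hf : IsLin D f) {c : ℤ} {r s : ℕ} (hr : r < D.nroots)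
    (hs : s < D.nroots) (h₁ : s ≠ r) (h₂ : s ≠ D.neg r) (hfr : 0 < f r) (hfs : c ≤ f s) (t : F) :
    sumCol D F t (D.chainEntry r s) 1 ∈ above D F f c := by
  have key : ∀ (L : List (ℕ × ℤ)) (j : ℕ), (∀ (i : ℕ) (u : ℕ × ℤ), L[i]? = some u → u.1 < D.nroots ∧ c < f u.1) →
      sumCol D F t L j ∈ above D F f c := by
    intro L
    induction L with
    | nil => intro j _; exact zero_mem _
    | cons a L ih =>
      intro j h
      obtain ⟨q, M⟩ := a
      refine add_mem (Submodule.smul_mem _ _ (Submodule.subset_span ⟨q, ?_, ?_, rfl⟩)) (ih _ fun i u hu => ?_)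
      · exact (h 0 (q, M) rfl).1
      · exact (h 0 (q, M) rfl).2
      · exact h (i + 1) u (by simpa using hu)
  refine key _ _ fun i u hu => ?_
  obtain ⟨h1, -, -, h4⟩ := stepOK_getElem hD hf hr (hD.step r hr s hs h₁ h₂) hu
  refine ⟨h1, ?_⟩
  rw [h4]
  have : 0 < ((i + 1 : ℕ) : ℤ) * f r := Int.mul_pos (by positivity) hfr
  linarith

theorem x_above (hD : Good D) {f : ℕ → ℤ} (hf : IsLin D f) {c : ℤ} {q : ℕ} (hq : q < D.nroots) (hfq : 0 < f q)
    (hc : -f q ≤ c) (t : F) {v : D.Idx → F} (hv : v ∈ above D F f c) :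
    D.x F q t *ᵥ v ∈ above D F f c := by
  induction hv using Submodule.span_induction with
  | mem v hv =>
    obtain ⟨s, hs, hfs, rfl⟩ := hv
    rw [x_eq_xR D hq]
    by_cases h₁ : s = q
    · subst h₁
      rw [xR_self D s t hq]
      exact Submodule.subset_span ⟨s, hs, hfs, rfl⟩
    · have h₂ : s ≠ D.neg q := by rintro rfl; rw [hf.neg q hq] at hfs; omega
      rw [xR_gen D q t (hD.keys q hq) hs h₁ h₂]
      exact add_mem (Submodule.subset_span ⟨s, hs, hfs, rfl⟩) (sumCol_mem_above hD hf hq hs h₁ h₂ hfq hfs.le t)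
  | zero => rw [Matrix.mulVec_zero]; exact zero_mem _
  | add a b _ _ ha hb => rw [Matrix.mulVec_add]; exact add_mem ha hb
  | smul a b _ hb => rw [Matrix.mulVec_smul]; exact Submodule.smul_mem _ _ hb

theorem th_injOn_genBy (hD : Good D) {f : ℕ → ℤ} (hf : IsLin D f) :
    ∀ (m : ℕ) (T : Finset ℕ), T.card = m → (∀ q ∈ T, q < D.nroots ∧ 0 < f q) →
      (∀ r ∈ T, ∀ s ∈ T, s ≠ r → ∀ τ ∈ D.commTerms r s, τ.1 ∈ T) →
      ∀ g ∈ S.genBy (T : Set ℕ), S.th g = 1 → g = 1 := by
  intro m
  induction m with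
  | zero =>
    intro T hT _ _ g hg _
    rw [Finset.card_eq_zero] at hT
    subst hT
    simpa [genBy] using hg
  | succ m ih =>
    intro T hT hpos hclosed g hg hgh
    obtain ⟨k, hk, hmin⟩ := T.exists_min_image f (Finset.card_pos.mp (by omega))
    set T' := T.erase k with hT'
    obtain ⟨hkn, hkpos⟩ := hpos k hk
    have hgt : ∀ r ∈ T, ∀ s ∈ T, s ≠ r → ∀ τ ∈ D.commTerms r s, τ.1 ∈ T' := by
      intro r hr s hs hne τ hτ
      refine Finset.mem_erase.mpr ⟨?_, hclosed r hr s hs hne τ hτ⟩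
      intro hτk
      have h₂ : s ≠ D.neg r := by
        rintro rfl
        have := (hpos _ hs).2
        rw [hf.neg r (hpos r hr).1] at this
        have := (hpos r hr).2
        omega
      obtain ⟨-, h4, h5, h6⟩ := hf.commTerms hD (hpos r hr).1 (hpos s hs).1 hne h₂ hτ
      rw [hτk] at h6
      have := hmin r hr
      have := (hpos r hr).2
      have := (hpos s hs).2
      have e1 : f r ≤ (τ.2.2.1 : ℤ) * f r := le_mul_of_one_le_left (by omega) (by exact_mod_cast h4)
      have e2 : f s ≤ (τ.2.2.2 : ℤ) * f s := le_mul_of_one_le_left (by omega) (by exact_mod_cast h5)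
      omega
    have hN : ∀ t : F, S.x k t ∈ Subgroup.normalizer (S.genBy (T' : Set ℕ) : Set E) := by
      intro t
      refine S.x_mem_normalizer_genBy hkn (fun s hs => (hpos s (Finset.mem_of_mem_erase hs)).1) (fun s hs => ?_)
        (fun s hs τ hτ => hgt k hk s (Finset.mem_of_mem_erase hs) (Finset.ne_of_mem_erase hs) τ hτ) t
      refine ⟨Finset.ne_of_mem_erase hs, ?_⟩
      rintro rfl
      have := (hpos _ (Finset.mem_of_mem_erase hs)).2
      rw [hf.neg k hkn] at this
      omega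
    -- decomposition
    obtain ⟨t, g', hg', rfl⟩ : ∃ t, ∃ g' ∈ S.genBy (T' : Set ℕ), g = S.x k t * g' := by
      have gen : ∀ q ∈ (T : Set ℕ), ∀ u : F, ∃ t, ∃ g' ∈ S.genBy (T' : Set ℕ), S.x q u = S.x k t * g' := by
        intro q hq u
        by_cases hqk : q = k
        · subst hqk; exact ⟨u, 1, one_mem _, by rw [mul_one]⟩
        · exact ⟨0, S.x q u, S.x_mem_genBy (Finset.mem_erase.mpr ⟨hqk, hq⟩) u, by rw [S.x_zero, one_mul]⟩
      clear hgh
      induction hg using Subgroup.closure_induction with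
      | mem g hg => obtain ⟨q, hq, u, rfl⟩ := hg; exact gen q hq u
      | one => exact ⟨0, 1, one_mem _, by rw [S.x_zero, one_mul]⟩
      | mul a b _ _ ha hb =>
        obtain ⟨t, a', ha', rfl⟩ := ha
        obtain ⟨u, b', hb', rfl⟩ := hb
        refine ⟨t + u, ((S.x k u)⁻¹ * a' * S.x k u) * b',
          mul_mem ((Subgroup.mem_normalizer_iff''.mp (hN u) a').mp ha') hb', ?_⟩
        rw [S.add]; group
      | inv a _ ha =>
        obtain ⟨t, a', ha', rfl⟩ := ha
        refine ⟨-t, S.x k t * a'⁻¹ * (S.x k t)⁻¹, (Subgroup.mem_normalizer_iff.mp (hN t) _).mp (inv_mem ha'), ?_⟩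
        rw [S.x_neg]; group
    have hn := hD.neg_lt k hkn
    set P : E → Prop := fun g =>
      ((S.th g : Matrix D.Idx D.Idx F) *ᵥ ev D F (D.neg k) - ev D F (D.neg k) ∈ above D F f (-f k)) ∧
        ∀ v ∈ above D F f (-f k), (S.th g : Matrix D.Idx D.Idx F) *ᵥ v ∈ above D F f (-f k) with hP
    have hPall : ∀ a ∈ S.genBy (T' : Set ℕ), P a := by
      intro a ha'
      induction ha' using Subgroup.closure_induction'' with
      | one => exact ⟨by simp, fun v hv => by simpa using hv⟩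
      | mem g hg =>
        obtain ⟨q, hq, u, rfl⟩ := hg
        obtain ⟨hqk, hqT⟩ := Finset.mem_erase.mp hq
        obtain ⟨hqn, hqpos⟩ := hpos q hqT
        have hge : -f q ≤ -f k := by have := hmin q hqT; omega
        refine ⟨?_, fun v hv => by rw [S.th_x]; exact x_above hD hf hqn hqpos hge u hv⟩
        have h₁ : D.neg k ≠ q := by
          intro h
          rw [← h, hf.neg k hkn] at hqpos
          omega
        have h₂ : D.neg k ≠ D.neg q := fun h => hqk (by rw [← hD.neg_neg q hqn, ← h, hD.neg_neg k hkn])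
        rw [S.th_x, x_eq_xR D hqn, xR_gen D q u (hD.keys q hqn) hn h₁ h₂, add_sub_cancel_left]
        exact sumCol_mem_above hD hf hqn hn h₁ h₂ hqpos (by rw [hf.neg k hkn]) u
      | inv_mem g hg =>
        obtain ⟨q, hq, u, rfl⟩ := hg
        rw [← S.x_neg]
        obtain ⟨hqk, hqT⟩ := Finset.mem_erase.mp hq
        obtain ⟨hqn, hqpos⟩ := hpos q hqT
        have hge : -f q ≤ -f k := by have := hmin q hqT; omega
        refine ⟨?_, fun v hv => by rw [S.th_x]; exact x_above hD hf hqn hqpos hge _ hv⟩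
        have h₁ : D.neg k ≠ q := by
          intro h
          rw [← h, hf.neg k hkn] at hqpos
          omega
        have h₂ : D.neg k ≠ D.neg q := fun h => hqk (by rw [← hD.neg_neg q hqn, ← h, hD.neg_neg k hkn])
        rw [S.th_x, x_eq_xR D hqn, xR_gen D q (-u) (hD.keys q hqn) hn h₁ h₂, add_sub_cancel_left]
        exact sumCol_mem_above hD hf hqn hn h₁ h₂ hqpos (by rw [hf.neg k hkn]) _
      | mul a b _ _ ha hb =>
        refine ⟨?_, fun v hv => by
          rw [map_mul, Units.val_mul, ← Matrix.mulVec_mulVec]; exact ha.2 _ (hb.2 v hv)⟩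
        rw [map_mul, Units.val_mul, ← Matrix.mulVec_mulVec]
        have h := add_mem (ha.2 _ hb.1) ha.1
        rwa [Matrix.mulVec_sub, sub_add_sub_cancel] at h
    have hPg : P g' := hPall g' hg'
    obtain ⟨w, hw, hw'⟩ : ∃ w ∈ above D F f (-f k),
        (S.th g' : Matrix D.Idx D.Idx F) *ᵥ ev D F (D.neg k) = ev D F (D.neg k) + w :=
      ⟨_, hPg.1, (add_sub_cancel _ _).symm⟩
    have heq : D.x F k t *ᵥ (ev D F (D.neg k) + w) = ev D F (D.neg k) := by
      have h := congrArg (fun M : GL D.Idx F => (M : Matrix D.Idx D.Idx F) *ᵥ ev D F (D.neg k)) hgh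
      simpa [map_mul, S.th_x, ← Matrix.mulVec_mulVec, hw'] using h
    have ht : t = 0 := by
      rw [Matrix.mulVec_add] at heq
      have hx := above_inl (x_above hD hf hkn hkpos le_rfl t hw)
      rw [x_eq_xR D hkn, xR_neg D k t hn (hD.neg_ne k hkn)] at heq
      rw [x_eq_xR D hkn] at hx
      have hcz : ∀ i : Fin D.rank, t * (((D.coroot.getD k #[]).getD i.val 0 : ℤ) : F) = 0 := by
        intro i
        have h := congrFun heq (Sum.inl i)
        simpa [ev, hv, hx i] using h
      obtain ⟨c, hc⟩ := hD.coroot_prim k hkn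
      have hc' := congrArg (fun z : ℤ => (z : F)) hc
      simp only [Int.cast_sum, Int.cast_mul, Int.cast_one] at hc'
      calc t = t * 1 := (mul_one t).symm
        _ = ∑ i, (c i : F) * (t * (((D.coroot.getD k #[]).getD i.val 0 : ℤ) : F)) := by
          rw [← hc', Finset.mul_sum]; exact Finset.sum_congr rfl fun i _ => by ring
        _ = 0 := Finset.sum_eq_zero fun i _ => by rw [hcz i, mul_zero]
    subst ht
    rw [S.x_zero, one_mul] at hgh ⊢
    exact ih T' (by rw [hT', Finset.card_erase_of_mem hk, hT, Nat.add_sub_cancel])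
      (fun q hq => hpos q (Finset.mem_of_mem_erase hq))
      (fun r hr s hs hne τ hτ => hgt r (Finset.mem_of_mem_erase hr) s (Finset.mem_of_mem_erase hs) hne τ hτ)
      g' hg' hgh

/-- `th` is injective on every positive half-space subgroup. -/
theorem th_injOn_halfU (hD : Good D) {f : ℕ → ℤ} (hf : IsLin D f) {g h : E} (hg : g ∈ S.halfU f)
    (hh : h ∈ S.halfU f) (he : S.th g = S.th h) : g = h := by
  have hset : ((Finset.range D.nroots).filter fun q => 0 < f q : Set ℕ) = {q | q < D.nroots ∧ 0 < f q} := by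
    ext q; simp
  have h1 := mul_mem hg (inv_mem hh)
  rw [halfU, ← hset] at h1
  refine eq_of_mul_inv_eq_one (S.th_injOn_genBy hD hf _ _ rfl (fun q hq => by simpa using hq) ?_ _ h1
    (by rw [map_mul, map_inv, he, mul_inv_cancel]))
  intro r hr s hs hne τ hτ
  simp only [Finset.mem_filter, Finset.mem_range] at hr hs ⊢
  have h₂ : s ≠ D.neg r := by rintro rfl; rw [hf.neg r hr.1] at hs; omega
  obtain ⟨h3, h4, h5, h6⟩ := hf.commTerms hD hr.1 hs.1 hne h₂ hτ
  obtain ⟨hr1, hr2⟩ := hr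
  obtain ⟨hs1, hs2⟩ := hs
  exact ⟨h3, by rw [h6]; positivity⟩

end Sys

end Cfsg.Agent.ChevSt
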