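/-
Steinberg presentations, part 5: conjugation of root elements by n̄_i(t) and h̄_i(t).

* `Sys.n`, `Sys.h`: n̄_r(t), h̄_r(t); `Sys.th_n`, `Sys.th_h`.
* `Sys.n_conj`: n̄ x̄_s(u) n̄⁻¹ = x̄_{w s}(η t^(-P) u), for fundamental r and every s.
* `Sys.h_conj`: h̄ x̄_s(u) h̄⁻¹ = x̄_s(t^P u).
-/
import Cfsg.Agent.Lib.ChevSt.System
import Cfsg.Agent.Lib.ChevSt.Extra
import Cfsg.Agent.Lib.ChevBN.Instance

set_option autoImplicit false

namespace Cfsg.Agent.ChevSt

open Cfsg.Lie Cfsg.Lie.ChevalleyDatum Cfsg.Agent.Chev Cfsg.Agent.ChevBN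

namespace Sys

variable {D : ChevalleyDatum} {F : Type*} [Field F] {E : Type*} [Group E] (S : Sys D F E)

/-- n̄_r(t). -/
def n (r : ℕ) (t : F) : E := S.x r t * S.x (D.neg r) (-t⁻¹) * S.x r t

/-- h̄_r(t). -/
def h (r : ℕ) (t : F) : E := S.n r t * S.n r (-1)

theorem n_inv (r : ℕ) (t : F) : (S.n r t)⁻¹ = S.n r (-t) := by
  simp [n, _root_.mul_inv_rev, ← S.x_neg, mul_assoc, inv_neg]

theorem n_mul_eq (r : ℕ) (a b : F) : S.n r a * S.n r b = S.h r a * (S.h r (-b))⁻¹ := by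
  rw [h, h, _root_.mul_inv_rev, S.n_inv r (-b), _root_.neg_neg]; group

variable (hD : Good D)
include hD

theorem th_xg (r : ℕ) (t : F) : S.th (S.x r t) = xg hD F r t := Units.ext (S.th_x r t)

theorem th_n (r : ℕ) (t : F) : S.th (S.n r t) = ng hD F r t := by
  rw [n, map_mul, map_mul, S.th_xg hD, S.th_xg hD, ng]

theorem th_h (r : ℕ) (t : F) : S.th (S.h r t) = hg hD F r t := by
  rw [h, map_mul, S.th_n hD, S.th_n hD, hg]

/-- Root elements of the same root with equal images are equal. -/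
theorem x_eq_of_th {M : List (List ℤ)} {d : ℤ} (hR : Roots D M d) {r : ℕ} {t u : F}
    (e : S.th (S.x r t) = S.th (S.x r u)) : S.x r t = S.x r u := by
  by_cases hr : r < D.nroots
  swap
  · rw [S.x_out r t (not_lt.1 hr), S.x_out r u (not_lt.1 hr)]
  by_cases hp : D.IsPosRoot r
  · exact S.th_injOn_halfU hD (isLin_ht hD M) (S.x_mem_halfU hr (hR.ht_pos r hr hp) t)
      (S.x_mem_halfU hr (hR.ht_pos r hr hp) u) e
  · have h0 : 0 < -1 * ht D M r := by
      have := hR.ht_pos _ (hD.neg_lt r hr) ((pos_or_neg hD hr).2 hp)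
      rw [(isLin_ht hD M).neg r hr] at this
      linarith
    exact S.th_injOn_halfU hD ((isLin_ht hD M).smul (-1))
      (S.x_mem_halfU (f := fun q => -1 * ht D M q) hr h0 t)
      (S.x_mem_halfU (f := fun q => -1 * ht D M q) hr h0 u) e

theorem n_mem_normalizer {f : ℕ → ℤ} (hf : IsLin D f) {r : ℕ} (hr : r < D.nroots) (h0 : f r = 0) (t : F) :
    S.n r t ∈ Subgroup.normalizer (S.halfU f : Set E) :=
  mul_mem (mul_mem (S.x_mem_normalizer hD hf hr h0 t)
    (S.x_mem_normalizer hD hf (hD.neg_lt r hr) (by rw [hf.neg r hr, h0, neg_zero]) _))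
    (S.x_mem_normalizer hD hf hr h0 t)

theorem th_n_conj {r s : ℕ} (hr : r < D.nroots) (hs : s < D.nroots) {t : F} (ht0 : t ≠ 0) (u : F) :
    S.th (S.n r t * S.x s u * (S.n r t)⁻¹) =
      S.th (S.x (Chev.refl D r s) ((nSign D r s : F) * t ^ (-D.pairing r s) * u)) := by
  rw [map_mul, map_mul, map_inv, mul_inv_eq_iff_eq_mul, S.th_n hD, S.th_xg hD, S.th_xg hD]
  apply Units.ext
  rw [Units.val_mul, Units.val_mul, coe_ng, coe_xg, coe_xg, nMat_conj hD hr hs ht0]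

theorem n_conj_of_ne {M : List (List ℤ)} {d : ℤ} (hR : Roots D M d) {i s : ℕ} (hi : i < D.rank)
    (hs : s < D.nroots) (h₁ : s ≠ D.simple i) (h₂ : s ≠ D.neg (D.simple i)) {t : F} (ht0 : t ≠ 0) (u : F) :
    S.n (D.simple i) t * S.x s u * (S.n (D.simple i) t)⁻¹ =
      S.x (wN D i s) ((nSign D (D.simple i) s : F) * t ^ (-D.pairing (D.simple i) s) * u) := by
  have hr := hD.simple_lt i hi
  obtain ⟨f, hf, h0, hpos⟩ : ∃ f, IsLin D f ∧ f (D.simple i) = 0 ∧ 0 < f s := by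
    by_cases hp : D.IsPosRoot s
    · obtain ⟨k, hk, hki, hc⟩ := hR.exists_other hD hs hp hi h₁
      exact ⟨co D M k, isLin_co hD M k, by rw [hR.dual k hk i hi, if_neg hki], hc⟩
    · have hne : D.neg s ≠ D.simple i := fun e => h₂ (by rw [← e, hD.neg_neg s hs])
      obtain ⟨k, hk, hki, hc⟩ := hR.exists_other hD (hD.neg_lt s hs) ((pos_or_neg hD hs).2 hp) hi hne
      rw [hR.co_neg hD hs] at hc
      exact ⟨fun q => -1 * co D M k q, (isLin_co hD M k).smul (-1),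
        show -1 * co D M k (D.simple i) = 0 by rw [hR.dual k hk i hi, if_neg hki, mul_zero],
        show 0 < -1 * co D M k s by linarith⟩
  refine S.th_injOn_halfU hD hf ?_ ?_ (S.th_n_conj hD hr hs ht0 u)
  · exact (Subgroup.mem_normalizer_iff.mp (S.n_mem_normalizer hD hf hr h0 t) _).mp (S.x_mem_halfU hs hpos u)
  · refine S.x_mem_halfU (refl_lt hD hr hs) ?_ _
    show 0 < f (Chev.refl D (D.simple i) s)
    rw [hf.refl hD hr hs, h0, mul_zero, sub_zero]
    exact hpos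

/-- The root element at r inside the span of roots independent of r. -/
theorem x_mem_of_decomp {r : ℕ} (hd : Decomp D r) :
    ∃ g : ℕ → ℤ, IsLin D g ∧ 0 < g r ∧
      ∀ c, S.x r c ∈ S.genBy {q | q < D.nroots ∧ q ≠ r ∧ q ≠ D.neg r ∧ 0 < g q} := by
  obtain ⟨a, b, ha, hb, har, har', hbr, hbr', hab, hab', hP, L₁, τ, L₂, e, hτr, hoth, hC, hij⟩ := hd
  obtain ⟨g, hg, hga, hgb⟩ := exists_both_pos hD ha hb hP
  have hmem : ∀ σ ∈ D.commTerms a b, σ.1 < D.nroots ∧ 0 < g σ.1 := fun σ hσ => by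
    obtain ⟨h3, h4, h5, h6⟩ := hg.commTerms hD ha hb hab hab' hσ
    exact ⟨h3, by rw [h6]; positivity⟩
  have hr := hmem τ (by rw [e]; simp)
  rw [hτr] at hr
  refine ⟨g, hg, hr.2, fun c => ?_⟩
  set T : Set ℕ := {q | q < D.nroots ∧ q ≠ r ∧ q ≠ D.neg r ∧ 0 < g q} with hT
  have hoT : ∀ σ ∈ L₁ ++ L₂, σ.1 ∈ T := fun σ hσ => by
    have hm := hmem σ (by rw [e]; simp only [List.mem_append, List.mem_cons] at hσ ⊢; tauto)
    refine ⟨hm.1, hoth σ hσ, fun e' => ?_, hm.2⟩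
    have hpos := hm.2
    rw [e', hg.neg r hr.1] at hpos
    linarith [hr.2]
  obtain ⟨v, w, hvw⟩ : ∃ v w : F, (τ.2.1 : F) * (-v) ^ τ.2.2.1 * w ^ τ.2.2.2 = c := by
    have hC2 : (τ.2.1 : F) * (τ.2.1 : F) = 1 := by rcases hC with h | h <;> simp [h]
    rcases hij with h | h
    · exact ⟨-((τ.2.1 : F) * c), 1, by rw [h, _root_.neg_neg, pow_one, one_pow, mul_one, ← mul_assoc, hC2, one_mul]⟩
    · exact ⟨-1, (τ.2.1 : F) * c, by rw [h, _root_.neg_neg, one_pow, pow_one, mul_one, ← mul_assoc, hC2, one_mul]⟩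
  set A := ((L₁.map fun σ => (σ.1, (σ.2.1 : F) * (-v) ^ σ.2.2.1 * w ^ σ.2.2.2)).map fun p => S.x p.1 p.2).prod
  set B := ((L₂.map fun σ => (σ.1, (σ.2.1 : F) * (-v) ^ σ.2.2.1 * w ^ σ.2.2.2)).map fun p => S.x p.1 p.2).prod
  have hA : A ∈ S.genBy T := list_prod_mem fun z hz => by
    simp only [List.map_map, List.mem_map, Function.comp_apply] at hz
    obtain ⟨σ, hσ, rfl⟩ := hz
    exact S.x_mem_genBy (hoT σ (List.mem_append_left _ hσ)) _
  have hB : B ∈ S.genBy T := list_prod_mem fun z hz => by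
    simp only [List.map_map, List.mem_map, Function.comp_apply] at hz
    obtain ⟨σ, hσ, rfl⟩ := hz
    exact S.x_mem_genBy (hoT σ (List.mem_append_right _ hσ)) _
  have hcomm := S.comm a b ha hb hab hab' v w
  rw [ChevalleyDatum.commWord, e, List.map_append, List.map_cons, List.map_append, List.map_cons,
    List.prod_append, List.prod_cons, hτr, hvw] at hcomm
  have ex : S.x r c = A⁻¹ * ((S.x a v * S.x b w)⁻¹ * (S.x b w * S.x a v)) * B⁻¹ := by
    rw [hcomm]; simp only [A, B]; group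
  have hxa : S.x a v ∈ S.genBy T := S.x_mem_genBy (T := T) ⟨ha, har, har', hga⟩ v
  have hxb : S.x b w ∈ S.genBy T := S.x_mem_genBy (T := T) ⟨hb, hbr, hbr', hgb⟩ w
  rw [ex]
  exact mul_mem (mul_mem (inv_mem hA) (mul_mem (inv_mem (mul_mem hxa hxb)) (mul_mem hxb hxa))) (inv_mem hB)

theorem n_conj {M : List (List ℤ)} {d : ℤ} (hR : Roots D M d)
    (hX : ∀ i < D.rank, Decomp D (D.simple i) ∧ Decomp D (D.neg (D.simple i))) {i s : ℕ} (hi : i < D.rank)
    (hs : s < D.nroots) {t : F} (ht0 : t ≠ 0) (u : F) :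
    S.n (D.simple i) t * S.x s u * (S.n (D.simple i) t)⁻¹ =
      S.x (wN D i s) ((nSign D (D.simple i) s : F) * t ^ (-D.pairing (D.simple i) s) * u) := by
  by_cases hne : s ≠ D.simple i ∧ s ≠ D.neg (D.simple i)
  · exact S.n_conj_of_ne hD hR hi hs hne.1 hne.2 ht0 u
  rw [not_and_or, not_not, not_not] at hne
  have hr := hD.simple_lt i hi
  have hdec : Decomp D s := by rcases hne with rfl | rfl; exacts [(hX i hi).1, (hX i hi).2]
  obtain ⟨g, hg, hgs, hmem⟩ := S.x_mem_of_decomp hD hdec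
  set f : ℕ → ℤ := fun q => g q + -g (D.simple i) * D.pairing (D.simple i) q with hfdef
  have hf : IsLin D f := hg.addFun ((isLin_pairing hD _).smul _)
  have hfv : ∀ q < D.nroots, f q = g (wN D i q) := fun q hq => by
    show f q = g (Chev.refl D (D.simple i) q)
    rw [hg.refl hD hr hq, hfdef]; ring
  have hfw : ∀ q < D.nroots, f (wN D i q) = g q := fun q hq => by
    rw [hfv (wN D i q) (refl_lt hD hr hq)]
    exact congrArg g (refl_refl hD hr hq)
  refine S.th_injOn_halfU hD hf ?_ (S.x_mem_halfU (refl_lt hD hr hs) ((hfw s hs).symm ▸ hgs) _)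
    (S.th_n_conj hD hr hs ht0 u)
  have hle : S.genBy {q | q < D.nroots ∧ q ≠ s ∧ q ≠ D.neg s ∧ 0 < g q} ≤
      (S.halfU f).comap (MulAut.conj (S.n (D.simple i) t)).toMonoidHom := by
    refine (Subgroup.closure_le _).2 ?_
    rintro z ⟨q, ⟨hq, hq1, hq2, hq3⟩, v, rfl⟩
    have h12 : q ≠ D.simple i ∧ q ≠ D.neg (D.simple i) := by
      rcases hne with rfl | rfl
      · exact ⟨hq1, hq2⟩
      · exact ⟨by rw [hD.neg_neg _ hr] at hq2; exact hq2, hq1⟩
    show S.n (D.simple i) t * S.x q v * (S.n (D.simple i) t)⁻¹ ∈ S.halfU f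
    rw [S.n_conj_of_ne hD hR hi hq h12.1 h12.2 ht0 v]
    exact S.x_mem_halfU (refl_lt hD hr hq) ((hfw q hq).symm ▸ hq3) _
  exact hle (hmem u)

theorem h_conj {M : List (List ℤ)} {d : ℤ} (hR : Roots D M d)
    (hX : ∀ i < D.rank, Decomp D (D.simple i) ∧ Decomp D (D.neg (D.simple i))) {i : ℕ} (hi : i < D.rank)
    {t : F} (ht0 : t ≠ 0) (s : ℕ) (u : F) :
    S.h (D.simple i) t * S.x s u * (S.h (D.simple i) t)⁻¹ = S.x s (t ^ D.pairing (D.simple i) s * u) := by
  by_cases hs : s < D.nroots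
  swap
  · rw [S.x_out s u (not_lt.1 hs), S.x_out s _ (not_lt.1 hs)]; group
  have hr := hD.simple_lt i hi
  have hth : S.th (S.h (D.simple i) t * S.x s u * (S.h (D.simple i) t)⁻¹) =
      S.th (S.x s (t ^ D.pairing (D.simple i) s * u)) := by
    rw [map_mul, map_mul, map_inv, mul_inv_eq_iff_eq_mul, S.th_h hD, S.th_xg hD, S.th_xg hD,
      hg_conj hD hr ht0]
  have hw : wN D i (wN D i s) = s := refl_refl hD hr hs
  have e : ∃ c, S.h (D.simple i) t * S.x s u * (S.h (D.simple i) t)⁻¹ = S.x s c := by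
    refine ⟨(nSign D (D.simple i) (wN D i s) : F) * t ^ (-D.pairing (D.simple i) (wN D i s)) *
      ((nSign D (D.simple i) s : F) * (-1) ^ (-D.pairing (D.simple i) s) * u), ?_⟩
    rw [h, show S.n (D.simple i) t * S.n (D.simple i) (-1) * S.x s u *
        (S.n (D.simple i) t * S.n (D.simple i) (-1))⁻¹ =
      S.n (D.simple i) t * (S.n (D.simple i) (-1) * S.x s u * (S.n (D.simple i) (-1))⁻¹) *
        (S.n (D.simple i) t)⁻¹ by group,
      S.n_conj hD hR hX hi hs (neg_ne_zero.2 one_ne_zero), S.n_conj hD hR hX hi (s := wN D i s) (refl_lt hD hr hs) ht0, hw]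
  obtain ⟨c, hc⟩ := e
  rw [hc] at hth ⊢
  exact S.x_eq_of_th hD hR hth

end Sys

end Cfsg.Agent.ChevSt
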