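/-
Steinberg presentations, part 6: root group data in the covering group and the kernel.

* `Sys.rgd`, `Sys.rgd_G`: the root group data; it exhausts the group when the root elements generate.
* `Sys.ker_le_H`: the kernel lies in H̄ = ⟨h̄_i(t)⟩; `Sys.ker_le_center`: it is central.
-/
import Cfsg.Agent.Lib.ChevSt.Conj

set_option autoImplicit false

namespace Cfsg.Agent.ChevSt

open Cfsg.Lie Cfsg.Lie.ChevalleyDatum Cfsg.Agent.Chev Cfsg.Agent.ChevBN

namespace Sys

variable {D : ChevalleyDatum} {F : Type*} [Field F] {E : Type*} [Group E] (S : Sys D F E)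

/-- The root subgroup in the covering group. -/
def rootSub (r : ℕ) : Subgroup E where
  carrier := Set.range (S.x r)
  one_mem' := ⟨0, S.x_zero r⟩
  mul_mem' := by rintro _ _ ⟨a, rfl⟩ ⟨b, rfl⟩; exact ⟨a + b, S.add r a b⟩
  inv_mem' := by rintro _ ⟨a, rfl⟩; exact ⟨-a, S.x_neg r a⟩

theorem mem_rootSub {r : ℕ} {g : E} : g ∈ S.rootSub r ↔ ∃ t, g = S.x r t :=
  ⟨fun ⟨t, e⟩ => ⟨t, e.symm⟩, fun ⟨t, e⟩ => ⟨t, e.symm⟩⟩

theorem x_mem_rootSub (r : ℕ) (t : F) : S.x r t ∈ S.rootSub r := ⟨t, rfl⟩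

/-- H̄, generated by the h̄_i(t). -/
def Hbar : Subgroup E :=
  Subgroup.closure {g | ∃ (i : ℕ) (t : F), i < D.rank ∧ t ≠ 0 ∧ g = S.h (D.simple i) t}

theorem h_mem_Hbar {i : ℕ} (hi : i < D.rank) {t : F} (ht0 : t ≠ 0) : S.h (D.simple i) t ∈ S.Hbar :=
  Subgroup.subset_closure ⟨i, t, hi, ht0, rfl⟩

variable {M : List (List ℤ)} {d : ℤ} (hD : Good D) (hR : Roots D M d)
  (hX : ∀ i < D.rank, Decomp D (D.simple i) ∧ Decomp D (D.neg (D.simple i)))

include hD in
theorem th_mem_diag {g : E} (hg : g ∈ S.Hbar) : S.th g ∈ D.diagonalSubgroup F := by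
  have hle : S.Hbar ≤ (D.diagonalSubgroup F).comap S.th := by
    refine (Subgroup.closure_le _).2 ?_
    rintro z ⟨i, t, hi, ht0, rfl⟩
    show S.th _ ∈ D.diagonalSubgroup F
    rw [S.th_h hD]
    exact Subgroup.subset_closure ⟨_, t, hD.simple_lt i hi, ht0, coe_hg hD _ t⟩
  exact hle hg

include hD hR hX in
theorem exists_char {g : E} (hg : g ∈ S.Hbar) :
    ∃ χ : ℕ → Fˣ, ∀ s u, g * S.x s u * g⁻¹ = S.x s ((χ s : F) * u) := by
  induction hg using Subgroup.closure_induction with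
  | mem g hg =>
    obtain ⟨i, t, hi, ht0, rfl⟩ := hg
    exact ⟨fun s => Units.mk0 t ht0 ^ D.pairing (D.simple i) s, fun s u => by
      rw [S.h_conj hD hR hX hi ht0, Units.val_zpow_eq_zpow_val, Units.val_mk0]⟩
  | one => exact ⟨fun _ => 1, fun s u => by simp⟩
  | mul a b _ _ ha hb =>
    obtain ⟨χ, hχ⟩ := ha
    obtain ⟨ψ, hψ⟩ := hb
    refine ⟨fun s => χ s * ψ s, fun s u => ?_⟩
    rw [show a * b * S.x s u * (a * b)⁻¹ = a * (b * S.x s u * b⁻¹) * a⁻¹ by group, hψ, hχ, Units.val_mul,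
      mul_assoc]
  | inv a _ ha =>
    obtain ⟨χ, hχ⟩ := ha
    refine ⟨fun s => (χ s)⁻¹, fun s u => ?_⟩
    have := hχ s (((χ s)⁻¹ : Fˣ) * u)
    rw [← mul_assoc ((χ s : F)), ← Units.val_mul, mul_inv_cancel, Units.val_one, one_mul] at this
    rw [← this]; group

include hD hR hX

theorem n_conj_h {i j : ℕ} (hi : i < D.rank) (hj : j < D.rank) {t : F} (ht0 : t ≠ 0) :
    S.n (D.simple j) 1 * S.h (D.simple i) t * (S.n (D.simple j) 1)⁻¹ ∈ S.Hbar := by
  set c : F := t ^ D.pairing (D.simple i) (D.simple j) with hc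
  have hc0 : c ≠ 0 := zpow_ne_zero _ ht0
  have hj' := hD.simple_lt j hj
  set g := S.h (D.simple i) t with hgdef
  have e1 : g * S.n (D.simple j) 1 * g⁻¹ = S.n (D.simple j) c := by
    rw [n, n, show g * (S.x (D.simple j) 1 * S.x (D.neg (D.simple j)) (-1⁻¹) * S.x (D.simple j) 1) * g⁻¹ =
      (g * S.x (D.simple j) 1 * g⁻¹) * (g * S.x (D.neg (D.simple j)) (-1⁻¹) * g⁻¹) *
        (g * S.x (D.simple j) 1 * g⁻¹) by group, hgdef, S.h_conj hD hR hX hi ht0, S.h_conj hD hR hX hi ht0,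
      hD.pairing_neg_right _ hj', hc, mul_one, inv_one, _root_.zpow_neg, mul_neg, mul_one]
  have e2 : S.n (D.simple j) 1 * g * (S.n (D.simple j) 1)⁻¹ = (S.h (D.simple j) c)⁻¹ * g := by
    have e3 : (S.n (D.simple j) 1)⁻¹ = S.n (D.simple j) (-1) := S.n_inv _ _
    rw [h, ← e3, ← e1]
    group
  rw [e2]
  exact mul_mem (inv_mem (S.h_mem_Hbar hj hc0)) (S.h_mem_Hbar hi ht0)

/-- The root group data. -/
def rgd : RGD.RootData E (Fin D.nroots) (Fin D.rank) where
  U r := S.rootSub r.val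
  H := S.Hbar
  n i := S.n (D.simple i.val) 1
  simple i := ⟨D.simple i.val, hD.simple_lt i.val i.isLt⟩
  pos r := D.IsPosRoot r.val
  neg r := ⟨D.neg r.val, hD.neg_lt r.val r.isLt⟩
  w i r := ⟨wN D i.val r.val, refl_lt hD (hD.simple_lt i.val i.isLt) r.isLt⟩
  neg_neg r := Fin.ext (hD.neg_neg r.val r.isLt)
  pos_neg r := pos_or_neg hD r.isLt
  pos_simple i := hR.pos_simple hD i.isLt
  simple_inj i j h := Fin.ext (hR.simple_inj hD i.isLt j.isLt (congrArg Fin.val h))
  w_simple i := Fin.ext (by simp [wN, Chev.refl])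
  w_pos i r hr hne := hR.pos_refl hD i.isLt r.isLt hr fun e => hne (Fin.ext e)
  w_neg i r := Fin.ext (hR.refl_neg hD i.isLt r.isLt)
  w_w i r := Fin.ext (refl_refl hD (hD.simple_lt i.val i.isLt) r.isLt)
  H_conj_U g hg r x hx := by
    obtain ⟨t, rfl⟩ := S.mem_rootSub.1 hx
    obtain ⟨χ, hχ⟩ := S.exists_char hD hR hX hg
    rw [hχ]
    exact S.x_mem_rootSub _ _
  n_conj_U i r x hx := by
    obtain ⟨t, rfl⟩ := S.mem_rootSub.1 hx
    rw [S.n_conj hD hR hX i.isLt r.isLt one_ne_zero]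
    exact S.x_mem_rootSub _ _
  n_conj_H i g hg := by
    have hle : S.Hbar ≤ S.Hbar.comap (MulAut.conj (S.n (D.simple i.val) 1)).toMonoidHom := by
      refine (Subgroup.closure_le _).2 ?_
      rintro z ⟨j, t, hj, ht0, rfl⟩
      exact S.n_conj_h hD hR hX hj i.isLt ht0
    exact hle hg
  n_sq i := by
    rw [n_mul_eq]
    exact mul_mem (S.h_mem_Hbar i.isLt one_ne_zero) (inv_mem (S.h_mem_Hbar i.isLt (neg_ne_zero.2 one_ne_zero)))
  n_mem i := mul_mem (mul_mem
      (Subgroup.mem_sup_left (Subgroup.mem_sup_left (S.x_mem_rootSub _ _)))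
      (Subgroup.mem_sup_left (Subgroup.mem_sup_right (S.x_mem_rootSub _ _))))
      (Subgroup.mem_sup_left (Subgroup.mem_sup_left (S.x_mem_rootSub _ _)))
  U_conj i x hx r hr hne y hy := by
    have hs := hD.simple_lt i.val i.isLt
    obtain ⟨t, rfl⟩ := S.mem_rootSub.1 hx
    obtain ⟨u, rfl⟩ := S.mem_rootSub.1 hy
    obtain ⟨k, hk, hki, hpos⟩ := hR.exists_other hD r.isLt hr i.isLt fun e => hne (Fin.ext e)
    have h1 : r.val ≠ D.simple i.val := fun e => hne (Fin.ext e)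
    have h2 : r.val ≠ D.neg (D.simple i.val) := fun e =>
      (pos_or_neg hD hs).1 (e ▸ hr) (hR.pos_simple hD i.isLt)
    set A : Set (Fin D.nroots) := {s | D.IsPosRoot s.val ∧ s ≠ ⟨D.simple i.val, hs⟩}
    set w : E := ((D.commWord F (D.simple i.val) r.val (-t) u).map fun p => S.x p.1 p.2).prod with hw
    have e : S.x (D.simple i.val) t * S.x r.val u * (S.x (D.simple i.val) t)⁻¹ = S.x r.val u * w := by
      rw [← S.x_neg, mul_assoc, S.comm _ _ hs r.isLt h1 h2, ← hw, ← mul_assoc, ← mul_assoc, ← S.add,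
        add_neg_cancel, S.x_zero, one_mul]
    show _ ∈ ⨆ s ∈ A, S.rootSub s.val
    rw [e]
    have hA : ∀ q : Fin D.nroots, q ∈ A → ∀ v : F, S.x q.val v ∈ ⨆ s ∈ A, S.rootSub s.val :=
      fun q hq v => (le_biSup (fun s : Fin D.nroots => S.rootSub s.val) hq) (S.x_mem_rootSub _ v)
    refine mul_mem (hA r ⟨hr, hne⟩ u) (list_prod_mem fun g hg' => ?_)
    simp only [ChevalleyDatum.commWord, List.map_map, List.mem_map, Function.comp_apply] at hg'
    obtain ⟨τ, hτ, rfl⟩ := hg'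
    obtain ⟨hlt, -, hj, hval⟩ := (isLin_co hD M k).commTerms hD hs r.isLt h1 h2 hτ
    rw [hR.dual k hk i.val i.isLt, if_neg hki, mul_zero, zero_add] at hval
    have hτpos : 0 < co D M k τ.1 := by
      rw [hval]; exact Int.mul_pos (by exact_mod_cast hj) hpos
    refine hA ⟨τ.1, hlt⟩ ⟨?_, ?_⟩ _
    · by_contra hneg
      exact absurd (hR.nonpos_of_not_pos hD hlt hneg hk) (by omega)
    · intro eq
      have : τ.1 = D.simple i.val := congrArg Fin.val eq
      rw [this, hR.dual k hk i.val i.isLt, if_neg hki] at hτpos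
      exact lt_irrefl _ hτpos
  rank_one i y hy hy1 := by
    obtain ⟨t, rfl⟩ := S.mem_rootSub.1 hy
    have ht0 : t ≠ 0 := fun h => hy1 (by rw [h, S.x_zero])
    refine ⟨_, S.x_mem_rootSub _ t⁻¹, S.h (D.simple i.val) (-t⁻¹),
      S.h_mem_Hbar i.isLt (neg_ne_zero.2 (inv_ne_zero ht0)), _, S.x_mem_rootSub _ t⁻¹, ?_⟩
    have e1 : S.h (D.simple i.val) (-t⁻¹) * S.n (D.simple i.val) 1 = S.n (D.simple i.val) (-t⁻¹) := by
      rw [h, mul_assoc, show S.n (D.simple i.val) 1 = (S.n (D.simple i.val) (-1))⁻¹ by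
        rw [n_inv, _root_.neg_neg], mul_inv_cancel, mul_one]
    show S.x (D.neg (D.simple i.val)) t = _
    rw [mul_assoc (S.x (D.simple i.val) t⁻¹), e1, n,
      show (-(-t⁻¹)⁻¹ : F) = t by rw [inv_neg, inv_inv, _root_.neg_neg],
      ← mul_assoc, ← mul_assoc, ← S.add, add_neg_cancel, S.x_zero, one_mul, mul_assoc,
      ← S.add, neg_add_cancel, S.x_zero, mul_one]
  U_ne_bot r h := by
    have h1 := S.x_mem_rootSub r.val 1
    rw [h, Subgroup.mem_bot] at h1
    refine x_one_ne_one hD r.isLt (F := F) ?_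
    have h2 := congrArg S.th h1
    rw [map_one, S.th_xg hD] at h2
    exact h2
  B_inf_V := by
    rw [eq_bot_iff]
    rintro g ⟨hgB, hgV⟩
    have hB : ((⨆ s ∈ {s : Fin D.nroots | D.IsPosRoot s.val}, S.rootSub s.val) ⊔ S.Hbar) ≤
        (D.borelSubgroup F).comap S.th := by
      refine sup_le (iSup₂_le fun s hs => ?_) fun z hz => Subgroup.mem_sup_right (S.th_mem_diag hD hz)
      intro z hz
      obtain ⟨t, rfl⟩ := S.mem_rootSub.1 hz
      exact Subgroup.mem_sup_left (Subgroup.subset_closure ⟨s.val, t, hs, by rw [S.th_x]⟩)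
    have hV : (⨆ s ∈ {s : Fin D.nroots | ¬ D.IsPosRoot s.val}, S.rootSub s.val) ≤
        (D.negUnipotent F).comap S.th ⊓ S.halfU (fun q => -1 * ht D M q) := by
      refine iSup₂_le fun s hs z hz => ?_
      obtain ⟨t, rfl⟩ := S.mem_rootSub.1 hz
      refine ⟨Subgroup.subset_closure ⟨s.val, t, (isNeg_iff hD s.isLt).2 hs, by rw [S.th_x]⟩,
        S.x_mem_halfU s.isLt ?_ t⟩
      have h1 := hR.ht_pos _ (hD.neg_lt s.val s.isLt) ((pos_or_neg hD s.isLt).2 hs)
      rw [(isLin_ht hD M).neg s.val s.isLt] at h1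
      linarith
    have h1 : S.th g ∈ D.borelSubgroup F ⊓ D.negUnipotent F := ⟨hB hgB, (hV hgV).1⟩
    rw [borel_inf_neg hD hR, Subgroup.mem_bot] at h1
    exact S.th_injOn_halfU hD ((isLin_ht hD M).smul (-1)) (hV hgV).2 (one_mem _) (by rw [h1, map_one])
  U_inf_H := by
    rw [eq_bot_iff]
    rintro g ⟨hgU, hgH⟩
    have hU : (⨆ s ∈ {s : Fin D.nroots | D.IsPosRoot s.val}, S.rootSub s.val) ≤
        (D.posUnipotent F).comap S.th ⊓ S.halfU (ht D M) := by
      refine iSup₂_le fun s hs z hz => ?_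
      obtain ⟨t, rfl⟩ := S.mem_rootSub.1 hz
      exact ⟨Subgroup.subset_closure ⟨s.val, t, hs, by rw [S.th_x]⟩,
        S.x_mem_halfU s.isLt (hR.ht_pos _ s.isLt hs) t⟩
    have h1 : S.th g ∈ D.posUnipotent F ⊓ D.diagonalSubgroup F := ⟨(hU hgU).1, S.th_mem_diag hD hgH⟩
    rw [pos_inf_diag hD hR, Subgroup.mem_bot] at h1
    exact S.th_injOn_halfU hD (isLin_ht hD M) (hU hgU).2 (one_mem _) (by rw [h1, map_one])

variable (hgen : Subgroup.closure {g | ∃ r t, g = S.x r t} = ⊤)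
include hgen

theorem rgd_G : (S.rgd hD hR hX).G = ⊤ := by
  set R := S.rgd hD hR hX
  rw [eq_top_iff, ← hgen]
  refine (Subgroup.closure_le _).2 ?_
  rintro g ⟨r, t, rfl⟩
  by_cases hr : r < D.nroots
  swap
  · rw [S.x_out r t (not_lt.1 hr)]; exact one_mem _
  have hpos : ∀ q, (hq : q < D.nroots) → D.IsPosRoot q → ∀ u, S.x q u ∈ R.G := fun q hq hp u =>
    R.B_le_G (R.Upos_le_B (R.U_le_Upos (r := ⟨q, hq⟩) hp (S.x_mem_rootSub q u)))
  by_cases hp : D.IsPosRoot r
  · exact hpos r hr hp t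
  have hn : ∀ i, (hi : i < D.rank) → S.n (D.simple i) 1 ∈ R.G := fun i hi => R.n_mem_G ⟨i, hi⟩
  have key : ∀ q, q < D.nroots → D.IsPosRoot q → ∀ u, S.x (D.neg q) u ∈ R.G := by
    intro q hq hqp
    refine hR.pos_induction hD (P := fun q => ∀ u, S.x (D.neg q) u ∈ R.G) ?_ ?_ hq hqp
    · intro i hi u
      have hs := hD.simple_lt i hi
      have hne : (nSign D (D.simple i) (D.simple i) : F) ≠ 0 := by
        rcases (nSign_cases hD hs hs).1 with h | h <;> simp [h]
      have h2 := mul_mem (mul_mem (hn i hi) (hpos _ hs (hR.pos_simple hD hi)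
        ((nSign D (D.simple i) (D.simple i) : F)⁻¹ * u))) (inv_mem (hn i hi))
      rw [S.n_conj hD hR hX hi hs one_ne_zero, one_zpow, mul_one, ← mul_assoc, mul_inv_cancel₀ hne, one_mul,
        show wN D i (D.simple i) = D.neg (D.simple i) by simp [wN, Chev.refl]] at h2
      exact h2
    · intro i hi p hp ih u
      have hne : (nSign D (D.simple i) (D.neg p) : F) ≠ 0 := by
        rcases (nSign_cases hD (hD.simple_lt i hi) (hD.neg_lt p hp)).1 with h | h <;> simp [h]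
      have h2 := mul_mem (mul_mem (hn i hi) (ih ((nSign D (D.simple i) (D.neg p) : F)⁻¹ * u))) (inv_mem (hn i hi))
      rw [S.n_conj hD hR hX hi (hD.neg_lt p hp) one_ne_zero, one_zpow, mul_one, ← mul_assoc,
        mul_inv_cancel₀ hne, one_mul, hR.refl_neg hD hi hp] at h2
      exact h2
  have := key _ (hD.neg_lt r hr) ((pos_or_neg hD hr).2 hp) t
  rwa [hD.neg_neg r hr] at this

theorem ker_le_H : S.th.ker ≤ S.Hbar := by
  intro k hk
  rw [MonoidHom.mem_ker] at hk
  set R := S.rgd hD hR hX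
  set C := chevRGD hD hR F
  obtain ⟨w, hw⟩ := BN.exists_mem_C R.bnPair ⟨k, by rw [S.rgd_G hD hR hX hgen]; trivial⟩
  induction w using QuotientGroup.induction_on with
  | H m =>
    obtain ⟨b, hb, b', hb', e⟩ := (BN.mem_C_mk R.bnPair).1 hw
    have hbB : (b : E) ∈ R.B := hb
    have hb'B : (b' : E) ∈ R.B := hb'
    obtain ⟨g, hg, l, hl⟩ := R.mem_N_iff.1 (show ((m : R.G) : E) ∈ R.N from m.2)
    have e' : k = (b : E) * (g * R.nw l) * (b' : E) := by rw [← hl]; exact congrArg Subtype.val e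
    have hth : ∀ z ∈ R.B, S.th z ∈ C.B := by
      have : R.B ≤ C.B.comap S.th := by
        refine sup_le (R.span_le fun r hr z hz => ?_) fun z hz => C.H_le_B (S.th_mem_diag hD hz)
        obtain ⟨t, rfl⟩ := S.mem_rootSub.1 hz
        refine C.Upos_le_B (C.U_le_Upos (r := r) hr ?_)
        rw [S.th_xg hD]
        exact xg_mem_rootSubgroup hD _ t
      exact fun z hz => this hz
    have hnw : ∀ l, S.th (R.nw l) = C.nw l := by
      intro l
      induction l with
      | nil => simp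
      | cons i l ih => rw [R.nw_cons, C.nw_cons, map_mul, ih]; congr 1; exact S.th_n hD _ _
    have h1 : S.th (R.nw l) ∈ C.B := by
      have : R.nw l = g⁻¹ * (b : E)⁻¹ * k * (b' : E)⁻¹ := by rw [e']; group
      rw [this, map_mul, map_mul, map_mul, map_inv, map_inv, map_inv, hk, mul_one]
      exact mul_mem (mul_mem (inv_mem (C.H_le_B (S.th_mem_diag hD hg))) (inv_mem (hth _ hbB)))
        (inv_mem (hth _ hb'B))
    rw [hnw, C.nw_mem_B_iff, C.mem_H_iff] at h1
    have h2 : R.nw l ∈ R.H := R.mem_H_of_pos h1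
    have hkB : k ∈ R.B := e' ▸ mul_mem (mul_mem hbB (R.H_le_B (mul_mem hg h2))) hb'B
    obtain ⟨u, hu, z, hz, rfl⟩ := R.exists_B hkB
    have hthU : S.th u ∈ C.Upos := by
      have : R.Upos ≤ C.Upos.comap S.th := R.span_le fun r hr z hz => by
        obtain ⟨t, rfl⟩ := S.mem_rootSub.1 hz
        refine C.U_le_Upos (r := r) hr ?_
        rw [S.th_xg hD]
        exact xg_mem_rootSubgroup hD _ t
      exact this hu
    have h3 : S.th u ∈ C.Upos ⊓ C.H := by
      refine ⟨hthU, ?_⟩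
      have : S.th u = (S.th z)⁻¹ := eq_inv_of_mul_eq_one_left (by rw [← map_mul, hk])
      rw [this]
      exact C.H.inv_mem (S.th_mem_diag hD hz)
    have hUH : C.Upos ⊓ C.H = ⊥ := C.U_inf_H
    rw [hUH, Subgroup.mem_bot] at h3
    have hu' : u ∈ S.halfU (ht D M) := by
      have : R.Upos ≤ S.halfU (ht D M) := R.span_le fun r hr z hz => by
        obtain ⟨t, rfl⟩ := S.mem_rootSub.1 hz
        exact S.x_mem_halfU r.isLt (hR.ht_pos _ r.isLt hr) t
      exact this hu
    rw [S.th_injOn_halfU hD (isLin_ht hD M) hu' (one_mem _) (by rw [h3, map_one]), one_mul]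
    exact hz

theorem ker_le_center : S.th.ker ≤ Subgroup.center E := by
  intro k hk
  obtain ⟨χ, hχ⟩ := S.exists_char hD hR hX (S.ker_le_H hD hR hX hgen hk)
  rw [MonoidHom.mem_ker] at hk
  have hx : ∀ s u, k * S.x s u = S.x s u * k := by
    intro s u
    have e := hχ s u
    have e' : S.x s ((χ s : F) * u) = S.x s u :=
      S.x_eq_of_th hD hR (by rw [← e, map_mul, map_mul, map_inv, hk, one_mul, inv_one, mul_one])
    rw [e'] at e
    exact mul_inv_eq_iff_eq_mul.1 e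
  rw [Subgroup.mem_center_iff]
  intro g
  have hle : Subgroup.closure {g | ∃ r t, g = S.x r t} ≤ Subgroup.centralizer {k} := by
    refine (Subgroup.closure_le _).2 ?_
    rintro z ⟨r, t, rfl⟩
    rw [SetLike.mem_coe, Subgroup.mem_centralizer_iff]
    rintro y rfl
    exact hx r t
  rw [hgen] at hle
  exact (Subgroup.mem_centralizer_iff.1 (hle (Subgroup.mem_top g)) k rfl).symm

end Sys

end Cfsg.Agent.ChevSt
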