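/-
Steinberg presentations, part 15: table facts for universality.

* `PairOK`: a fundamental root and an independent root have ⟨r,q⟩ = 0 or ⟨r,q⟩⟨q,r⟩ ∈ {1,2,3}.
* `Central1 D r`: r is a term of the commutator word of two roots, all roots involved commuting with r.
* `exists_univTables`.
-/
import Cfsg.Agent.Lib.ChevSt.Extra
import Cfsg.Agent.Lib.Chev.DataE6
import Cfsg.Agent.Lib.Chev.DataE7
import Cfsg.Agent.Lib.Chev.DataE8

set_option autoImplicit false
set_option maxRecDepth 100000
set_option synthInstance.maxSize 4000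

namespace Cfsg.Agent.ChevSt

open Cfsg.Lie Cfsg.Lie.ChevalleyDatum

/-- Pairing products of a fundamental root with the others. -/
def PairOK (D : ChevalleyDatum) : Prop :=
  ∀ i < D.rank, ∀ q < D.nroots, q ≠ D.simple i → q ≠ D.neg (D.simple i) →
    D.pairing (D.simple i) q = 0 ∨
      (1 ≤ D.pairing (D.simple i) q * D.pairing q (D.simple i) ∧
        D.pairing (D.simple i) q * D.pairing q (D.simple i) ≤ 3)

/-- A decomposition all of whose roots commute with r. -/
def Central1 (D : ChevalleyDatum) (r : ℕ) : Prop :=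
  ∃ a b, a < D.nroots ∧ b < D.nroots ∧ a ≠ r ∧ a ≠ D.neg r ∧ b ≠ r ∧ b ≠ D.neg r ∧ b ≠ a ∧ b ≠ D.neg a ∧
    D.commTerms r a = [] ∧ D.commTerms r b = [] ∧
    ∃ L₁ τ L₂, D.commTerms a b = L₁ ++ τ :: L₂ ∧ τ.1 = r ∧
      (∀ σ ∈ L₁ ++ L₂, σ.1 < D.nroots ∧ σ.1 ≠ r ∧ σ.1 ≠ D.neg r ∧ D.commTerms r σ.1 = []) ∧
      (τ.2.1 = 1 ∨ τ.2.1 = -1) ∧ (τ.2.2.1 = 1 ∨ τ.2.2.2 = 1)

/-- The test for a pair. -/
def cenB (D : ChevalleyDatum) (r a b : ℕ) : Bool :=
  condB D r a b && (D.commTerms r a).isEmpty && (D.commTerms r b).isEmpty &&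
    (D.commTerms a b).all fun σ => σ.1 == r ||
      (decide (σ.1 < D.nroots ∧ σ.1 ≠ D.neg r) && (D.commTerms r σ.1).isEmpty)

/-- For each fundamental root: a coefficient -1 in its Cartan column, or a central decomposition. -/
def addAllB (D : ChevalleyDatum) : Bool :=
  (List.range D.rank).all fun i => ((List.range D.rank).any fun j => D.cartan j (D.simple i) == -1) ||
    (List.range D.nroots).any fun a => [1, 2, 3].any fun k =>
      match D.chainRoot (D.neg a) (D.simple i) k with
      | some b => cenB D (D.simple i) a b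
      | none => false

theorem of_addAllB {D : ChevalleyDatum} (h : addAllB D = true) {i : ℕ} (hi : i < D.rank) :
    (∃ j < D.rank, D.cartan j (D.simple i) = -1) ∨ Central1 D (D.simple i) := by
  simp only [addAllB, List.all_eq_true, List.mem_range, Bool.or_eq_true, List.any_eq_true, beq_iff_eq] at h
  rcases h i hi with h | ⟨a, -, k, -, h⟩
  · exact Or.inl h
  refine Or.inr ?_
  split at h
  swap
  · cases h
  rename_i b _
  simp only [cenB, condB, Bool.and_eq_true, decide_eq_true_eq, beq_iff_eq, List.any_eq_true, List.all_eq_true,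
    Bool.or_eq_true, List.isEmpty_iff] at h
  obtain ⟨⟨⟨⟨⟨⟨⟨h1, h2, h3, h4, h5, h6, h7, h8⟩, hc⟩, ⟨τ, hτ, hτr, hu⟩⟩, -⟩, e1⟩, e2⟩, hall⟩ := h
  obtain ⟨L₁, L₂, e⟩ := List.append_of_mem hτ
  refine ⟨a, b, h1, h2, h3, h4, h5, h6, h7, h8, e1, e2, L₁, τ, L₂, e, hτr, fun σ hσ => ?_, hu.1, hu.2⟩
  have hne : σ.1 ≠ D.simple i := by
    intro hσr
    rw [e, List.countP_append, List.countP_cons_of_pos (by simpa using hτr)] at hc
    have h0 : L₁.countP (fun τ => τ.1 == D.simple i) = 0 ∧ L₂.countP (fun τ => τ.1 == D.simple i) = 0 := by omega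
    rcases List.mem_append.1 hσ with hm | hm
    · exact absurd hσr (by simpa using List.countP_eq_zero.1 h0.1 σ hm)
    · exact absurd hσr (by simpa using List.countP_eq_zero.1 h0.2 σ hm)
  have hm : σ ∈ D.commTerms a b := by rw [e]; simp only [List.mem_append, List.mem_cons] at hσ ⊢; tauto
  rcases hall σ hm with hh | ⟨⟨hh1, hh2⟩, hh3⟩
  · exact absurd hh hne
  · exact ⟨hh1, hne, hh2, hh3⟩

/-- In a simply-laced datum the pairing product of two independent roots is 0 or 1. -/
theorem pairOK_of_slData {D : ChevalleyDatum} {v : ℕ → Fin D.rank → ℤ} {γ : ℕ → ℤ} (h : Chev.SLData D v γ)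
    (hs : ∀ i < D.rank, D.simple i < D.nroots) : PairOK D := by
  intro i hi q hq h1 h2
  rw [h.pairing_comm hq (hs i hi)]
  rcases h.classify _ (hs i hi) q hq with c | c | c | c
  · exact absurd c.2 h1
  · exact absurd c.2 h2
  · exact Or.inr (by rw [c.1]; norm_num)
  · rcases c.1 with e | e
    · exact Or.inl e
    · exact Or.inr (by rw [e]; norm_num)

theorem pairOK_G2 : PairOK chevG2 := by unfold PairOK; decide +kernel
theorem pairOK_B2 : PairOK chevB2 := by unfold PairOK; decide +kernel
theorem pairOK_D4 : PairOK chevD4 := by unfold PairOK; decide +kernel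
theorem pairOK_F4 : PairOK chevF4 := by unfold PairOK; decide +kernel
theorem pairOK_E6 : PairOK chevE6 :=
  pairOK_of_slData (Chev.DataE6.tables.slData (by decide)) fun i hi => (Chev.DataE6.tables.simple i hi).1
theorem pairOK_E7 : PairOK chevE7 :=
  pairOK_of_slData (Chev.DataE7.tables.slData (by decide)) fun i hi => (Chev.DataE7.tables.simple i hi).1
theorem pairOK_E8 : PairOK chevE8 :=
  pairOK_of_slData (Chev.DataE8.tables.slData (by decide)) fun i hi => (Chev.DataE8.tables.simple i hi).1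

theorem addAllB_G2 : addAllB chevG2 = true := by decide +kernel
theorem addAllB_B2 : addAllB chevB2 = true := by decide +kernel
theorem addAllB_D4 : addAllB chevD4 = true := by decide +kernel
theorem addAllB_F4 : addAllB chevF4 = true := by decide +kernel
theorem addAllB_E6 : addAllB chevE6 = true := by decide +kernel
theorem addAllB_E7 : addAllB chevE7 = true := by decide +kernel
theorem addAllB_E8 : addAllB chevE8 = true := by decide +kernel

/-- The table facts of the seven data. -/
theorem exists_univTables (D : ChevalleyDatum)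
    (hD : D ∈ [chevG2, chevB2, chevD4, chevF4, chevE6, chevE7, chevE8]) :
    PairOK D ∧ ∀ i < D.rank, (∃ j < D.rank, D.cartan j (D.simple i) = -1) ∨ Central1 D (D.simple i) := by
  simp only [List.mem_cons, List.not_mem_nil, or_false] at hD
  rcases hD with rfl | rfl | rfl | rfl | rfl | rfl | rfl
  exacts [⟨pairOK_G2, fun _ => of_addAllB addAllB_G2⟩, ⟨pairOK_B2, fun _ => of_addAllB addAllB_B2⟩,
    ⟨pairOK_D4, fun _ => of_addAllB addAllB_D4⟩, ⟨pairOK_F4, fun _ => of_addAllB addAllB_F4⟩,
    ⟨pairOK_E6, fun _ => of_addAllB addAllB_E6⟩, ⟨pairOK_E7, fun _ => of_addAllB addAllB_E7⟩,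
    ⟨pairOK_E8, fun _ => of_addAllB addAllB_E8⟩]

end Cfsg.Agent.ChevSt
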