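/-
Steinberg presentations, part 16: elements of H̄ with prescribed characters.

* `Sys.Acts g χ`: g scales every root element by χ; `Sys.exists_coroot_elem`.
* `Sys.exists_fix_move`: fixing one root and moving an independent one (more than four field elements).
-/
import Cfsg.Agent.Lib.ChevSt.Data
import Cfsg.Agent.Lib.ChevSt.UnivTables

set_option autoImplicit false

namespace Cfsg.Agent.ChevSt

open Cfsg.Lie Cfsg.Lie.ChevalleyDatum Cfsg.Agent.Chev Cfsg.Agent.ChevBN

theorem exists_avoid {F : Type*} [Field F] (hK : ∃ s : Finset F, 4 < s.card) (L : List F) (hL : L.length ≤ 4) :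
    ∃ v : F, ∀ a ∈ L, v ≠ a := by
  classical
  obtain ⟨s, hs⟩ := hK
  by_contra h
  push Not at h
  have hsub : s ⊆ L.toFinset := fun v _ => by
    obtain ⟨a, ha, e⟩ := h v
    rw [List.mem_toFinset, e]
    exact ha
  have := (Finset.card_le_card hsub).trans L.toFinset_card_le
  omega

/-- A unit avoiding the roots of X² + X + 1. -/
theorem exists_not_root {F : Type*} [Field F] (hK : ∃ s : Finset F, 4 < s.card) :
    ∃ v : F, v ≠ 0 ∧ v + 1 ≠ 0 ∧ v ^ 2 + v + 1 ≠ 0 := by
  classical
  by_cases h : ∃ w : F, w ^ 2 + w + 1 = 0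
  · obtain ⟨w, hw⟩ := h
    obtain ⟨v, hv⟩ := exists_avoid hK [0, -1, w, -1 - w] (by simp)
    refine ⟨v, hv 0 (by simp), fun e => hv (-1) (by simp) (eq_neg_of_add_eq_zero_left e), fun e => ?_⟩
    have h0 : (v - w) * (v + w + 1) = 0 := by linear_combination e - hw
    rcases mul_eq_zero.1 h0 with e' | e'
    · exact hv w (by simp) (sub_eq_zero.1 e')
    · exact hv (-1 - w) (by simp) (by linear_combination e')
  · push Not at h
    obtain ⟨v, hv⟩ := exists_avoid hK [0, -1] (by simp)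
    exact ⟨v, hv 0 (by simp), fun e => hv (-1) (by simp) (eq_neg_of_add_eq_zero_left e), h v⟩

theorem exists_pow_ne_one {F : Type*} [Field F] (hK : ∃ s : Finset F, 4 < s.card) (e : ℕ) (he1 : 1 ≤ e)
    (he3 : e ≤ 3) : ∃ v : Fˣ, v ^ e ≠ 1 := by
  classical
  suffices ∃ v : F, v ≠ 0 ∧ v ^ e ≠ 1 by
    obtain ⟨v, hv0, hv⟩ := this
    exact ⟨Units.mk0 v hv0, fun h => hv (by simpa using congrArg Units.val h)⟩
  interval_cases e
  · obtain ⟨v, hv⟩ := exists_avoid hK [0, 1] (by simp)
    exact ⟨v, hv 0 (by simp), by simpa using hv 1 (by simp)⟩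
  · obtain ⟨v, hv⟩ := exists_avoid hK [0, 1, -1] (by simp)
    refine ⟨v, hv 0 (by simp), fun h => ?_⟩
    rcases sq_eq_one_iff.1 h with h | h
    · exact hv 1 (by simp) h
    · exact hv (-1) (by simp) h
  · by_cases hw : ∃ w : F, w ^ 2 + w + 1 = 0
    · obtain ⟨w, hw⟩ := hw
      obtain ⟨v, hv⟩ := exists_avoid hK [0, 1, w, -1 - w] (by simp)
      refine ⟨v, hv 0 (by simp), fun h => ?_⟩
      have h0 : (v - 1) * ((v - w) * (v + w + 1)) = 0 := by linear_combination h - (v - 1) * hw
      rcases mul_eq_zero.1 h0 with e | e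
      · exact hv 1 (by simp) (sub_eq_zero.1 e)
      rcases mul_eq_zero.1 e with e | e
      · exact hv w (by simp) (sub_eq_zero.1 e)
      · exact hv (-1 - w) (by simp) (by linear_combination e)
    · push Not at hw
      obtain ⟨v, hv⟩ := exists_avoid hK [0, 1] (by simp)
      refine ⟨v, hv 0 (by simp), fun h => ?_⟩
      have h0 : (v - 1) * (v ^ 2 + v + 1) = 0 := by linear_combination h
      rcases mul_eq_zero.1 h0 with e | e
      · exact hv 1 (by simp) (sub_eq_zero.1 e)
      · exact hw v e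

namespace Sys

variable {D : ChevalleyDatum} {F : Type*} [Field F] {E : Type*} [Group E] (S : Sys D F E)

/-- g scales every root element by χ. -/
def Acts (g : E) (χ : ℕ → Fˣ) : Prop := ∀ s u, g * S.x s u * g⁻¹ = S.x s ((χ s : F) * u)

theorem acts_mul {a b : E} {χ ψ : ℕ → Fˣ} (ha : S.Acts a χ) (hb : S.Acts b ψ) :
    S.Acts (a * b) (fun s => χ s * ψ s) := fun s u => by
  rw [show a * b * S.x s u * (a * b)⁻¹ = a * (b * S.x s u * b⁻¹) * a⁻¹ by group, hb, ha, Units.val_mul, mul_assoc]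

theorem acts_one : S.Acts 1 (fun _ => 1) := fun s u => by simp

variable (hD : Good D) {M : List (List ℤ)} {d : ℤ} (hR : Roots D M d)
  (hX : ∀ i < D.rank, Decomp D (D.simple i) ∧ Decomp D (D.neg (D.simple i)))
include hD hR hX

theorem exists_coroot_elem (r : ℕ) (v : Fˣ) : ∃ g, S.Acts g fun q => v ^ D.pairing r q := by
  have key : ∀ L : List ℕ, (∀ i ∈ L, i < D.rank) → ∃ g, S.Acts g fun q =>
      v ^ (L.map fun i => (D.coroot.getD r #[]).getD i 0 * D.cartan i q).sum := by
    intro L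
    induction L with
    | nil => intro _; exact ⟨1, by simpa using S.acts_one⟩
    | cons i L ih =>
      intro hL
      obtain ⟨g, hg⟩ := ih fun j hj => hL j (List.mem_cons_of_mem _ hj)
      have hi := hL i (by simp)
      set c := (D.coroot.getD r #[]).getD i 0
      have h1 : S.Acts (S.h (D.simple i) ((v ^ c : Fˣ) : F)) fun q => (v ^ c) ^ D.cartan i q := fun q u => by
        rw [S.h_conj hD hR hX hi (Units.ne_zero _), pairing_simple hD hi, Units.val_zpow_eq_zpow_val (v ^ c)]
      refine ⟨S.h (D.simple i) ((v ^ c : Fˣ) : F) * g, fun s u => ?_⟩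
      rw [S.acts_mul h1 hg s u]
      simp only [List.map_cons, List.sum_cons, zpow_add, ← zpow_mul, c]
  exact key (List.range D.rank) fun i hi => List.mem_range.1 hi

theorem acts_transport {i : ℕ} (hi : i < D.rank) {g : E} {χ : ℕ → Fˣ} (hg : S.Acts g χ) :
    S.Acts (S.n (D.simple i) 1 * g * (S.n (D.simple i) 1)⁻¹)
      (fun q => if q < D.nroots then χ (wN D i q) else 1) := by
  intro s u
  by_cases hs : s < D.nroots
  swap
  · rw [S.x_out s u (not_lt.1 hs), S.x_out s _ (not_lt.1 hs)]; group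
  have hw : wN D i s < D.nroots := refl_lt hD (hD.simple_lt i hi) hs
  set m := S.n (D.simple i) 1
  set e : F := (nSign D (D.simple i) (wN D i s) : F) with he
  have he2 : e * e = 1 := by rcases (nSign_cases hD (hD.simple_lt i hi) hw).1 with h | h <;> simp [he, h]
  have h1 : ∀ v, m * S.x (wN D i s) v * m⁻¹ = S.x s (e * v) := fun v => by
    rw [S.n_conj hD hR hX hi hw one_ne_zero, one_zpow, mul_one, ← he]
    congr 1
    exact refl_refl hD (hD.simple_lt i hi) hs
  have h2 : S.x s u = m * S.x (wN D i s) (e * u) * m⁻¹ := by rw [h1, ← mul_assoc, he2, one_mul]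
  show m * g * m⁻¹ * S.x s u * (m * g * m⁻¹)⁻¹ = S.x s (((if s < D.nroots then χ (wN D i s) else 1 : Fˣ) : F) * u)
  rw [if_pos hs, h2, show m * g * m⁻¹ * (m * S.x (wN D i s) (e * u) * m⁻¹) * (m * g * m⁻¹)⁻¹ =
    m * (g * S.x (wN D i s) (e * u) * g⁻¹) * m⁻¹ by group, hg, h1]
  congr 1
  linear_combination (χ (wN D i s) : F) * u * he2

/-- An element fixing the root s and moving the independent root r. -/
theorem exists_fix_move (hP : PairOK D) (hK : ∃ t : Finset F, 4 < t.card) {r : ℕ} (hr : r < D.nroots) :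
    ∀ s < D.nroots, s ≠ r → s ≠ D.neg r → ∃ g χ, S.Acts g χ ∧ χ s = 1 ∧ χ r ≠ 1 := by
  let P : ℕ → Prop := fun r => r < D.nroots ∧
    ∀ s < D.nroots, s ≠ r → s ≠ D.neg r → ∃ g χ, S.Acts g χ ∧ χ s = 1 ∧ χ r ≠ 1
  have trans : ∀ i < D.rank, ∀ q, P q → P (wN D i q) := by
    intro i hi q ⟨hq, ih⟩
    have hsi := hD.simple_lt i hi
    have hinv : ∀ q < D.nroots, wN D i (wN D i q) = q := fun q hq => refl_refl hD hsi hq
    have hwq : wN D i q < D.nroots := refl_lt hD hsi hq
    refine ⟨hwq, fun s hs e1 e2 => ?_⟩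
    obtain ⟨g, χ, hg, c1, c2⟩ := ih (wN D i s) (refl_lt hD hsi hs) (fun e => e1 (by rw [← hinv s hs, e]))
      (fun e => e2 (by rw [← hinv s hs, e, hR.refl_neg hD hi hq]))
    refine ⟨_, _, S.acts_transport hD hR hX hi hg, ?_, ?_⟩
    · show (if s < D.nroots then χ (wN D i s) else 1) = 1
      rw [if_pos hs, c1]
    · show (if wN D i q < D.nroots then χ (wN D i (wN D i q)) else 1) ≠ 1
      rw [if_pos hwq, hinv q hq]
      exact c2
  have base : ∀ i < D.rank, P (D.simple i) := by
    intro i hi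
    refine ⟨hD.simple_lt i hi, fun s hs e1 e2 => ?_⟩
    rcases hP i hi s hs e1 e2 with h0 | ⟨h1, h3⟩
    · obtain ⟨v, hv⟩ := exists_pow_ne_one hK 2 (by norm_num) (by norm_num)
      obtain ⟨g, hg⟩ := S.exists_coroot_elem hD hR hX (D.simple i) v
      refine ⟨g, _, hg, by show v ^ D.pairing (D.simple i) s = 1; rw [h0, zpow_zero], ?_⟩
      show v ^ D.pairing (D.simple i) (D.simple i) ≠ 1
      rw [hD.pairing_self _ (hD.simple_lt i hi), show (2 : ℤ) = ((2 : ℕ) : ℤ) by norm_num, zpow_natCast]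
      exact hv
    · set P₁ := D.pairing (D.simple i) s
      set P₂ := D.pairing s (D.simple i)
      obtain ⟨e, he⟩ : ∃ e : ℕ, (e : ℤ) = 4 - P₁ * P₂ := ⟨(4 - P₁ * P₂).toNat, Int.toNat_of_nonneg (by omega)⟩
      obtain ⟨v, hv⟩ := exists_pow_ne_one hK e (by omega) (by omega)
      obtain ⟨g, hg⟩ := S.exists_coroot_elem hD hR hX (D.simple i) (v ^ (2 : ℤ))
      obtain ⟨g', hg'⟩ := S.exists_coroot_elem hD hR hX s (v ^ (-P₁))
      refine ⟨_, _, S.acts_mul hg hg', ?_, ?_⟩
      · show (v ^ (2 : ℤ)) ^ P₁ * (v ^ (-P₁)) ^ D.pairing s s = 1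
        rw [hD.pairing_self s hs, ← zpow_mul, ← zpow_mul, ← zpow_add, show 2 * P₁ + -P₁ * 2 = 0 by ring, zpow_zero]
      · show (v ^ (2 : ℤ)) ^ D.pairing (D.simple i) (D.simple i) * (v ^ (-P₁)) ^ P₂ ≠ 1
        rw [hD.pairing_self _ (hD.simple_lt i hi), ← zpow_mul, ← zpow_mul, ← zpow_add,
          show 2 * 2 + -P₁ * P₂ = (e : ℤ) by rw [he]; ring, zpow_natCast]
        exact hv
  have key : ∀ q, q < D.nroots → D.IsPosRoot q → P q ∧ P (D.neg q) := by
    intro q hq hp
    refine hR.pos_induction hD (P := fun q => P q ∧ P (D.neg q)) (fun i hi => ⟨base i hi, ?_⟩) ?_ hq hp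
    · have := trans i hi _ (base i hi)
      rwa [show wN D i (D.simple i) = D.neg (D.simple i) by simp [wN, Chev.refl]] at this
    · intro i hi q hq ⟨h1, h2⟩
      exact ⟨trans i hi q h1, by rw [← hR.refl_neg hD hi hq]; exact trans i hi _ h2⟩
  by_cases hp : D.IsPosRoot r
  · exact (key r hr hp).1.2
  · have h := (key _ (hD.neg_lt r hr) ((pos_or_neg hD hr).2 hp)).2
    rw [hD.neg_neg r hr] at h
    exact h.2

/-- An element moving a given root. -/
theorem exists_move (hP : PairOK D) (hK : ∃ t : Finset F, 4 < t.card) {r : ℕ} (hr : r < D.nroots) :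
    ∃ g χ, S.Acts g χ ∧ χ r ≠ 1 := by
  obtain ⟨i, hi, e1, e2⟩ : ∃ i, i < D.rank ∧ D.simple i ≠ r ∧ D.simple i ≠ D.neg r := by
    by_contra h
    push Not at h
    have h2 : 2 ≤ D.rank := by
      by_contra hlt
      have hpos : 0 < D.rank := by
        by_contra h0
        obtain ⟨c, hc⟩ := hD.coroot_prim r hr
        rw [Finset.sum_eq_zero fun i _ => absurd i.isLt (by omega)] at hc
        exact one_ne_zero hc.symm
      obtain ⟨a, b, ha, -, hai, hai', -⟩ := (hX 0 hpos).1
      by_cases hp : D.IsPosRoot a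
      · exact hai (hR.sole a ha hp 0 hpos fun k hk hk0 => by omega)
      · exact hai' (by rw [← hR.sole _ (hD.neg_lt a ha) ((pos_or_neg hD ha).2 hp) 0 hpos fun k hk hk0 => by omega,
          hD.neg_neg a ha])
    by_cases e : D.simple 0 = r
    · by_cases e' : D.simple 1 = r
      · exact absurd (hR.simple_inj hD (by omega) (by omega) (e.trans e'.symm)) (by norm_num)
      · have h1 := hR.pos_simple hD (i := 1) (by omega)
        rw [h 1 (by omega) e', pos_or_neg hD hr, ← e] at h1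
        exact h1 (hR.pos_simple hD (by omega))
    · by_cases e' : D.simple 1 = r
      · have h1 := hR.pos_simple hD (i := 0) (by omega)
        rw [h 0 (by omega) e, pos_or_neg hD hr, ← e'] at h1
        exact h1 (hR.pos_simple hD (by omega))
      · exact absurd (hR.simple_inj hD (by omega) (by omega) ((h 0 (by omega) e).trans (h 1 (by omega) e').symm))
          (by norm_num)
  obtain ⟨g, χ, hg, -, hne⟩ := S.exists_fix_move hD hR hX hP hK hr _ (hD.simple_lt i hi) e1 e2
  exact ⟨g, χ, hg, hne⟩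

end Sys

end Cfsg.Agent.ChevSt
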