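/-
Steinberg presentations, part 7: the presented groups, and the centre of the Chevalley group.

* `covSys`, `stSys`: the systems of (R1,R2) and of (R1,R2,R3).
* `center_group_eq_bot`: the Chevalley group has trivial centre.
* `steinberg_ker`, `cover_central`, `steinberg_center`: the general forms of the kernel statements.
-/
import Cfsg.Agent.Lib.ChevSt.Data
import Cfsg.Agent.Lib.ChevBN.Facts
import Cfsg.Prelude.Def_SteinbergCover

set_option autoImplicit false

namespace Cfsg.Agent.ChevSt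

open Cfsg.Lie Cfsg.Lie.ChevalleyDatum Cfsg.Agent.Chev Cfsg.Agent.ChevBN

section Centre

/-- An element of `R.G` normalising B lies in B. -/
theorem normalize_mem_B {Γ : Type*} [Group Γ] {Φ I : Type*} (R : RGD.RootData Γ Φ I) {z : Γ} (hz : z ∈ R.G)
    (hc : ∀ b ∈ R.B, z * b * z⁻¹ ∈ R.B) : z ∈ R.B := by
  obtain ⟨w, hw⟩ := BN.exists_mem_C R.bnPair ⟨z, hz⟩
  induction w using QuotientGroup.induction_on with
  | H m =>
    obtain ⟨b, hb, b', hb', e⟩ := (BN.mem_C_mk R.bnPair).1 hw
    obtain ⟨g, hg, l, hl⟩ := R.mem_N_iff.1 (show ((m : R.G) : Γ) ∈ R.N from m.2)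
    have hbB : (b : Γ) ∈ R.B := hb
    have hb'B : (b' : Γ) ∈ R.B := hb'
    have e' : z = (b : Γ) * (g * R.nw l) * (b' : Γ) := by rw [← hl]; exact congrArg Subtype.val e
    set c : Γ := (g⁻¹ * (b : Γ)⁻¹) with hcdef
    have hcB : c ∈ R.B := mul_mem (inv_mem (R.H_le_B hg)) (inv_mem hbB)
    have hn : R.nw l = c * z * (b' : Γ)⁻¹ := by rw [hcdef, e']; group
    have hpos : ∀ r, R.pos r → R.pos (R.ww l r) := by
      intro r hr
      rw [← R.U_le_B_iff, ← R.map_conj_U]
      rintro _ ⟨x, hx, rfl⟩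
      have hxB : x ∈ R.B := R.Upos_le_B (R.U_le_Upos hr hx)
      have h1 : (b' : Γ)⁻¹ * x * b' ∈ R.B := mul_mem (mul_mem (inv_mem hb'B) hxB) hb'B
      show R.nw l * x * (R.nw l)⁻¹ ∈ R.B
      rw [hn, show c * z * (b' : Γ)⁻¹ * x * (c * z * (b' : Γ)⁻¹)⁻¹ =
        c * (z * ((b' : Γ)⁻¹ * x * b') * z⁻¹) * c⁻¹ by group]
      exact mul_mem (mul_mem hcB (hc _ h1)) (inv_mem hcB)
    rw [e']
    exact mul_mem (mul_mem hbB (R.H_le_B (mul_mem hg (R.mem_H_of_pos hpos)))) hb'B

theorem commute_mem_B {Γ : Type*} [Group Γ] {Φ I : Type*} (R : RGD.RootData Γ Φ I) {z : Γ} (hz : z ∈ R.G)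
    (hc : ∀ g ∈ R.G, z * g = g * z) : z ∈ R.B :=
  normalize_mem_B R hz fun b hb => by rwa [hc b (R.B_le_G hb), mul_inv_cancel_right]

variable {D : ChevalleyDatum} {F : Type*} [Field F] {M : List (List ℤ)} {d : ℤ}

theorem center_group_eq_bot (hD : Good D) (hR : Roots D M d) : Subgroup.center (D.group F) = ⊥ := by
  rw [eq_bot_iff, ← normalCore_eq_bot hD hR, Subgroup.normal_le_normalCore]
  intro z hz
  rw [Subgroup.mem_subgroupOf, ← chev_B hD hR]
  refine commute_mem_B _ (by rw [chev_G hD hR]; exact z.2) fun g hg => ?_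
  rw [chev_G hD hR] at hg
  exact congrArg Subtype.val ((Subgroup.mem_center_iff.1 hz ⟨g, hg⟩).symm)

end Centre

variable {D : ChevalleyDatum} (F : Type*) [Field F]

omit [Field F] in
theorem mk_stWord (rels : Set (FreeGroup (Fin D.nroots × F))) (w : List (ℕ × F)) :
    PresentedGroup.mk rels (D.stWord w) = (w.map fun p => PresentedGroup.mk rels (D.stX p.1 p.2)).prod := by
  rw [ChevalleyDatum.stWord, map_list_prod, List.map_map]
  rfl

variable (hD : Good D)

/-- The assignment of the root elements in the Chevalley group. -/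
def rootGen (p : Fin D.nroots × F) : D.group F := ⟨xg hD F p.1.val p.2, xg_mem_group hD _ _⟩

theorem lift_stX (r : ℕ) (t : F) :
    FreeGroup.lift (rootGen F hD) (D.stX r t) = ⟨xg hD F r t, xg_mem_group hD r t⟩ := by
  unfold ChevalleyDatum.stX
  split
  · rw [FreeGroup.lift_apply_of]; rfl
  · rw [map_one]; exact Subtype.ext (xg_out hD ‹_› t).symm

theorem lift_stWord (w : List (ℕ × F)) :
    ((FreeGroup.lift (rootGen F hD) (D.stWord w) : D.group F) : GL D.Idx F) =
      (w.map fun p => xg hD F p.1 p.2).prod := by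
  rw [ChevalleyDatum.stWord, map_list_prod, List.map_map, ← Subgroup.coe_subtype, map_list_prod, List.map_map]
  congr 1
  refine List.map_congr_left fun p _ => ?_
  simp [lift_stX]

theorem xg_commutator {r s : ℕ} (hr : r < D.nroots) (hs : s < D.nroots) (h₁ : s ≠ r) (h₂ : s ≠ D.neg r)
    (t u : F) : xg hD F s u * xg hD F r t =
      xg hD F r t * xg hD F s u * ((D.commWord F r s t u).map fun p => xg hD F p.1 p.2).prod := by
  apply Units.ext
  rw [Units.val_mul, Units.val_mul, Units.val_mul, coe_xg, coe_xg, hD.commutator hr hs h₁ h₂,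
    ← Units.coeHom_apply (((D.commWord F r s t u).map fun p => xg hD F p.1 p.2).prod), map_list_prod,
    List.map_map]
  rfl

theorem lift_stH (r : ℕ) (t : F) :
    ((FreeGroup.lift (rootGen F hD) (D.stH r t) : D.group F) : GL D.Idx F) = hg hD F r t := by
  rw [ChevalleyDatum.stH, lift_stWord]
  simp [ChevalleyDatum.hWord, ChevalleyDatum.nWord, hg, ng, mul_assoc]

theorem lift_relAB : ∀ g ∈ D.steinbergRelsAB F, FreeGroup.lift (rootGen F hD) g = 1 := by
  rintro g (⟨r, t, u, hr, rfl⟩ | ⟨r, s, t, u, hr, hs, h₁, h₂, rfl⟩)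
  · apply Subtype.ext
    simp [lift_stX, xg_add hD hr]
  · apply Subtype.ext
    simp only [map_mul, map_inv, lift_stX, Subgroup.coe_mul, Subgroup.coe_inv, lift_stWord, OneMemClass.coe_one]
    rw [mul_assoc ((xg hD F s u)⁻¹ * (xg hD F r t)⁻¹), xg_commutator F hD hr hs h₁ h₂ t u]
    group

theorem lift_rel : ∀ g ∈ D.steinbergRels F, FreeGroup.lift (rootGen F hD) g = 1 := by
  rintro g ((hg' | hg') | ⟨r, t, u, hr, ht, hu, rfl⟩)
  · exact lift_relAB F hD g (Or.inl hg')
  · exact lift_relAB F hD g (Or.inr hg')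
  · apply Subtype.ext
    simp only [map_mul, map_inv, Subgroup.coe_mul, Subgroup.coe_inv, lift_stH, OneMemClass.coe_one]
    rw [mul_inv_eq_one]
    apply Units.ext
    rw [Units.val_mul, coe_hg, coe_hg, coe_hg, hMat_eq_diag hD hr ht, hMat_eq_diag hD hr hu,
      hMat_eq_diag hD hr (mul_ne_zero ht hu), dg, dg, dg, Matrix.diagonal_mul_diagonal]
    congr 1
    ext a
    rcases a with i | s
    · simp
    · simp [mul_zpow]

/-- The map of the covering group onto the Chevalley group. -/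
def covHom : D.SteinbergCover F →* D.group F := PresentedGroup.toGroup (lift_relAB F hD)

/-- The map of the presented group onto the Chevalley group. -/
def stHom : D.SteinbergGroup F →* D.group F := PresentedGroup.toGroup (lift_rel F hD)

theorem covHom_gen (r : ℕ) (t : F) : (covHom F hD (D.scGen F r t) : GL D.Idx F) = xg hD F r t :=
  congrArg Subtype.val (lift_stX F hD r t)

theorem stHom_gen (r : ℕ) (t : F) : (stHom F hD (D.stGen F r t) : GL D.Idx F) = xg hD F r t :=
  congrArg Subtype.val (lift_stX F hD r t)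

/-- The system of a homomorphism of a presented group taking the root generators to root elements. -/
def presSys (rels : Set (FreeGroup (Fin D.nroots × F))) (hsub : D.steinbergRelsAB F ⊆ rels)
    (θ : PresentedGroup rels →* D.group F)
    (hθ : ∀ (r : ℕ) (t : F), r < D.nroots →
      ((θ (PresentedGroup.mk rels (D.stX r t)) : GL D.Idx F) : Matrix D.Idx D.Idx F) = D.x F r t) :
    Sys D F (PresentedGroup rels) where
  x r t := PresentedGroup.mk rels (D.stX r t)
  th := (D.group F).subtype.comp θ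
  th_x r t := by
    by_cases hr : r < D.nroots
    · exact hθ r t hr
    · simp [ChevalleyDatum.stX, hr, x_of_le D (not_lt.1 hr)]
  x_out r t hr := by simp [ChevalleyDatum.stX, not_lt.2 hr]
  add r t u := by
    by_cases hr : r < D.nroots
    · have h := PresentedGroup.one_of_mem (hsub (Or.inl ⟨r, t, u, hr, rfl⟩))
      rw [map_mul, map_mul, map_inv, mul_inv_eq_one] at h
      exact h.symm
    · simp [ChevalleyDatum.stX, hr]
  comm r s hr hs h₁ h₂ t u := by
    have h := PresentedGroup.one_of_mem (hsub (Or.inr ⟨r, s, t, u, hr, hs, h₁, h₂, rfl⟩))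
    simp only [map_mul, map_inv, mk_stWord] at h
    rw [mul_inv_eq_one] at h
    rw [← h]
    group

omit hD in
theorem presSys_gen (rels : Set (FreeGroup (Fin D.nroots × F))) (hsub : D.steinbergRelsAB F ⊆ rels)
    (θ : PresentedGroup rels →* D.group F)
    (hθ : ∀ (r : ℕ) (t : F), r < D.nroots →
      ((θ (PresentedGroup.mk rels (D.stX r t)) : GL D.Idx F) : Matrix D.Idx D.Idx F) = D.x F r t) :
    Subgroup.closure {g | ∃ r t, g = (presSys F rels hsub θ hθ).x r t} = ⊤ := by
  rw [eq_top_iff, ← PresentedGroup.closure_range_of rels]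
  refine Subgroup.closure_mono ?_
  rintro _ ⟨⟨⟨r, hr⟩, t⟩, rfl⟩
  exact ⟨r, t, by simp [presSys, ChevalleyDatum.stX, hr]; rfl⟩

omit hD in
theorem presSys_h (rels : Set (FreeGroup (Fin D.nroots × F))) (hsub : D.steinbergRelsAB F ⊆ rels)
    (θ : PresentedGroup rels →* D.group F)
    (hθ : ∀ (r : ℕ) (t : F), r < D.nroots →
      ((θ (PresentedGroup.mk rels (D.stX r t)) : GL D.Idx F) : Matrix D.Idx D.Idx F) = D.x F r t)
    (r : ℕ) (t : F) : (presSys F rels hsub θ hθ).h r t = PresentedGroup.mk rels (D.stH r t) := by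
  rw [ChevalleyDatum.stH, mk_stWord]
  simp [Sys.h, Sys.n, presSys, ChevalleyDatum.hWord, ChevalleyDatum.nWord, mul_assoc]

omit hD in
theorem group_le_range {E : Type*} [Group E] (θ : E →* D.group F) (x : ℕ → F → E)
    (hθ : ∀ (r : ℕ) (t : F), r < D.nroots →
      ((θ (x r t) : GL D.Idx F) : Matrix D.Idx D.Idx F) = D.x F r t) : Function.Surjective θ := by
  intro g
  have hle : D.group F ≤ θ.range.map (D.group F).subtype := by
    refine (Subgroup.closure_le _).2 ?_
    rintro z ⟨r, t, e⟩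
    exact ⟨θ (x r.val t), ⟨_, rfl⟩, Units.ext (by
      rw [e]; exact (hθ r.val t r.isLt).trans (by simp [ChevalleyDatum.x]))⟩
  obtain ⟨y, ⟨a, rfl⟩, hy⟩ := hle g.2
  exact ⟨a, Subtype.ext hy⟩

theorem ker_presSys (rels : Set (FreeGroup (Fin D.nroots × F))) (hsub : D.steinbergRelsAB F ⊆ rels)
    (θ : PresentedGroup rels →* D.group F)
    (hθ : ∀ (r : ℕ) (t : F), r < D.nroots →
      ((θ (PresentedGroup.mk rels (D.stX r t)) : GL D.Idx F) : Matrix D.Idx D.Idx F) = D.x F r t) :
    (presSys F rels hsub θ hθ).th.ker = θ.ker := by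
  ext k
  simp [presSys, MonoidHom.mem_ker]

section

variable {F} {M : List (List ℤ)} {d : ℤ} (hR : Roots D M d)
  (hX : ∀ i < D.rank, Decomp D (D.simple i) ∧ Decomp D (D.neg (D.simple i)))
include hD hR hX

theorem steinberg_ker (θ : D.SteinbergGroup F →* D.group F)
    (hθ : ∀ (r : ℕ) (t : F), r < D.nroots →
      ((θ (D.stGen F r t) : GL D.Idx F) : Matrix D.Idx D.Idx F) = D.x F r t) :
    θ.ker ≤ Subgroup.closure {h | ∃ (i : ℕ) (t : F), i < D.rank ∧ t ≠ 0 ∧
      h = PresentedGroup.mk (D.steinbergRels F) (D.stH (D.simple i) t)} := by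
  have hsub : D.steinbergRelsAB F ⊆ D.steinbergRels F := fun g hg' => Or.inl hg'
  rw [← ker_presSys F _ hsub θ hθ]
  refine (Sys.ker_le_H _ hD hR hX (presSys_gen F _ hsub θ hθ)).trans (Subgroup.closure_mono ?_)
  rintro g ⟨i, t, hi, ht, rfl⟩
  exact ⟨i, t, hi, ht, presSys_h F _ hsub θ hθ _ _⟩

theorem cover_central :
    ∃ θ : D.SteinbergCover F →* D.group F, Function.Surjective θ ∧
      θ.ker ≤ Subgroup.center (D.SteinbergCover F) ∧
      ∀ (r : ℕ) (t : F), r < D.nroots →
        ((θ (D.scGen F r t) : GL D.Idx F) : Matrix D.Idx D.Idx F) = D.x F r t := by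
  have hθ : ∀ (r : ℕ) (t : F), r < D.nroots →
      ((covHom F hD (D.scGen F r t) : GL D.Idx F) : Matrix D.Idx D.Idx F) = D.x F r t :=
    fun r t _ => by rw [covHom_gen, coe_xg]
  refine ⟨covHom F hD, group_le_range F _ _ hθ, ?_, hθ⟩
  rw [← ker_presSys F _ subset_rfl _ hθ]
  exact Sys.ker_le_center _ hD hR hX (presSys_gen F _ subset_rfl _ hθ)

theorem steinberg_center :
    ∃ θ : D.SteinbergGroup F →* D.group F, Function.Surjective θ ∧
      θ.ker = Subgroup.center (D.SteinbergGroup F) ∧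
      ∀ (r : ℕ) (t : F), r < D.nroots →
        ((θ (D.stGen F r t) : GL D.Idx F) : Matrix D.Idx D.Idx F) = D.x F r t := by
  have hθ : ∀ (r : ℕ) (t : F), r < D.nroots →
      ((stHom F hD (D.stGen F r t) : GL D.Idx F) : Matrix D.Idx D.Idx F) = D.x F r t :=
    fun r t _ => by rw [stHom_gen, coe_xg]
  have hsur := group_le_range F _ _ hθ
  have hsub : D.steinbergRelsAB F ⊆ D.steinbergRels F := fun g hg' => Or.inl hg'
  refine ⟨stHom F hD, hsur, le_antisymm ?_ fun z hz => ?_, hθ⟩
  · rw [← ker_presSys F _ hsub _ hθ]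
    exact Sys.ker_le_center _ hD hR hX (presSys_gen F _ hsub _ hθ)
  · rw [MonoidHom.mem_ker, ← Subgroup.mem_bot, ← center_group_eq_bot hD hR (F := F), Subgroup.mem_center_iff]
    intro g
    obtain ⟨a, rfl⟩ := hsur g
    rw [← map_mul, ← map_mul, Subgroup.mem_center_iff.1 hz a]

end

end Cfsg.Agent.ChevSt
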