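/-
Steinberg presentations, part 13: two independent roots lie in a common positive half-space.
-/
import Cfsg.Agent.Lib.ChevBN.Instance

set_option autoImplicit false

namespace Cfsg.Agent.ChevSt

open Cfsg.Lie Cfsg.Lie.ChevalleyDatum Cfsg.Agent.Chev Cfsg.Agent.ChevBN

theorem exists_both_pos' {D : ChevalleyDatum} (hD : Good D) {M : List (List ℤ)} {d : ℤ} (hR : Roots D M d)
    {r s : ℕ} (hr : r < D.nroots) (hs : s < D.nroots) (h₁ : s ≠ r) (h₂ : s ≠ D.neg r) :
    ∃ f, IsLin D f ∧ 0 < f r ∧ 0 < f s := by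
  have key : ∀ q, q < D.nroots → D.IsPosRoot q → ∀ s < D.nroots, s ≠ q → s ≠ D.neg q →
      ∃ f, IsLin D f ∧ 0 < f q ∧ 0 < f s := by
    intro q hq hp
    refine (hR.pos_induction hD (P := fun q => q < D.nroots ∧ ∀ s < D.nroots, s ≠ q → s ≠ D.neg q →
      ∃ f, IsLin D f ∧ 0 < f q ∧ 0 < f s) ?_ ?_ hq hp).2
    · intro i hi
      refine ⟨hD.simple_lt i hi, fun s hs e1 e2 => ?_⟩
      obtain ⟨f, hf, h0, hpos⟩ : ∃ f, IsLin D f ∧ f (D.simple i) = 0 ∧ 0 < f s := by
        by_cases hp : D.IsPosRoot s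
        · obtain ⟨k, hk, hki, hc⟩ := hR.exists_other hD hs hp hi e1
          exact ⟨co D M k, isLin_co hD M k, by rw [hR.dual k hk i hi, if_neg hki], hc⟩
        · have hne : D.neg s ≠ D.simple i := fun e => e2 (by rw [← e, hD.neg_neg s hs])
          obtain ⟨k, hk, hki, hc⟩ := hR.exists_other hD (hD.neg_lt s hs) ((pos_or_neg hD hs).2 hp) hi hne
          rw [hR.co_neg hD hs] at hc
          exact ⟨fun q => -1 * co D M k q, (isLin_co hD M k).smul (-1),
            show -1 * co D M k (D.simple i) = 0 by rw [hR.dual k hk i hi, if_neg hki, mul_zero],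
            show 0 < -1 * co D M k s by linarith⟩
      refine ⟨_, (isLin_co hD M i).addFun (hf.smul (|co D M i s| + 1)), ?_, ?_⟩
      · show 0 < co D M i (D.simple i) + (|co D M i s| + 1) * f (D.simple i)
        rw [h0, mul_zero, add_zero, hR.dual i hi i hi, if_pos rfl]
        exact hR.d_pos
      · show 0 < co D M i s + (|co D M i s| + 1) * f s
        have h1 : (|co D M i s| + 1) * 1 ≤ (|co D M i s| + 1) * f s :=
          mul_le_mul_of_nonneg_left hpos (by positivity)
        have h3 := neg_abs_le (co D M i s)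
        linarith
    · rintro i hi p hp' ⟨-, ih⟩
      have hsi := hD.simple_lt i hi
      have hw : wN D i p < D.nroots := refl_lt hD hsi hp'
      refine ⟨hw, fun s hs e1 e2 => ?_⟩
      have hws : wN D i s < D.nroots := refl_lt hD hsi hs
      have hinv : ∀ q < D.nroots, wN D i (wN D i q) = q := fun q hq => refl_refl hD hsi hq
      obtain ⟨g, hg, g1, g2⟩ := ih (wN D i s) hws (fun e => e1 (by rw [← hinv s hs, e]))
        (fun e => e2 (by rw [← hinv s hs, e, hR.refl_neg hD hi hp']))
      refine ⟨fun q => g q + -g (D.simple i) * D.pairing (D.simple i) q,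
        hg.addFun ((isLin_pairing hD _).smul _), ?_, ?_⟩
      · have e : g (wN D i (wN D i p)) = g (wN D i p) - D.pairing (D.simple i) (wN D i p) * g (D.simple i) :=
          hg.refl hD hsi hw
        rw [hinv p hp'] at e
        show 0 < g (wN D i p) + _ * _
        linarith
      · have e : g (wN D i s) = g s - D.pairing (D.simple i) s * g (D.simple i) := hg.refl hD hsi hs
        show 0 < g s + _ * _
        linarith
  by_cases hp : D.IsPosRoot r
  · exact key r hr hp s hs h₁ h₂
  · have hn := hD.neg_lt r hr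
    obtain ⟨f, hf, f1, f2⟩ := key _ hn ((pos_or_neg hD hr).2 hp) (D.neg s) (hD.neg_lt s hs)
      (fun e => h₁ (by rw [← hD.neg_neg s hs, e, hD.neg_neg r hr]))
      (fun e => h₂ (by rw [← hD.neg_neg s hs, e, hD.neg_neg r hr]))
    rw [hf.neg r hr] at f1
    rw [hf.neg s hs] at f2
    exact ⟨fun q => -1 * f q, hf.smul (-1), show 0 < -1 * f r by linarith, show 0 < -1 * f s by linarith⟩

end Cfsg.Agent.ChevSt
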