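/-
Steinberg presentations, part 14: lifting the relations to a central extension.

* `Sys.coord_zero`: the coordinate of a word at a lowest root.
* `Lifting`, `Rigid`: lifts of the root elements, additive, and a rigidity condition on the central kernel.
* `Lifting.rel`: the lifts satisfy the commutator relations.
-/
import Cfsg.Agent.Lib.ChevSt.Data
import Cfsg.Agent.Lib.ChevSt.BothPos

set_option autoImplicit false

namespace Cfsg.Agent.ChevSt

open Cfsg.Lie Cfsg.Lie.ChevalleyDatum Cfsg.Agent.Chev Cfsg.Agent.ChevBN Matrix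

variable {D : ChevalleyDatum} {F : Type*} [Field F] {E : Type*} [Group E] (S : Sys D F E)

open Sys in
theorem Sys.coord_zero (hD : Good D) {f : ℕ → ℤ} (hf : IsLin D f) {k : ℕ} (T' : Finset ℕ) (hkn : k < D.nroots)
    (hkpos : 0 < f k) (hpos : ∀ q ∈ T', q < D.nroots ∧ 0 < f q) (hmin : ∀ q ∈ T', f k ≤ f q) (hk' : k ∉ T')
    (t : F) {g' : E} (hg' : g' ∈ S.genBy (T' : Set ℕ)) (hgh : S.th (S.x k t * g') = 1) : t = 0 := by
  have hn := hD.neg_lt k hkn
  set P : E → Prop := fun g =>
    ((S.th g : Matrix D.Idx D.Idx F) *ᵥ ev D F (D.neg k) - ev D F (D.neg k) ∈ above D F f (-f k)) ∧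
      ∀ v ∈ above D F f (-f k), (S.th g : Matrix D.Idx D.Idx F) *ᵥ v ∈ above D F f (-f k) with hP
  have hPall : ∀ a ∈ S.genBy (T' : Set ℕ), P a := by
    intro a ha'
    induction ha' using Subgroup.closure_induction'' with
    | one => exact ⟨by simp, fun v hv => by simpa using hv⟩
    | mem g hg =>
      obtain ⟨q, hq, u, rfl⟩ := hg
      have hqk : q ≠ k := fun e => hk' (e ▸ hq)
      obtain ⟨hqn, hqpos⟩ := hpos q hq
      have hge : -f q ≤ -f k := by have := hmin q hq; omega
      refine ⟨?_, fun v hv => by rw [S.th_x]; exact x_above hD hf hqn hqpos hge u hv⟩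
      have h₁ : D.neg k ≠ q := by
        intro h
        rw [← h, hf.neg k hkn] at hqpos
        omega
      have h₂ : D.neg k ≠ D.neg q := fun h => hqk (by rw [← hD.neg_neg q hqn, ← h, hD.neg_neg k hkn])
      rw [S.th_x, x_eq_xR D hqn, xR_gen D q u (hD.keys q hqn) hn h₁ h₂, add_sub_cancel_left]
      exact sumCol_mem_above hD hf hqn hn h₁ h₂ hqpos (by rw [hf.neg k hkn]) u
    | inv_mem g hg =>
      obtain ⟨q, hq, u, rfl⟩ := hg
      rw [← S.x_neg]
      have hqk : q ≠ k := fun e => hk' (e ▸ hq)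
      obtain ⟨hqn, hqpos⟩ := hpos q hq
      have hge : -f q ≤ -f k := by have := hmin q hq; omega
      refine ⟨?_, fun v hv => by rw [S.th_x]; exact x_above hD hf hqn hqpos hge _ hv⟩
      have h₁ : D.neg k ≠ q := by
        intro h
        rw [← h, hf.neg k hkn] at hqpos
        omega
      have h₂ : D.neg k ≠ D.neg q := fun h => hqk (by rw [← hD.neg_neg q hqn, ← h, hD.neg_neg k hkn])
      rw [S.th_x, x_eq_xR D hqn, xR_gen D q (-u) (hD.keys q hqn) hn h₁ h₂, add_sub_cancel_left]
      exact sumCol_mem_above hD hf hqn hn h₁ h₂ hqpos (by rw [hf.neg k hkn]) _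
    | mul a b _ _ ha hb =>
      refine ⟨?_, fun v hv => by
        rw [map_mul, Units.val_mul, ← Matrix.mulVec_mulVec]; exact ha.2 _ (hb.2 v hv)⟩
      rw [map_mul, Units.val_mul, ← Matrix.mulVec_mulVec]
      have h := add_mem (ha.2 _ hb.1) ha.1
      rwa [Matrix.mulVec_sub, sub_add_sub_cancel] at h
  have hPg : P g' := hPall g' hg'
  obtain ⟨w, hw, hw'⟩ : ∃ w ∈ above D F f (-f k),
      (S.th g' : Matrix D.Idx D.Idx F) *ᵥ ev D F (D.neg k) = ev D F (D.neg k) + w :=
    ⟨_, hPg.1, (add_sub_cancel _ _).symm⟩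
  have heq : D.x F k t *ᵥ (ev D F (D.neg k) + w) = ev D F (D.neg k) := by
    have h := congrArg (fun M : GL D.Idx F => (M : Matrix D.Idx D.Idx F) *ᵥ ev D F (D.neg k)) hgh
    simpa [map_mul, S.th_x, ← Matrix.mulVec_mulVec, hw'] using h
  rw [Matrix.mulVec_add] at heq
  have hx := above_inl (x_above hD hf hkn hkpos le_rfl t hw)
  rw [x_eq_xR D hkn, xR_neg D k t hn (hD.neg_ne k hkn)] at heq
  rw [x_eq_xR D hkn] at hx
  have hcz : ∀ i : Fin D.rank, t * (((D.coroot.getD k #[]).getD i.val 0 : ℤ) : F) = 0 := by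
    intro i
    have h := congrFun heq (Sum.inl i)
    simpa [ev, hv, hx i] using h
  obtain ⟨c, hc⟩ := hD.coroot_prim k hkn
  have hc' := congrArg (fun z : ℤ => (z : F)) hc
  simp only [Int.cast_sum, Int.cast_mul, Int.cast_one] at hc'
  calc t = t * 1 := (mul_one t).symm
    _ = ∑ i, (c i : F) * (t * (((D.coroot.getD k #[]).getD i.val 0 : ℤ) : F)) := by
      rw [← hc', Finset.mul_sum]; exact Finset.sum_congr rfl fun i _ => by ring
    _ = 0 := Finset.sum_eq_zero fun i _ => by rw [hcz i, mul_zero]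


/-- Lifts of the root elements to a central extension, with rigidity of the kernel. -/
structure Lifting {L : Type*} [Group L] (p : L →* E) where
  /-- the lifts -/
  y : ℕ → F → L
  p_y : ∀ r t, p (y r t) = S.x r t
  central : p.ker ≤ Subgroup.center L
  y_add : ∀ r t u, y r (t + u) = y r t * y r u
  rigid : ∀ r < D.nroots, ∀ s < D.nroots, s ≠ r → s ≠ D.neg r → ∀ ε : F → F → L,
    (∀ t u, ε t u ∈ p.ker) → (∀ t t' u, ε (t + t') u = ε t u * ε t' u) →
    (∀ (g : L) (χ : ℕ → Fˣ), (∀ q v, g * y q v * g⁻¹ = y q ((χ q : F) * v)) →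
      ∀ t u, ε ((χ r : F) * t) ((χ s : F) * u) = ε t u) → (∀ t u u', ε t (u + u') = ε t u * ε t u') →
    (∀ t u, y r t * y s u * (y r t)⁻¹ =
      y s u * ((D.commWord F r s (-t) u).map fun τ => y τ.1 τ.2).prod * ε t u) → ∀ t u, ε t u = 1

namespace Lifting

variable {S} {L : Type*} [Group L] {p : L →* E} (Y : Lifting S p)

theorem y_zero (r : ℕ) : Y.y r 0 = 1 :=
  (left_eq_mul (a := Y.y r 0) (b := Y.y r 0)).mp (by rw [← Y.y_add, add_zero])

theorem y_neg (r : ℕ) (t : F) : Y.y r (-t) = (Y.y r t)⁻¹ :=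
  (inv_eq_of_mul_eq_one_right (by rw [← Y.y_add, add_neg_cancel, Y.y_zero])).symm

/-- The subgroup generated by the lifts of a set of roots. -/
def V (T : Set ℕ) : Subgroup L := Subgroup.closure {g | ∃ q ∈ T, ∃ t : F, g = Y.y q t}

theorem y_mem_V {T : Set ℕ} {q : ℕ} (hq : q ∈ T) (t : F) : Y.y q t ∈ Y.V T :=
  Subgroup.subset_closure ⟨q, hq, t, rfl⟩

theorem p_mem_genBy {T : Set ℕ} {g : L} (hg : g ∈ Y.V T) : p g ∈ S.genBy T := by
  have hle : Y.V T ≤ (S.genBy T).comap p := by
    refine (Subgroup.closure_le _).2 ?_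
    rintro z ⟨q, hq, t, rfl⟩
    show p _ ∈ S.genBy T
    rw [Y.p_y]
    exact S.x_mem_genBy hq t
  exact hle hg

/-- The word of the commutator formula for x_r(t) x_s(u) x_r(t)⁻¹. -/
def W (r s : ℕ) (t u : F) : L := ((D.commWord F r s (-t) u).map fun τ => Y.y τ.1 τ.2).prod

theorem p_W (r s : ℕ) (t u : F) : p (Y.W r s t u) = ((D.commWord F r s (-t) u).map fun τ => S.x τ.1 τ.2).prod := by
  rw [W, map_list_prod, List.map_map]
  congr 1
  exact List.map_congr_left fun τ _ => Y.p_y _ _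

theorem W_mem {T : Set ℕ} {r s : ℕ} (h : ∀ τ ∈ D.commTerms r s, τ.1 ∈ T) (t u : F) : Y.W r s t u ∈ Y.V T := by
  refine list_prod_mem fun g hg => ?_
  simp only [ChevalleyDatum.commWord, List.map_map, List.mem_map, Function.comp_apply] at hg
  obtain ⟨τ, hτ, rfl⟩ := hg
  exact Y.y_mem_V (h τ hτ) _

theorem conj_V_le {T T₂ : Set ℕ} {g : L} (h : ∀ q ∈ T, ∀ t, g * Y.y q t * g⁻¹ ∈ Y.V T₂) {z : L} (hz : z ∈ Y.V T) :
    g * z * g⁻¹ ∈ Y.V T₂ := by
  have hle : Y.V T ≤ (Y.V T₂).comap (MulAut.conj g).toMonoidHom := by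
    refine (Subgroup.closure_le _).2 ?_
    rintro z ⟨q, hq, t, rfl⟩
    exact h q hq t
  exact hle hz

theorem inj (hD : Good D) {f : ℕ → ℤ} (hf : IsLin D f) :
    ∀ (m : ℕ) (T : Finset ℕ), T.card = m → (∀ q ∈ T, q < D.nroots ∧ 0 < f q) →
      (∀ r ∈ T, ∀ s ∈ T, s ≠ r → ∀ τ ∈ D.commTerms r s, τ.1 ∈ T) →
      ∀ g ∈ Y.V (T : Set ℕ), p g = 1 → g = 1 := by
  intro m
  induction m with
  | zero =>
    intro T hT _ _ g hg _
    rw [Finset.card_eq_zero] at hT
    subst hT
    simpa [V] using hg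
  | succ m ih =>
    intro T hT hpos hclosed g hg hgh
    obtain ⟨k, hk, hmin⟩ := T.exists_min_image f (Finset.card_pos.mp (by omega))
    set T' := T.erase k with hT'
    obtain ⟨hkn, hkpos⟩ := hpos k hk
    have hne_neg : ∀ r ∈ T, ∀ s ∈ T, s ≠ D.neg r := by
      rintro r hr s hs rfl
      have h1 := (hpos _ hs).2
      rw [hf.neg r (hpos r hr).1] at h1
      have := (hpos r hr).2
      omega
    have hgt : ∀ r ∈ T, ∀ s ∈ T, s ≠ r → ∀ τ ∈ D.commTerms r s, τ.1 ∈ T' ∧ f s < f τ.1 := by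
      intro r hr s hs hne τ hτ
      obtain ⟨-, h4, h5, h6⟩ := hf.commTerms hD (hpos r hr).1 (hpos s hs).1 hne (hne_neg r hr s hs) hτ
      have := hmin r hr
      have := hmin s hs
      have := (hpos r hr).2
      have := (hpos s hs).2
      have e1 : f r ≤ (τ.2.2.1 : ℤ) * f r := le_mul_of_one_le_left (by omega) (by exact_mod_cast h4)
      have e2 : f s ≤ (τ.2.2.2 : ℤ) * f s := le_mul_of_one_le_left (by omega) (by exact_mod_cast h5)
      refine ⟨Finset.mem_erase.mpr ⟨fun e => ?_, hclosed r hr s hs hne τ hτ⟩, by omega⟩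
      rw [e] at h6
      omega
    have IH := ih T' (by rw [hT', Finset.card_erase_of_mem hk, hT, Nat.add_sub_cancel])
      (fun q hq => hpos q (Finset.mem_of_mem_erase hq))
      (fun r hr s hs hne τ hτ =>
        (hgt r (Finset.mem_of_mem_erase hr) s (Finset.mem_of_mem_erase hs) hne τ hτ).1)
    have IHeq : ∀ a ∈ Y.V (T' : Set ℕ), ∀ b ∈ Y.V (T' : Set ℕ), p a = p b → a = b := fun a ha b hb e =>
      eq_of_mul_inv_eq_one (IH _ (mul_mem ha (inv_mem hb)) (by rw [map_mul, map_inv, e, mul_inv_cancel]))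
    have hcen : ∀ z ∈ p.ker, ∀ v : L, v * z = z * v := fun z hz v => Subgroup.mem_center_iff.1 (Y.central hz) v
    -- conjugation by y_k is given by the commutator words
    have C : ∀ n : ℕ, ∀ q ∈ T', (T'.filter fun q' => f q < f q').card < n → ∀ t u,
        Y.y k t * Y.y q u * (Y.y k t)⁻¹ = Y.y q u * Y.W k q t u := by
      intro n
      induction n with
      | zero => intro q _ h; omega
      | succ n ihn =>
        intro q hq hcard
        obtain ⟨hqk, hqT⟩ := Finset.mem_erase.mp hq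
        obtain ⟨hqn, hqpos⟩ := hpos q hqT
        set T₂ : Set ℕ := {q' | q' ∈ T' ∧ f q < f q'} with hT₂
        have hW₂ : ∀ t u, Y.W k q t u ∈ Y.V T₂ := Y.W_mem fun τ hτ => hgt k hk q hqT hqk τ hτ
        have hW : ∀ t u, Y.W k q t u ∈ Y.V (T' : Set ℕ) := Y.W_mem fun τ hτ => (hgt k hk q hqT hqk τ hτ).1
        have hconjW : ∀ t z, z ∈ Y.V T₂ → Y.y k t * z * (Y.y k t)⁻¹ ∈ Y.V (T' : Set ℕ) := by
          intro t z hz
          refine Y.conj_V_le (T := T₂) (fun q' hq2 v => ?_) hz
          obtain ⟨hq', hlt⟩ := hq2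
          have hss : (T'.filter fun a => f q' < f a).card < (T'.filter fun a => f q < f a).card := by
            refine Finset.card_lt_card ⟨fun a ha => ?_, fun hsub => ?_⟩
            · simp only [Finset.mem_filter] at ha ⊢
              exact ⟨ha.1, hlt.trans ha.2⟩
            · have := hsub (Finset.mem_filter.mpr ⟨hq', hlt⟩)
              simp only [Finset.mem_filter, lt_self_iff_false, and_false] at this
          rw [ihn q' hq' (by omega)]
          exact mul_mem (Y.y_mem_V (T := (T' : Set ℕ)) hq' v) (Y.W_mem (fun τ hτ =>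
              (hgt k hk q' (Finset.mem_of_mem_erase hq') (Finset.ne_of_mem_erase hq') τ hτ).1) t v)
        set ε : F → F → L := fun t u => (Y.y q u * Y.W k q t u)⁻¹ * (Y.y k t * Y.y q u * (Y.y k t)⁻¹) with hε
        have heps : ∀ t u, Y.y k t * Y.y q u * (Y.y k t)⁻¹ = Y.y q u * Y.W k q t u * ε t u := fun t u => by
          simp only [hε]; group
        have hker : ∀ t u, ε t u ∈ p.ker := by
          intro t u
          rw [MonoidHom.mem_ker]
          simp only [hε, map_mul, map_inv, Y.p_y, Y.p_W]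
          rw [inv_mul_eq_one, ← S.x_neg, mul_assoc (S.x k t),
            S.comm k q hkn hqn hqk (hne_neg k hk q hqT) (-t) u, ← mul_assoc, ← mul_assoc, ← S.add,
            add_neg_cancel, S.x_zero, one_mul]
        have hadd : ∀ t t' u, ε (t + t') u = ε t u * ε t' u := by
          intro t t' u
          set cW := Y.y k t * Y.W k q t' u * (Y.y k t)⁻¹ with hcW
          have h1 : Y.y q u * Y.W k q (t + t') u * ε (t + t') u =
              Y.y q u * (Y.W k q t u * cW) * (ε t u * ε t' u) := by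
            rw [← heps, Y.y_add, show Y.y k t * Y.y k t' * Y.y q u * (Y.y k t * Y.y k t')⁻¹ =
              Y.y k t * (Y.y k t' * Y.y q u * (Y.y k t')⁻¹) * (Y.y k t)⁻¹ by group, heps t' u]
            calc Y.y k t * (Y.y q u * Y.W k q t' u * ε t' u) * (Y.y k t)⁻¹
                = Y.y k t * Y.y q u * (Y.y k t)⁻¹ * cW * (Y.y k t * ε t' u * (Y.y k t)⁻¹) := by rw [hcW]; group
              _ = Y.y q u * Y.W k q t u * (ε t u * cW) * ε t' u := by
                  rw [hcen _ (hker t' u), mul_inv_cancel_right, heps t u]; group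
              _ = _ := by rw [← hcen _ (hker t u)]; group
          have h2 : Y.W k q (t + t') u = Y.W k q t u * cW := by
            refine IHeq _ (hW _ _) _ (mul_mem (hW _ _) (hconjW t _ (hW₂ _ _))) ?_
            have h3 := congrArg p h1
            simp only [map_mul, MonoidHom.mem_ker.1 (hker _ _), mul_one] at h3
            rw [map_mul]
            exact mul_left_cancel h3
          rw [h2] at h1
          exact mul_left_cancel h1
        have hinv : ∀ (g : L) (χ : ℕ → Fˣ), (∀ a v, g * Y.y a v * g⁻¹ = Y.y a ((χ a : F) * v)) →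
            ∀ t u, ε ((χ k : F) * t) ((χ q : F) * u) = ε t u := by
          intro g χ hg t u
          have h1 : Y.y q ((χ q : F) * u) * (g * Y.W k q t u * g⁻¹) * ε t u =
              Y.y q ((χ q : F) * u) * Y.W k q ((χ k : F) * t) ((χ q : F) * u) * ε ((χ k : F) * t) ((χ q : F) * u) := by
            rw [← heps, ← hg q u, ← hg k t]
            calc g * Y.y q u * g⁻¹ * (g * Y.W k q t u * g⁻¹) * ε t u
                = g * (Y.y q u * Y.W k q t u) * (g⁻¹ * ε t u) := by group
              _ = g * (Y.y q u * Y.W k q t u * ε t u) * g⁻¹ := by rw [hcen _ (hker t u)]; group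
              _ = g * (Y.y k t * Y.y q u * (Y.y k t)⁻¹) * g⁻¹ := by rw [← heps t u]
              _ = _ := by group
          have h2 : g * Y.W k q t u * g⁻¹ = Y.W k q ((χ k : F) * t) ((χ q : F) * u) := by
            refine IHeq _ ?_ _ (hW _ _) ?_
            · exact Y.conj_V_le (fun a ha v => by rw [hg]; exact Y.y_mem_V ha _) (hW t u)
            have h3 := congrArg p h1
            simp only [map_mul, MonoidHom.mem_ker.1 (hker _ _), mul_one] at h3
            rw [map_mul, map_mul]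
            exact mul_left_cancel h3
          rw [h2] at h1
          exact (mul_left_cancel h1).symm
        have hadd' : ∀ t u u', ε t (u + u') = ε t u * ε t u' := by
          intro t u u'
          set V' := Y.y q (-u') * Y.W k q t u * Y.y q u' * Y.W k q t u' with hV'
          have hmV : V' ∈ Y.V (T' : Set ℕ) :=
            mul_mem (mul_mem (mul_mem (Y.y_mem_V hq (-u')) (hW t u)) (Y.y_mem_V hq u')) (hW t u')
          have h1 : Y.y q (u + u') * Y.W k q t (u + u') * ε t (u + u') =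
              Y.y q (u + u') * V' * (ε t u * ε t u') := by
            rw [← heps, hV', Y.y_neg, Y.y_add, show Y.y k t * (Y.y q u * Y.y q u') * (Y.y k t)⁻¹ =
              Y.y k t * Y.y q u * (Y.y k t)⁻¹ * (Y.y k t * Y.y q u' * (Y.y k t)⁻¹) by group, heps t u, heps t u']
            calc Y.y q u * Y.W k q t u * ε t u * (Y.y q u' * Y.W k q t u' * ε t u')
                = Y.y q u * Y.W k q t u * (ε t u * (Y.y q u' * Y.W k q t u')) * ε t u' := by group
              _ = _ := by rw [← hcen _ (hker t u)]; group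
          have h2 : Y.W k q t (u + u') = V' := by
            refine IHeq _ (hW _ _) _ hmV ?_
            have h3 := congrArg p h1
            simp only [map_mul, MonoidHom.mem_ker.1 (hker _ _), mul_one] at h3
            exact mul_left_cancel h3
          rw [h2] at h1
          exact mul_left_cancel h1
        intro t u
        rw [heps, Y.rigid k hkn q hqn hqk (hne_neg k hk q hqT) ε hker hadd hinv hadd' heps t u, mul_one]
    have hconj : ∀ t z, z ∈ Y.V (T' : Set ℕ) → Y.y k t * z * (Y.y k t)⁻¹ ∈ Y.V (T' : Set ℕ) := by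
      intro t z hz
      refine Y.conj_V_le (fun q hq v => ?_) hz
      rw [C _ q hq (Nat.lt_succ_self _)]
      exact mul_mem (Y.y_mem_V hq v) (Y.W_mem (fun τ hτ =>
        (hgt k hk q (Finset.mem_of_mem_erase hq) (Finset.ne_of_mem_erase hq) τ hτ).1) t v)
    obtain ⟨t, g', hg', rfl⟩ : ∃ t, ∃ g' ∈ Y.V (T' : Set ℕ), g = Y.y k t * g' := by
      clear hgh
      induction hg using Subgroup.closure_induction with
      | mem g hg =>
        obtain ⟨q, hq, u, rfl⟩ := hg
        by_cases hqk : q = k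
        · subst hqk; exact ⟨u, 1, one_mem _, by rw [mul_one]⟩
        · exact ⟨0, Y.y q u, Y.y_mem_V (Finset.mem_erase.mpr ⟨hqk, hq⟩) u, by rw [Y.y_zero, one_mul]⟩
      | one => exact ⟨0, 1, one_mem _, by rw [Y.y_zero, one_mul]⟩
      | mul a b _ _ ha hb =>
        obtain ⟨t, a', ha', rfl⟩ := ha
        obtain ⟨u, b', hb', rfl⟩ := hb
        refine ⟨t + u, Y.y k (-u) * a' * (Y.y k (-u))⁻¹ * b', mul_mem (hconj (-u) a' ha') hb', ?_⟩
        rw [Y.y_add, Y.y_neg]; group
      | inv a _ ha =>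
        obtain ⟨t, a', ha', rfl⟩ := ha
        refine ⟨-t, Y.y k t * a'⁻¹ * (Y.y k t)⁻¹, hconj t _ (inv_mem ha'), ?_⟩
        rw [Y.y_neg]; group
    have ht : t = 0 := by
      refine S.coord_zero hD hf T' hkn hkpos (fun q hq => hpos q (Finset.mem_of_mem_erase hq))
        (fun q hq => hmin q (Finset.mem_of_mem_erase hq)) (Finset.notMem_erase k T) t (Y.p_mem_genBy hg') ?_
      rw [map_mul, Y.p_y] at hgh
      rw [hgh, map_one]
    subst ht
    rw [Y.y_zero, one_mul] at hgh ⊢
    exact IH g' hg' hgh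

theorem rel (hD : Good D) {M : List (List ℤ)} {d : ℤ} (hR : Roots D M d) {r s : ℕ} (hr : r < D.nroots)
    (hs : s < D.nroots) (h₁ : s ≠ r) (h₂ : s ≠ D.neg r) (t u : F) :
    Y.y s u * Y.y r t = Y.y r t * Y.y s u * ((D.commWord F r s t u).map fun τ => Y.y τ.1 τ.2).prod := by
  obtain ⟨f, hf, hfr, hfs⟩ := exists_both_pos' hD hR hr hs h₁ h₂
  set T := (Finset.range D.nroots).filter fun q => 0 < f q with hT
  have hmemT : ∀ q, q ∈ T ↔ q < D.nroots ∧ 0 < f q := fun q => by simp [hT]
  have hclosed : ∀ a ∈ T, ∀ b ∈ T, b ≠ a → ∀ τ ∈ D.commTerms a b, τ.1 ∈ T := by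
    intro a ha b hb hne τ hτ
    rw [hmemT] at ha hb ⊢
    have h₂' : b ≠ D.neg a := by rintro rfl; rw [hf.neg a ha.1] at hb; omega
    obtain ⟨h3, h4, h5, h6⟩ := hf.commTerms hD ha.1 hb.1 hne h₂' hτ
    obtain ⟨ha1, ha2⟩ := ha
    obtain ⟨hb1, hb2⟩ := hb
    exact ⟨h3, by rw [h6]; positivity⟩
  have hV : ∀ q v, q < D.nroots → 0 < f q → Y.y q v ∈ Y.V (T : Set ℕ) := fun q v h1 h2 =>
    Y.y_mem_V ((hmemT q).2 ⟨h1, h2⟩) v
  have hw : ((D.commWord F r s t u).map fun τ => Y.y τ.1 τ.2).prod ∈ Y.V (T : Set ℕ) := by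
    refine list_prod_mem fun g hg => ?_
    simp only [ChevalleyDatum.commWord, List.map_map, List.mem_map, Function.comp_apply] at hg
    obtain ⟨τ, hτ, rfl⟩ := hg
    exact Y.y_mem_V (hclosed r ((hmemT r).2 ⟨hr, hfr⟩) s ((hmemT s).2 ⟨hs, hfs⟩) h₁ τ hτ) _
  refine eq_of_mul_inv_eq_one (Y.inj hD hf _ T rfl (fun q hq => (hmemT q).1 hq) hclosed _ ?_ ?_)
  · exact mul_mem (mul_mem (hV s u hs hfs) (hV r t hr hfr))
      (inv_mem (mul_mem (mul_mem (hV r t hr hfr) (hV s u hs hfs)) hw))
  · rw [map_mul, map_mul, map_inv, map_mul, map_mul, Y.p_y, Y.p_y, map_list_prod, List.map_map, mul_inv_eq_one,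
      S.comm r s hr hs h₁ h₂]
    congr 2
    exact (List.map_congr_left fun τ _ => Y.p_y _ _).symm

end Lifting

end Cfsg.Agent.ChevSt
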