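/-
Steinberg presentations, part 17: universality over fields with more than four elements.

* `Sys.exists_lifting`: lifts of the root elements to a central extension.
* `cover_section`, `cover_lift_unique`.
-/
import Cfsg.Agent.Lib.ChevSt.Lift
import Cfsg.Agent.Lib.ChevSt.Acts
import Cfsg.Agent.Lib.ChevSt.Centre

set_option autoImplicit false

namespace Cfsg.Agent.ChevSt

open Cfsg.Lie Cfsg.Lie.ChevalleyDatum Cfsg.Agent.Chev Cfsg.Agent.ChevBN

section Central

variable {E L : Type*} [Group E] [Group L] {p : L →* E} (hc : p.ker ≤ Subgroup.center L)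
include hc

theorem ker_comm {k : L} (hk : k ∈ p.ker) (v : L) : v * k = k * v := Subgroup.mem_center_iff.1 (hc hk) v

theorem exists_ker_mul {A A' : L} (h : p A = p A') : ∃ k ∈ p.ker, A' = A * k :=
  ⟨A⁻¹ * A', by rw [MonoidHom.mem_ker, map_mul, map_inv, h, inv_mul_cancel], (mul_inv_cancel_left _ _).symm⟩

/-- Commutators in a central extension depend only on the images. -/
theorem comm_congr {A A' B B' : L} (hA : p A = p A') (hB : p B = p B') :
    A * B * A⁻¹ * B⁻¹ = A' * B' * A'⁻¹ * B'⁻¹ := by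
  obtain ⟨k, hk, rfl⟩ := exists_ker_mul hc hA
  obtain ⟨l, hl, rfl⟩ := exists_ker_mul hc hB
  calc A * B * A⁻¹ * B⁻¹ = A * (B * k) * k⁻¹ * A⁻¹ * B⁻¹ := by group
    _ = A * k * (B * l * l⁻¹) * k⁻¹ * A⁻¹ * B⁻¹ := by rw [ker_comm hc hk B]; group
    _ = A * k * B * (l * (k⁻¹ * A⁻¹)) * l⁻¹ * B⁻¹ := by rw [← ker_comm hc hl (k⁻¹ * A⁻¹)]; group
    _ = _ := by group

/-- An element with central image commutes with all preimages of commutators. -/
theorem commute_preimage {z v a b : L} (hz : p z ∈ Subgroup.center E) (hv : p v = p (a * b * a⁻¹ * b⁻¹)) :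
    z * v = v * z := by
  obtain ⟨k, hk, rfl⟩ := exists_ker_mul hc hv.symm
  have hconj : ∀ w, p (z * w * z⁻¹) = p w := fun w => by
    rw [map_mul, map_mul, map_inv, ← Subgroup.mem_center_iff.1 hz (p w), mul_inv_cancel_right]
  have h1 : z * (a * b * a⁻¹ * b⁻¹) * z⁻¹ = a * b * a⁻¹ * b⁻¹ := by
    calc z * (a * b * a⁻¹ * b⁻¹) * z⁻¹
        = (z * a * z⁻¹) * (z * b * z⁻¹) * (z * a * z⁻¹)⁻¹ * (z * b * z⁻¹)⁻¹ := by group
      _ = _ := comm_congr hc (hconj a) (hconj b)
  calc z * (a * b * a⁻¹ * b⁻¹ * k) = z * (a * b * a⁻¹ * b⁻¹) * z⁻¹ * (z * k) := by group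
    _ = _ := by rw [h1, ker_comm hc hk z]; group

/-- An element commuting modulo the centre with a and b commutes with preimages of their commutator. -/
theorem commute_comm_preimage {A a b Z : L}
    (ha : p A * p a = p a * p A) (hb : p A * p b = p b * p A) (hZ : p Z = p (a * b * a⁻¹ * b⁻¹)) :
    A * Z = Z * A := by
  obtain ⟨k, hk, rfl⟩ := exists_ker_mul hc hZ.symm
  have h : ∀ w, p A * p w = p w * p A → p (A * w * A⁻¹) = p w := fun w hw => by
    rw [map_mul, map_mul, map_inv, hw, mul_inv_cancel_right]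
  have h1 : A * (a * b * a⁻¹ * b⁻¹) * A⁻¹ = a * b * a⁻¹ * b⁻¹ := by
    calc A * (a * b * a⁻¹ * b⁻¹) * A⁻¹
        = (A * a * A⁻¹) * (A * b * A⁻¹) * (A * a * A⁻¹)⁻¹ * (A * b * A⁻¹)⁻¹ := by group
      _ = _ := comm_congr hc (h a ha) (h b hb)
  calc A * (a * b * a⁻¹ * b⁻¹ * k) = A * (a * b * a⁻¹ * b⁻¹) * A⁻¹ * (A * k) := by group
    _ = _ := by rw [h1, ker_comm hc hk A]; group

end Central

namespace Sys

variable {D : ChevalleyDatum} {F : Type*} [Field F] {E : Type*} [Group E] (S : Sys D F E)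
  (hD : Good D) {M : List (List ℤ)} {d : ℤ} (hR : Roots D M d)
  (hX : ∀ i < D.rank, Decomp D (D.simple i) ∧ Decomp D (D.neg (D.simple i)))
  (hgen : Subgroup.closure {g | ∃ r t, g = S.x r t} = ⊤)

include hgen in
theorem acts_unique {g g' : E} {χ : ℕ → Fˣ} (hg : S.Acts g χ) (hg' : S.Acts g' χ) :
    g * g'⁻¹ ∈ Subgroup.center E := by
  rw [Subgroup.mem_center_iff]
  intro e
  suffices hle : (⊤ : Subgroup E) ≤ Subgroup.centralizer {g * g'⁻¹} from
    (Subgroup.mem_centralizer_singleton_iff.1 (hle (Subgroup.mem_top e))).trans rfl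
  rw [← hgen, Subgroup.closure_le]
  rintro _ ⟨r, t, rfl⟩
  rw [SetLike.mem_coe, Subgroup.mem_centralizer_singleton_iff]
  have h1 := hg' r (((χ r)⁻¹ : Fˣ) * t)
  rw [← mul_assoc, ← Units.val_mul, mul_inv_cancel, Units.val_one, one_mul] at h1
  have h2 := hg r (((χ r)⁻¹ : Fˣ) * t)
  rw [← mul_assoc, ← Units.val_mul, mul_inv_cancel, Units.val_one, one_mul] at h2
  set X := S.x r (((χ r)⁻¹ : Fˣ) * t)
  calc S.x r t * (g * g'⁻¹) = g * X * g'⁻¹ := by rw [← h2]; group
    _ = g * g'⁻¹ * (g' * X * g'⁻¹) := by group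
    _ = _ := by rw [h1]

variable {L : Type*} [Group L] {p : L →* E} (hp : Function.Surjective p) (hc : p.ker ≤ Subgroup.center L)

/-- The commutator of preimages of two root elements. -/
noncomputable def pair (r q : ℕ) (t u : F) : L :=
  Function.surjInv hp (S.x r t) * Function.surjInv hp (S.x q u) * (Function.surjInv hp (S.x r t))⁻¹ *
    (Function.surjInv hp (S.x q u))⁻¹

include hc

theorem pair_eq {r q : ℕ} {t u : F} {A B : L} (hA : p A = S.x r t) (hB : p B = S.x q u) :
    A * B * A⁻¹ * B⁻¹ = S.pair hp r q t u :=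
  comm_congr hc (hA.trans (Function.surjInv_eq hp _).symm) (hB.trans (Function.surjInv_eq hp _).symm)

variable {r q : ℕ} (hcomm : ∀ t u, S.x r t * S.x q u = S.x q u * S.x r t)
include hcomm

theorem pair_ker (t u : F) : S.pair hp r q t u ∈ p.ker := by
  rw [MonoidHom.mem_ker, pair, map_mul, map_mul, map_mul, map_inv, map_inv, Function.surjInv_eq hp,
    Function.surjInv_eq hp, hcomm, mul_inv_cancel_right, mul_inv_cancel]

theorem pair_add_left (t t' u : F) : S.pair hp r q (t + t') u = S.pair hp r q t u * S.pair hp r q t' u := by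
  set A := Function.surjInv hp (S.x r t)
  set A' := Function.surjInv hp (S.x r t')
  set B := Function.surjInv hp (S.x q u)
  rw [← S.pair_eq hp hc (A := A * A') (B := B) (by simp [A, A', Function.surjInv_eq hp, S.add])
    (Function.surjInv_eq hp _)]
  calc A * A' * B * (A * A')⁻¹ * B⁻¹ = A * S.pair hp r q t' u * (B * A⁻¹ * B⁻¹) := by
        simp only [pair, A, A', B]; group
    _ = S.pair hp r q t' u * (A * B * A⁻¹ * B⁻¹) := by rw [ker_comm hc (S.pair_ker hp hc hcomm t' u)]; group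
    _ = S.pair hp r q t u * S.pair hp r q t' u := by
      rw [ker_comm hc (S.pair_ker hp hc hcomm t' u) (S.pair hp r q t u)]; rfl

theorem pair_add_right (t u u' : F) : S.pair hp r q t (u + u') = S.pair hp r q t u * S.pair hp r q t u' := by
  set A := Function.surjInv hp (S.x r t)
  set B := Function.surjInv hp (S.x q u)
  set B' := Function.surjInv hp (S.x q u')
  rw [← S.pair_eq hp hc (A := A) (B := B * B') (Function.surjInv_eq hp _)
    (by simp [B, B', Function.surjInv_eq hp, S.add])]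
  calc A * (B * B') * A⁻¹ * (B * B')⁻¹ = A * B * A⁻¹ * (S.pair hp r q t u' * B⁻¹) := by
        simp only [pair, A, B, B']; group
    _ = A * B * A⁻¹ * B⁻¹ * S.pair hp r q t u' := by rw [← ker_comm hc (S.pair_ker hp hc hcomm t u') B⁻¹]; group
    _ = S.pair hp r q t u * S.pair hp r q t u' := rfl

theorem pair_acts {g : E} {χ : ℕ → Fˣ} (hg : S.Acts g χ) (t u : F) :
    S.pair hp r q ((χ r : F) * t) ((χ q : F) * u) = S.pair hp r q t u := by
  obtain ⟨G, rfl⟩ := hp g
  rw [← S.pair_eq hp hc (A := G * Function.surjInv hp (S.x r t) * G⁻¹) (B := G * Function.surjInv hp (S.x q u) * G⁻¹)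
    (by rw [map_mul, map_mul, map_inv, Function.surjInv_eq hp]; exact hg r t)
    (by rw [map_mul, map_mul, map_inv, Function.surjInv_eq hp]; exact hg q u)]
  calc G * Function.surjInv hp (S.x r t) * G⁻¹ * (G * Function.surjInv hp (S.x q u) * G⁻¹) *
        (G * Function.surjInv hp (S.x r t) * G⁻¹)⁻¹ * (G * Function.surjInv hp (S.x q u) * G⁻¹)⁻¹
      = G * S.pair hp r q t u * G⁻¹ := by rw [pair]; group
    _ = _ := by rw [ker_comm hc (S.pair_ker hp hc hcomm t u), mul_inv_cancel_right]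

omit hcomm

variable (hP : PairOK D) (hU : ∀ i < D.rank, (∃ j < D.rank, D.cartan j (D.simple i) = -1) ∨ Central1 D (D.simple i))
  (hK : ∃ t : Finset F, 4 < t.card)

include hD hR hX hP hK in
/-- Preimages of commuting independent root elements commute. -/
theorem pair_eq_one (hr : r < D.nroots) (hq : q < D.nroots) (h₁ : q ≠ r) (h₂ : q ≠ D.neg r)
    (hcomm : ∀ t u, S.x r t * S.x q u = S.x q u * S.x r t) (t u : F) : S.pair hp r q t u = 1 := by
  obtain ⟨g, χ, hg, c1, c2⟩ := S.exists_fix_move hD hR hX hP hK hr q hq h₁ h₂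
  have hne : ((χ r : F) - 1) ≠ 0 := sub_ne_zero.2 fun e => c2 (Units.ext e)
  have h := S.pair_acts hp hc hcomm hg (t / ((χ r : F) - 1)) u
  rw [c1, Units.val_one, one_mul,
    show (χ r : F) * (t / ((χ r : F) - 1)) = t + t / ((χ r : F) - 1) by field_simp; ring,
    S.pair_add_left hp hc hcomm] at h
  exact mul_eq_right.1 h

omit hc in
/-- All preimages of the elements of the root subgroup commute. -/
def CommAll (S : Sys D F E) (p : L →* E) (r : ℕ) : Prop :=
  ∀ (a b : F) (A B : L), p A = S.x r a → p B = S.x r b → A * B = B * A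

omit hc in
include hD hR hX hp in
theorem commAll_transport {i : ℕ} (hi : i < D.rank) (hr : r < D.nroots) (h : CommAll S p r) :
    CommAll S p (wN D i r) := by
  intro a b A B hA hB
  obtain ⟨m, hm⟩ := hp (S.n (D.simple i) 1)
  set e : F := (nSign D (D.simple i) r : F) with he
  have he2 : e * e = 1 := by rcases (nSign_cases hD (hD.simple_lt i hi) hr).1 with h | h <;> simp [he, h]
  have h1 : ∀ v, S.x r v = (S.n (D.simple i) 1)⁻¹ * S.x (wN D i r) (e * v) * S.n (D.simple i) 1 := fun v => by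
    rw [← show S.n (D.simple i) 1 * S.x r v * (S.n (D.simple i) 1)⁻¹ = S.x (wN D i r) (e * v) by
      rw [S.n_conj hD hR hX hi hr one_ne_zero, one_zpow, mul_one]]
    group
  have h2 : ∀ v, ∀ V, p V = S.x (wN D i r) v → p (m⁻¹ * V * m) = S.x r (e * v) := fun v V hV => by
    rw [h1, map_mul, map_mul, map_inv, hV, hm, ← mul_assoc e e, he2, one_mul]
  have h3 := h _ _ _ _ (h2 a A hA) (h2 b B hB)
  calc A * B = m * (m⁻¹ * A * m * (m⁻¹ * B * m)) * m⁻¹ := by group
    _ = m * (m⁻¹ * B * m * (m⁻¹ * A * m)) * m⁻¹ := by rw [h3]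
    _ = B * A := by group

include hD hR hX hp hP hK in
theorem commAll_of_central (hr : r < D.nroots) (h : Central1 D r) : CommAll S p r := by
  obtain ⟨a, b, ha, hb, h1, h2, h3, h4, h5, h6, ea, eb, L₁, τ, L₂, e, hτ, hσ, hunit, hexp⟩ := h
  intro c c' A B hA hB
  have hkill : ∀ q, q < D.nroots → q ≠ r → q ≠ D.neg r → D.commTerms r q = [] →
      ∀ u, S.x q u ∈ (Subgroup.centralizer {A}).map p := by
    intro q hq q1 q2 qe u
    refine ⟨Function.surjInv hp (S.x q u), Subgroup.mem_centralizer_singleton_iff.2 ?_, Function.surjInv_eq hp _⟩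
    have hcm : ∀ t v, S.x r t * S.x q v = S.x q v * S.x r t := fun t v => by
      rw [S.comm r q hr hq q1 q2 t v, ChevalleyDatum.commWord, qe]; simp
    have h0 := S.pair_eq_one hD hR hX hp hc hP hK hr hq q1 q2 hcm c u
    rw [← S.pair_eq hp hc hA (Function.surjInv_eq hp _), mul_inv_eq_one, mul_inv_eq_iff_eq_mul] at h0
    exact h0.symm
  set W := fun (t u : F) => ((D.commWord F a b t u).map fun z => S.x z.1 z.2).prod
  have hWmem : ∀ t u, W t u ∈ (Subgroup.centralizer {A}).map p := fun t u => by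
    have := S.comm a b ha hb h5 h6 t u
    rw [show W t u = (S.x b u)⁻¹ * (S.x a t)⁻¹ * (S.x b u * S.x a t) by
      rw [this]; simp only [W]; group]
    exact mul_mem (mul_mem (inv_mem (hkill b hb h3 h4 eb u)) (inv_mem (hkill a ha h1 h2 ea t)))
      (mul_mem (hkill b hb h3 h4 eb u) (hkill a ha h1 h2 ea t))
  have hmid : ∀ t u, S.x r ((τ.2.1 : F) * (-t) ^ τ.2.2.1 * u ^ τ.2.2.2) ∈ (Subgroup.centralizer {A}).map p := by
    intro t u
    have hW := hWmem t u
    simp only [W, ChevalleyDatum.commWord, e, List.map_map, List.map_append, List.map_cons, List.prod_append,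
      List.prod_cons, Function.comp_apply, hτ] at hW
    have hL : ∀ Lx : List (ℕ × ℤ × ℕ × ℕ), (∀ σ ∈ Lx, σ ∈ L₁ ++ L₂) →
        ∀ f : (ℕ × ℤ × ℕ × ℕ) → F, (Lx.map fun σ => S.x σ.1 (f σ)).prod ∈ (Subgroup.centralizer {A}).map p := by
      intro Lx hLx f
      refine list_prod_mem fun g hg => ?_
      obtain ⟨σ, hσ', rfl⟩ := List.mem_map.1 hg
      obtain ⟨s1, s2, s3, s4⟩ := hσ σ (hLx σ hσ')
      exact hkill _ s1 s2 s3 s4 _
    have hA1 := hL L₁ (fun σ h => List.mem_append_left _ h) (fun σ => (σ.2.1 : F) * (-t) ^ σ.2.2.1 * u ^ σ.2.2.2)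
    have hA2 := hL L₂ (fun σ h => List.mem_append_right _ h) (fun σ => (σ.2.1 : F) * (-t) ^ σ.2.2.1 * u ^ σ.2.2.2)
    exact (Subgroup.mul_mem_cancel_right _ hA2).1 ((Subgroup.mul_mem_cancel_left _ hA1).1 hW)
  have hall : S.x r c' ∈ (Subgroup.centralizer {A}).map p := by
    have hC : (τ.2.1 : F) * (τ.2.1 : F) = 1 := by rcases hunit with h | h <;> simp [h]
    rcases hexp with hi | hj
    · have := hmid (-((τ.2.1 : F) * c')) 1
      rwa [hi, pow_one, one_pow, mul_one, _root_.neg_neg, ← mul_assoc, hC, one_mul] at this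
    · have := hmid (-1) ((τ.2.1 : F) * c')
      rwa [hj, _root_.neg_neg, one_pow, mul_one, pow_one, ← mul_assoc, hC, one_mul] at this
  obtain ⟨Z, hZ, hZp⟩ := hall
  obtain ⟨k, hk, rfl⟩ := exists_ker_mul hc (hZp.trans hB.symm)
  rw [← mul_assoc, ← Subgroup.mem_centralizer_singleton_iff.1 hZ, mul_assoc Z A, ker_comm hc hk A, mul_assoc]

include hD hR hX hp hK in
theorem commAll_of_cartan {i j : ℕ} (hi : i < D.rank) (hj : j < D.rank) (hc' : D.cartan j (D.simple i) = -1) :
    CommAll S p (D.simple i) := by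
  set r := D.simple i
  intro a b A B hA hB
  have hcm : ∀ t v, S.x r t * S.x r v = S.x r v * S.x r t := fun t v => by rw [← S.add, ← S.add, add_comm]
  suffices h : S.pair hp r r a b = 1 by
    rw [← S.pair_eq hp hc hA hB, mul_inv_eq_one, mul_inv_eq_iff_eq_mul] at h
    exact h
  have hinv : ∀ v : Fˣ, ∀ t u, S.pair hp r r ((v : F) * t) ((v : F) * u) = S.pair hp r r t u := by
    intro v t u
    obtain ⟨g, hg⟩ := S.exists_coroot_elem hD hR hX (D.simple j) v⁻¹
    have := S.pair_acts hp hc hcm hg t u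
    simpa [pairing_simple hD hj, r, hc'] using this
  obtain ⟨v, hv0, hv1, hv2⟩ := exists_not_root hK
  have key : ∀ t u, S.pair hp r r (v * t + v⁻¹ * t + t) u = 1 := by
    intro t u
    have h1 := hinv (Units.mk0 (v + 1) hv1) t u
    have h2 := hinv (Units.mk0 v hv0) t u
    have h3 := hinv (Units.mk0 v⁻¹ (inv_ne_zero hv0)) t (v * u)
    simp only [Units.val_mk0, inv_mul_cancel_left₀ hv0] at h1 h2 h3
    rw [add_mul, one_mul, add_mul, one_mul, S.pair_add_left hp hc hcm, S.pair_add_right hp hc hcm,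
      S.pair_add_right hp hc hcm, h2, mul_assoc, mul_eq_left] at h1
    rw [S.pair_add_left hp hc hcm, S.pair_add_left hp hc hcm, h3, mul_assoc, h1]
  have hne : v + v⁻¹ + 1 ≠ 0 := fun h => hv2 (by field_simp at h; linear_combination h)
  have := key (a / (v + v⁻¹ + 1)) b
  rwa [show v * (a / (v + v⁻¹ + 1)) + v⁻¹ * (a / (v + v⁻¹ + 1)) + a / (v + v⁻¹ + 1) =
    (v + v⁻¹ + 1) * (a / (v + v⁻¹ + 1)) by ring, mul_div_cancel₀ _ hne] at this

include hD hR hX hp hP hU hK in
theorem commAll (r : ℕ) : CommAll S p r := by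
  by_cases hr : r < D.nroots
  swap
  · intro a b A B hA hB
    rw [S.x_out r a (not_lt.1 hr)] at hA
    exact (ker_comm hc (MonoidHom.mem_ker.2 hA) B).symm
  have base : ∀ i < D.rank, CommAll S p (D.simple i) := fun i hi => by
    rcases hU i hi with ⟨j, hj, h⟩ | h
    · exact S.commAll_of_cartan hD hR hX hp hc hK hi hj h
    · exact S.commAll_of_central hD hR hX hp hc hP hK (hD.simple_lt i hi) h
  have key : ∀ q, q < D.nroots → D.IsPosRoot q → CommAll S p q ∧ CommAll S p (D.neg q) := by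
    intro q hq hpq
    refine hR.pos_induction hD (P := fun q => CommAll S p q ∧ CommAll S p (D.neg q))
      (fun i hi => ⟨base i hi, ?_⟩) ?_ hq hpq
    · have := S.commAll_transport hD hR hX hp hi (hD.simple_lt i hi) (base i hi)
      rwa [show wN D i (D.simple i) = D.neg (D.simple i) by simp [wN, Chev.refl]] at this
    · intro i hi q hq ⟨h1, h2⟩
      refine ⟨S.commAll_transport hD hR hX hp hi hq h1, ?_⟩
      rw [← hR.refl_neg hD hi hq]
      exact S.commAll_transport hD hR hX hp hi (hD.neg_lt q hq) h2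
  by_cases hpos : D.IsPosRoot r
  · exact (key r hr hpos).1
  · have := (key _ (hD.neg_lt r hr) ((pos_or_neg hD hr).2 hpos)).2
    rwa [hD.neg_neg r hr] at this

omit hc in
/-- Lifts of one root subgroup commuting with the action of the torus. -/
structure RootLift (S : Sys D F E) (p : L →* E) (r : ℕ) (y : F → L) : Prop where
  p_y : ∀ t, p (y t) = S.x r t
  add : ∀ t u, y (t + u) = y t * y u
  equiv : ∀ (G : L) (ψ : ℕ → Fˣ), S.Acts (p G) ψ → ∀ t, G * y t * G⁻¹ = y ((ψ r : F) * t)

omit hc in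
/-- A pair of roots for which the deviations from the commutator relation vanish. -/
def Rigid2 (S : Sys D F E) (p : L →* E) (y : ℕ → F → L) (r s : ℕ) : Prop :=
  (∃ g χ, S.Acts g χ ∧ χ s = 1 ∧ χ r ≠ 1) ∨ (∃ g χ, S.Acts g χ ∧ χ r = 1 ∧ χ s ≠ 1) ∨
    (D.commTerms r s = [] ∧ ∀ t u, y r t * y s u = y s u * y r t) ∨
    ∀ t u, y r t * y s u * (y r t)⁻¹ = y s u * ((D.commWord F r s (-t) u).map fun τ => y τ.1 τ.2).prod

include hp in
theorem lifting_of_pairs (y : ℕ → F → L) (hy : ∀ r, RootLift S p r (y r))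
    (hpair : ∀ r < D.nroots, ∀ s < D.nroots, s ≠ r → s ≠ D.neg r → Rigid2 S p y r s) :
    Nonempty (Lifting S p) := by
  refine ⟨⟨y, fun r => (hy r).p_y, hc, fun r => (hy r).add,
    fun r hr s hs h₁ h₂ ε _ hadd hinv hadd' hform t u => ?_⟩⟩
  rcases hpair r hr s hs h₁ h₂ with ⟨g, ψ, hg, c1, c2⟩ | ⟨g, ψ, hg, c1, c2⟩ | ⟨hnil, hcm⟩ | hW
  · obtain ⟨G, rfl⟩ := hp g
    have hne' : ((ψ r : F) - 1) ≠ 0 := sub_ne_zero.2 fun e => c2 (Units.ext e)
    have h := hinv G ψ (fun q v => (hy q).equiv G ψ hg v) (t / ((ψ r : F) - 1)) u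
    rw [c1, Units.val_one, one_mul,
      show (ψ r : F) * (t / ((ψ r : F) - 1)) = t + t / ((ψ r : F) - 1) by field_simp; ring, hadd] at h
    exact mul_eq_right.1 h
  · obtain ⟨G, rfl⟩ := hp g
    have hne' : ((ψ s : F) - 1) ≠ 0 := sub_ne_zero.2 fun e => c2 (Units.ext e)
    have h := hinv G ψ (fun q v => (hy q).equiv G ψ hg v) t (u / ((ψ s : F) - 1))
    rw [c1, Units.val_one, one_mul,
      show (ψ s : F) * (u / ((ψ s : F) - 1)) = u + u / ((ψ s : F) - 1) by field_simp; ring, hadd'] at h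
    exact mul_eq_right.1 h
  · have h := hform t u
    simp only [ChevalleyDatum.commWord, hnil, List.map_nil, List.prod_nil, mul_one, hcm t u,
      mul_inv_cancel_right] at h
    exact (left_eq_mul.1 h)
  · exact left_eq_mul.1 ((hW t u).symm.trans (hform t u))

include hgen hp in
theorem exists_root_lift (r : ℕ) (hmove : r < D.nroots → ∃ g χ, S.Acts g χ ∧ χ r ≠ 1) (hca : CommAll S p r) :
    ∃ y : F → L, RootLift S p r y := by
  by_cases h : r < D.nroots
  swap
  · exact ⟨fun _ => 1, fun t => by rw [map_one, S.x_out r t (not_lt.1 h)], fun _ _ => (one_mul 1).symm,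
      fun G ψ _ t => by group⟩
  obtain ⟨g, χ, hg, hχ⟩ := hmove h
  have hne : ((χ r : F) - 1) ≠ 0 := sub_ne_zero.2 fun e => hχ (Units.ext e)
  set H : L := Function.surjInv hp g
  let Y : F → L := fun t => Function.surjInv hp (S.x r (t / ((χ r : F) - 1)))
  let y : F → L := fun t => H * Y t * H⁻¹ * (Y t)⁻¹
  have py : ∀ t, p (y t) = S.x r t := by
    intro t
    simp only [y, H, Y]
    rw [map_mul, map_mul, map_mul, map_inv, map_inv, Function.surjInv_eq hp, Function.surjInv_eq hp,
      hg r, ← S.x_neg, ← S.add]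
    congr 1
    field_simp
    ring
  refine ⟨y, py, fun t u => ?_, fun G ψ hG t => ?_⟩
  · have e : p (Y (t + u)) = p (Y t * Y u) := by
      simp only [Y]
      rw [map_mul, Function.surjInv_eq hp, Function.surjInv_eq hp, Function.surjInv_eq hp, ← S.add, add_div]
    show H * Y (t + u) * H⁻¹ * (Y (t + u))⁻¹ = _
    rw [comm_congr hc rfl e]
    have hcm : y u * Y t = Y t * y u := hca _ _ _ _ (py u) (Function.surjInv_eq hp _)
    calc H * (Y t * Y u) * H⁻¹ * (Y t * Y u)⁻¹ = y t * (Y t * y u) * (Y t)⁻¹ := by simp only [y]; group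
      _ = _ := by rw [← hcm]; group
  · set T := (ψ r : F) * t
    have e1 : p (G * Y t * G⁻¹) = p (Y T) := by
      simp only [Y]
      rw [map_mul, map_mul, map_inv, Function.surjInv_eq hp, Function.surjInv_eq hp, hG]
      congr 1
      simp only [T]; ring
    set z := G * H * G⁻¹ * H⁻¹ with hz
    have hzc : p z ∈ Subgroup.center E := by
      rw [hz, map_mul, map_mul, map_mul, map_inv, map_inv, Function.surjInv_eq hp]
      refine S.acts_unique hgen (χ := χ) (fun s u => ?_) hg
      have hGi : (p G)⁻¹ * S.x s u * p G = S.x s (((ψ s)⁻¹ : Fˣ) * u) := by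
        have := hG s (((ψ s)⁻¹ : Fˣ) * u)
        rw [← mul_assoc ((ψ s : F)), ← Units.val_mul, mul_inv_cancel, Units.val_one, one_mul] at this
        rw [← this]; group
      rw [show p G * g * (p G)⁻¹ * S.x s u * (p G * g * (p G)⁻¹)⁻¹ =
        p G * (g * ((p G)⁻¹ * S.x s u * p G) * g⁻¹) * (p G)⁻¹ by group, hGi, hg s, hG]
      congr 1
      rw [mul_left_comm, ← mul_assoc (ψ s : F), ← Units.val_mul, mul_inv_cancel, Units.val_one, one_mul]
    have zy : ∀ u, z * y u = y u * z := fun u => commute_preimage hc hzc rfl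
    have zY : z * Y T = Y T * z := by
      refine commute_preimage hc hzc (a := H) (b := Y (T / ((χ r : F) - 1))) ?_
      exact (Function.surjInv_eq hp _).trans (py _).symm
    show G * (H * Y t * H⁻¹ * (Y t)⁻¹) * G⁻¹ = y T
    rw [show G * (H * Y t * H⁻¹ * (Y t)⁻¹) * G⁻¹ =
      (G * H * G⁻¹) * (G * Y t * G⁻¹) * (G * H * G⁻¹)⁻¹ * (G * Y t * G⁻¹)⁻¹ by group,
      show G * H * G⁻¹ = z * H by rw [hz]; group, comm_congr hc rfl e1]
    calc z * H * Y T * (z * H)⁻¹ * (Y T)⁻¹ = z * y T * (Y T * z⁻¹) * (Y T)⁻¹ := by simp only [y]; group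
      _ = y T * (z * Y T) * z⁻¹ * (Y T)⁻¹ := by rw [zy]; group
      _ = _ := by rw [zY]; group

include hD hR hX hgen hp hP hU hK in
theorem exists_lifting : Nonempty (Lifting S p) := by
  classical
  choose y hy using fun r => S.exists_root_lift hgen hp hc r (fun h => S.exists_move hD hR hX hP hK h)
    (S.commAll hD hR hX hp hc hP hU hK r)
  exact S.lifting_of_pairs hp hc y hy fun r hr s hs h₁ h₂ => Or.inl (S.exists_fix_move hD hR hX hP hK hr s hs h₁ h₂)

end Sys

variable {D : ChevalleyDatum} {F : Type*} [Field F] (hD : Good D) {M : List (List ℤ)} {d : ℤ} (hR : Roots D M d)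
  (hX : ∀ i < D.rank, Decomp D (D.simple i) ∧ Decomp D (D.neg (D.simple i)))
  (hP : PairOK D) (hU : ∀ i < D.rank, (∃ j < D.rank, D.cartan j (D.simple i) = -1) ∨ Central1 D (D.simple i))
  (hK : ∃ t : Finset F, 4 < t.card)

omit hK in
/-- A homomorphism from the covering group given by elements satisfying the relations. -/
theorem exists_coverHom {L : Type*} [Group L] (y : ℕ → F → L) (hout : ∀ r t, D.nroots ≤ r → y r t = 1)
    (hadd : ∀ r t u, y r (t + u) = y r t * y r u)
    (hcomm : ∀ r s, r < D.nroots → s < D.nroots → s ≠ r → s ≠ D.neg r → ∀ t u : F,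
      y s u * y r t = y r t * y s u * ((D.commWord F r s t u).map fun τ => y τ.1 τ.2).prod) :
    ∃ f : D.SteinbergCover F →* L, ∀ r t, f (D.scGen F r t) = y r t := by
  let gen : Fin D.nroots × F → L := fun z => y z.1.val z.2
  have hX' : ∀ r t, FreeGroup.lift gen (D.stX r t) = y r t := fun r t => by
    unfold ChevalleyDatum.stX
    split
    · rw [FreeGroup.lift_apply_of]
    · rw [map_one, hout r t (not_lt.1 ‹_›)]
  have hW : ∀ w : List (ℕ × F), FreeGroup.lift gen (D.stWord w) = (w.map fun z => y z.1 z.2).prod := fun w => by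
    rw [ChevalleyDatum.stWord, map_list_prod, List.map_map]
    exact congrArg List.prod (List.map_congr_left fun z _ => hX' _ _)
  have hrel : ∀ g ∈ D.steinbergRelsAB F, FreeGroup.lift gen g = 1 := by
    rintro g (⟨r, t, u, -, rfl⟩ | ⟨r, s, t, u, hr, hs, h₁, h₂, rfl⟩)
    · simp only [map_mul, map_inv, hX', hadd, mul_inv_cancel]
    · simp only [map_mul, map_inv, hX', hW]
      rw [mul_assoc ((y s u)⁻¹ * (y r t)⁻¹), hcomm r s hr hs h₁ h₂ t u]
      group
  exact ⟨PresentedGroup.toGroup hrel, fun r t => hX' r t⟩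

include hD hR in
/-- A section from lifts of the root elements of the covering group. -/
theorem section_of_lifting {L : Type*} [Group L] {p : L →* D.SteinbergCover F}
    (hθ : ∀ (r : ℕ) (t : F), r < D.nroots →
      ((covHom F hD (D.scGen F r t) : GL D.Idx F) : Matrix D.Idx D.Idx F) = D.x F r t)
    (Y : Lifting (presSys F (D.steinbergRelsAB F) subset_rfl (covHom F hD) hθ) p) :
    ∃ s : D.SteinbergCover F →* L, p.comp s = MonoidHom.id _ := by
  obtain ⟨f, hf⟩ := exists_coverHom (D := D) (fun r t => if r < D.nroots then Y.y r t else 1)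
    (fun r t h => if_neg (not_lt.2 h)) (fun r t u => by split <;> simp [Y.y_add]) (fun r s hr hs h₁ h₂ t u => by
      simp only [hr, hs, if_true, Y.rel hD hR hr hs h₁ h₂ t u]
      congr 2
      refine List.map_congr_left fun z hz => ?_
      simp only [ChevalleyDatum.commWord, List.mem_map] at hz
      obtain ⟨τ, hτ, rfl⟩ := hz
      rw [if_pos ((isLin_ht hD M).commTerms hD hr hs h₁ h₂ hτ).1])
  refine ⟨f, PresentedGroup.ext fun z => ?_⟩
  have h1 : (PresentedGroup.of z : D.SteinbergCover F) = D.scGen F z.1.val z.2 := by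
    rw [ChevalleyDatum.scGen, ChevalleyDatum.stX, dif_pos z.1.isLt]; rfl
  rw [MonoidHom.comp_apply, MonoidHom.id_apply, h1, hf, if_pos z.1.isLt, Y.p_y]
  rfl

include hD hR hX hP hU hK

/-- Every central extension of the covering group splits. -/
theorem cover_section {L : Type*} [Group L] (p : L →* D.SteinbergCover F) (hp : Function.Surjective p)
    (hc : p.ker ≤ Subgroup.center L) :
    ∃ s : D.SteinbergCover F →* L, p.comp s = MonoidHom.id _ := by
  have hθ : ∀ (r : ℕ) (t : F), r < D.nroots →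
      ((covHom F hD (D.scGen F r t) : GL D.Idx F) : Matrix D.Idx D.Idx F) = D.x F r t :=
    fun r t _ => by rw [covHom_gen, coe_xg]
  set S := presSys F (D.steinbergRelsAB F) subset_rfl (covHom F hD) hθ
  have hgen := presSys_gen F (D.steinbergRelsAB F) subset_rfl (covHom F hD) hθ
  obtain ⟨Y⟩ := S.exists_lifting hD hR hX hgen hp hc hP hU hK
  exact section_of_lifting hD hR hθ Y

omit hU in
/-- Homomorphisms of the covering group into a central extension are determined by their projection. -/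
theorem cover_hom_ext {G E : Type*} [Group G] [Group E] (π : E →* G) (hπ : π.ker ≤ Subgroup.center E)
    (f f' : D.SteinbergCover F →* E) (h : π.comp f = π.comp f') : f = f' := by
  have hθ : ∀ (r : ℕ) (t : F), r < D.nroots →
      ((covHom F hD (D.scGen F r t) : GL D.Idx F) : Matrix D.Idx D.Idx F) = D.x F r t :=
    fun r t _ => by rw [covHom_gen, coe_xg]
  set S := presSys F (D.steinbergRelsAB F) subset_rfl (covHom F hD) hθ
  refine MonoidHom.eq_of_eqOn_dense (presSys_gen F (D.steinbergRelsAB F) subset_rfl (covHom F hD) hθ) ?_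
  rintro _ ⟨r, t, rfl⟩
  by_cases hr : r < D.nroots
  swap
  · show f (S.x r t) = f' (S.x r t)
    rw [S.x_out r t (not_lt.1 hr), map_one, map_one]
  obtain ⟨g, χ, hg, hne⟩ := S.exists_move hD hR hX hP hK hr
  have hne' : ((χ r : F) - 1) ≠ 0 := sub_ne_zero.2 fun e => hne (Units.ext e)
  have hx : S.x r t = g * S.x r (t / ((χ r : F) - 1)) * g⁻¹ * (S.x r (t / ((χ r : F) - 1)))⁻¹ := by
    rw [hg, ← S.x_neg, ← S.add]
    congr 1
    field_simp
    ring
  show f (S.x r t) = f' (S.x r t)
  rw [hx, map_mul, map_mul, map_mul, map_inv, map_inv, map_mul, map_mul, map_mul, map_inv, map_inv]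
  exact comm_congr hπ (DFunLike.congr_fun h _) (DFunLike.congr_fun h _)

/-- Universality of the covering group. -/
theorem cover_lift_unique {G E : Type*} [Group G] [Group E] (π : E →* G) (hsur : Function.Surjective π)
    (hπ : π.ker ≤ Subgroup.center E) (σ : D.SteinbergCover F →* G) :
    ∃! τ : D.SteinbergCover F →* E, π.comp τ = σ := by
  let L : Subgroup (D.SteinbergCover F × E) :=
    { carrier := {z | σ z.1 = π z.2}
      one_mem' := by simp
      mul_mem' := fun {a b} ha hb => by simp only [Set.mem_setOf_eq] at ha hb ⊢; simp [ha, hb]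
      inv_mem' := fun {a} ha => by simp only [Set.mem_setOf_eq] at ha ⊢; simp [ha] }
  let p : L →* D.SteinbergCover F := (MonoidHom.fst _ _).comp L.subtype
  have hp : Function.Surjective p := fun a => by
    obtain ⟨e, he⟩ := hsur (σ a)
    exact ⟨⟨(a, e), he.symm⟩, rfl⟩
  have hc : p.ker ≤ Subgroup.center L := by
    rintro ⟨⟨a, e⟩, hae⟩ hk
    have ha : a = 1 := hk
    subst ha
    have he : e ∈ π.ker := by rw [MonoidHom.mem_ker, ← (hae : σ 1 = π e), map_one]
    rw [Subgroup.mem_center_iff]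
    rintro ⟨⟨b, f⟩, hbf⟩
    exact Subtype.ext (Prod.ext (by simp) (Subgroup.mem_center_iff.1 (hπ he) f))
  obtain ⟨s, hs⟩ := cover_section hD hR hX hP hU hK p hp hc
  have h : π.comp (((MonoidHom.snd _ _).comp L.subtype).comp s) = σ := by
    refine MonoidHom.ext fun a => ?_
    exact ((s a).2 : σ _ = π _).symm.trans (congrArg σ (DFunLike.congr_fun hs a))
  exact ⟨_, h, fun τ hτ => cover_hom_ext hD hR hX hP hK π hπ τ _ (hτ.trans h.symm)⟩

end Cfsg.Agent.ChevSt
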