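/-
Steinberg presentations, part 9: E6 and E7 inside E8 on root indices, with identical structure constants.

* `SubDatum D E ι`: ι maps roots to roots, compatibly with neg, fundamental roots and commutator terms.
* `subE6`, `subE7`.
-/
import Cfsg.Agent.Lib.ChevBN.RootTables

set_option autoImplicit false
set_option maxRecDepth 100000
set_option synthInstance.maxSize 4000

namespace Cfsg.Agent.ChevSt

open Cfsg.Lie Cfsg.Lie.ChevalleyDatum

/-- A map of root indices respecting the structure constants. -/
structure SubDatum (D E : ChevalleyDatum) (ι : ℕ → ℕ) : Prop where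
  rank_le : D.rank ≤ E.rank
  lt : ∀ r < D.nroots, ι r < E.nroots
  neg : ∀ r < D.nroots, ι (D.neg r) = E.neg (ι r)
  simple : ∀ i < D.rank, ι (D.simple i) = E.simple i
  inj : ∀ r < D.nroots, ∀ s < D.nroots, ι r = ι s → r = s
  terms : ∀ r < D.nroots, ∀ s < D.nroots, s ≠ r → s ≠ D.neg r →
    (D.commTerms r s).map (fun τ => (ι τ.1, τ.2)) = E.commTerms (ι r) (ι s)

/-- The chain rows agree under ι, every entry having a single term. -/
def rowsB (D E : ChevalleyDatum) (ι : ℕ → ℕ) (mem : ℕ → Bool) : Bool :=
  (List.range D.nroots).all fun r =>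
    let row := (D.chain.getD r #[]).toList
    row.all (fun e => decide (e.1 < D.nroots) && (e.2.size == 1) && e.2.toList.all fun z => decide (z.1 < D.nroots)) &&
      (((E.chain.getD (ι r) #[]).toList.filter fun e => mem e.1).map (fun e => (e.1, e.2.toList)) ==
        row.map fun e => (ι e.1, e.2.toList.map fun z => (ι z.1, z.2)))

theorem find_entry {β γ : Type*} {ι : ℕ → ℕ} {mem : ℕ → Bool} {s : ℕ} (g : β → γ) (LD : List (ℕ × β))
    (LE : List (ℕ × γ)) (hmem : mem (ι s) = true) (hinj : ∀ e ∈ LD, ι e.1 = ι s → e.1 = s)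
    (h : LE.filter (fun e => mem e.1) = LD.map fun e => (ι e.1, g e.2)) :
    (LE.find? fun e => e.1 = ι s).map Prod.snd = (LD.find? fun e => e.1 = s).map fun e => g e.2 := by
  have h1 : ∀ L : List (ℕ × γ), (L.filter fun e => mem e.1).find? (fun e => e.1 = ι s) =
      L.find? fun e => e.1 = ι s := by
    intro L
    induction L with
    | nil => rfl
    | cons e L ih =>
      by_cases he : e.1 = ι s
      · simp [hmem, he]
      · by_cases hm : mem e.1 = true <;> simp [hm, he, ← ih]
  have h2 : ∀ L : List (ℕ × β), (∀ e ∈ L, ι e.1 = ι s → e.1 = s) →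
      ((L.map fun e => (ι e.1, g e.2)).find? fun e => e.1 = ι s).map Prod.snd =
        (L.find? fun e => e.1 = s).map fun e => g e.2 := by
    intro L
    induction L with
    | nil => intro _; rfl
    | cons e L ih =>
      intro hi
      by_cases he : e.1 = s
      · rw [List.map_cons, List.find?_cons_of_pos (by simp [he]), List.find?_cons_of_pos (by simp [he])]
        rfl
      · have he' : ι e.1 ≠ ι s := fun hh => he (hi e (by simp) hh)
        rw [List.map_cons, List.find?_cons_of_neg (by simpa using he'), List.find?_cons_of_neg (by simpa using he)]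
        exact ih fun x hx => hi x (List.mem_cons_of_mem _ hx)
  rw [← h1, h]
  exact h2 LD hinj

theorem terms_of_rowsB {D E : ChevalleyDatum} {ι : ℕ → ℕ} {mem : ℕ → Bool}
    (hinj : ∀ r < D.nroots, ∀ s < D.nroots, ι r = ι s → r = s) (himg : ∀ r < D.nroots, mem (ι r) = true)
    (h : rowsB D E ι mem = true) {r s : ℕ} (hr : r < D.nroots) (hs : s < D.nroots) :
    (D.commTerms r s).map (fun τ => (ι τ.1, τ.2)) = E.commTerms (ι r) (ι s) := by
  simp only [rowsB, List.all_eq_true, List.mem_range, Bool.and_eq_true, decide_eq_true_eq, beq_iff_eq] at h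
  have key : ∀ r < D.nroots, ∀ s < D.nroots, (D.chainEntry r s = [] ∧ E.chainEntry (ι r) (ι s) = []) ∨
      ∃ k M, D.chainEntry r s = [(k, M)] ∧ E.chainEntry (ι r) (ι s) = [(ι k, M)] := by
    intro r hr s hs
    obtain ⟨hrow, hE⟩ := h r hr
    have e0 : (((E.chain.getD (ι r) #[]).toList.map fun e => (e.1, e.2.toList)).filter fun e => mem e.1) =
        (D.chain.getD r #[]).toList.map fun e => (ι e.1, e.2.toList.map fun z => (ι z.1, z.2)) := by
      rw [← hE, List.filter_map]; rfl
    have e1 := find_entry (fun l : Array (ℕ × ℤ) => l.toList.map fun z => (ι z.1, z.2)) _ _ (himg s hs)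
      (fun e he hh => hinj e.1 (hrow e he).1.1 s hs hh) e0
    rw [List.find?_map, Option.map_map] at e1
    simp only [ChevalleyDatum.chainEntry]
    change Option.map _ ((E.chain.getD (ι r) #[]).toList.find? fun e => e.1 = ι s) = _ at e1
    cases hf : (D.chain.getD r #[]).toList.find? (fun e => e.1 = s) with
    | none =>
      rw [hf, Option.map_none, Option.map_eq_none_iff] at e1
      rw [e1]
      exact Or.inl ⟨rfl, rfl⟩
    | some e =>
      obtain ⟨⟨-, hsize⟩, -⟩ := hrow e (List.mem_of_find?_eq_some hf)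
      obtain ⟨⟨k, M⟩, hkM⟩ := List.length_eq_one_iff.1 (by rw [Array.length_toList, hsize] : e.2.toList.length = 1)
      rw [hf, Option.map_some, Option.map_eq_some_iff] at e1
      obtain ⟨e', he', he2⟩ := e1
      rw [he']
      simp only [Function.comp_apply] at he2
      exact Or.inr ⟨k, M, hkM, he2.trans (by rw [hkM]; rfl)⟩
  rcases key r hr s hs with ⟨a₁, b₁⟩ | ⟨k, M, a₁, b₁⟩ <;> rcases key s hs r hr with ⟨a₂, b₂⟩ | ⟨k', M', a₂, b₂⟩ <;>
    simp [ChevalleyDatum.commTerms, ChevalleyDatum.chainRoot, ChevalleyDatum.chainM, a₁, b₁, a₂, b₂]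

/-- The root of E8 of a root of E6. -/
def embE6 (r : ℕ) : ℕ := (0xccc2bcb9b8b2afaeabaaa9a6a5a4a3a29c9998959493908f8e8d8a8988878483827f7e7b7471706d6c6b686766656261605f5c5b5a5756534d4c4b4a4946454441403d3736332d23 >>> (8 * r)) % 256

/-- The image of `embE6`. -/
def imgE6 (k : ℕ) : Bool := Nat.testBit 0x10041304ce7c1339e79cc81339e79cc83e7320c8200800000000 k

theorem rowsE6 : rowsB chevE6 chevE8 embE6 imgE6 = true := by decide +kernel

theorem memE6 : ∀ r < chevE6.nroots, imgE6 (embE6 r) = true := by decide +kernel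

theorem injE6 : ∀ r < chevE6.nroots, ∀ s < chevE6.nroots, embE6 r = embE6 s → r = s := by
  intro r hr s hs h
  have hn : ((List.range chevE6.nroots).map embE6).Nodup := by decide +kernel
  exact List.inj_on_of_nodup_map hn (List.mem_range.2 hr) (List.mem_range.2 hs) h

theorem subE6 : SubDatum chevE6 chevE8 embE6 where
  rank_le := by decide +kernel
  lt := by decide +kernel
  neg := by decide +kernel
  simple := by decide +kernel
  inj := injE6
  terms r hr s hs _ _ := terms_of_rowsB injE6 memE6 rowsE6 hr hs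

/-- The root of E8 of a root of E7. -/
def embE7 (r : ℕ) : ℕ := (0xe2dbd6d2cfcdccc8c5c3c2bfbdbcbab9b8b5b3b2b0afaeacabaaa9a7a6a5a4a3a29f9d9c9a99989695949391908f8e8d8b8a89888785848382807f7e7c7b7976747371706f6d6c6b6a68676665646261605f5e5c5b5a595756555352504d4c4b4a49484645444341403f3d3c3a3736353332302d2c2a272322201d19140d >>> (8 * r)) % 256

/-- The image of `embE7`. -/
def imgE7 (k : ℕ) : Bool := Nat.testBit 0x40844b12cb72ddefcb77befbdda5bbdf7deed3f7bb4ed348d22102000 k

theorem rowsE7 : rowsB chevE7 chevE8 embE7 imgE7 = true := by decide +kernel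

theorem memE7 : ∀ r < chevE7.nroots, imgE7 (embE7 r) = true := by decide +kernel

theorem injE7 : ∀ r < chevE7.nroots, ∀ s < chevE7.nroots, embE7 r = embE7 s → r = s := by
  intro r hr s hs h
  have hn : ((List.range chevE7.nroots).map embE7).Nodup := by decide +kernel
  exact List.inj_on_of_nodup_map hn (List.mem_range.2 hr) (List.mem_range.2 hs) h

theorem subE7 : SubDatum chevE7 chevE8 embE7 where
  rank_le := by decide +kernel
  lt := by decide +kernel
  neg := by decide +kernel
  simple := by decide +kernel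
  inj := injE7
  terms r hr s hs _ _ := terms_of_rowsB injE7 memE7 rowsE7 hr hs

end Cfsg.Agent.ChevSt
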