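/-
Steinberg presentations, part 8: the torus of a covering group as an image of (Fˣ)^rank.

* `Sys.h_comm`: the h̄_i(t) commute under (R3); `Sys.torusHom`, `Sys.torusHom_range`.
* `chi`: the characters of (Fˣ)^rank at the roots; `Sys.th_torusHom`; `Sys.card_ker`.
* `pow_eq_one_of_chi`: elements killed by all characters are d-torsion.
-/
import Cfsg.Agent.Lib.ChevSt.Data

set_option autoImplicit false

namespace Cfsg.Agent.ChevSt

open Cfsg.Lie Cfsg.Lie.ChevalleyDatum Cfsg.Agent.Chev Cfsg.Agent.ChevBN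

variable (D : ChevalleyDatum) (F : Type*) [Field F]

/-- The character at the root s of a tuple: ∏ tᵢ ^ ⟨αᵢ, s⟩. -/
def chi : (Fin D.rank → Fˣ) →* (Fin D.nroots → Fˣ) where
  toFun t s := ∏ i, t i ^ D.pairing (D.simple i.val) s.val
  map_one' := by ext s; simp
  map_mul' a b := by ext s; simp [mul_zpow, Finset.prod_mul_distrib]

/-- The diagonal element of a family of scalars on the roots. -/
def dgU : (Fin D.nroots → Fˣ) →* GL D.Idx F :=
  MonoidHom.toHomUnits
    { toFun := fun χ => Matrix.diagonal (Sum.elim (fun _ => (1 : F)) fun s => (χ s : F))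
      map_one' := by rw [← Matrix.diagonal_one]; congr 1; ext a; rcases a with i | s <;> rfl
      map_mul' := fun a b => by
        rw [Matrix.diagonal_mul_diagonal]; congr 1; ext c; rcases c with i | s <;> simp }

theorem dgU_inj : Function.Injective (dgU D F) := fun a b h => by
  ext s
  have := congrFun (congrFun (congrArg (fun g : GL D.Idx F => (g : Matrix D.Idx D.Idx F)) h) (Sum.inr s)) (Sum.inr s)
  simpa [dgU] using this

variable {D F}

theorem prod_zpow_eq {ι G : Type*} [CommGroup G] (s : Finset ι) (g : G) (a : ι → ℤ) :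
    ∏ k ∈ s, g ^ a k = g ^ ∑ k ∈ s, a k := by
  classical
  induction s using Finset.induction_on with
  | empty => simp
  | insert k s hk ih => rw [Finset.prod_insert hk, Finset.sum_insert hk, ih, zpow_add]

theorem pi_hom_ext {ι : Type*} [Fintype ι] [DecidableEq ι] {N M : Type*} [Monoid N] [Monoid M] {f g : (ι → N) →* M}
    (h : ∀ i y, f (Pi.mulSingle i y) = g (Pi.mulSingle i y)) : f = g :=
  (MonoidHom.noncommPiCoprodEquiv (N := fun _ : ι => N)).symm.injective
    (Subtype.ext (funext fun i => MonoidHom.ext fun y => h i y))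

variable (hD : Good D) {M : List (List ℤ)} {d : ℤ} (hR : Roots D M d)

omit [Field F] in
theorem chi_mulSingle [Field F] (i : Fin D.rank) (y : Fˣ) (s : Fin D.nroots) :
    chi D F (Pi.mulSingle i y) s = y ^ D.pairing (D.simple i.val) s.val := by
  show ∏ j, (Pi.mulSingle i y : Fin D.rank → Fˣ) j ^ _ = _
  rw [Fintype.prod_eq_single i fun j hj => by rw [Pi.mulSingle_eq_of_ne hj, one_zpow], Pi.mulSingle_eq_same]

include hD hR in
/-- The characters are determined at the fundamental roots. -/
theorem chi_eq_one_of_simple {t : Fin D.rank → Fˣ}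
    (h : ∀ (k : ℕ) (hk : k < D.rank), chi D F t ⟨D.simple k, hD.simple_lt k hk⟩ = 1) : chi D F t = 1 := by
  have hpos : ∀ q, (hq : q < D.nroots) → D.IsPosRoot q → chi D F t ⟨q, hq⟩ = 1 := by
    intro q hq hp
    have := hR.pos_induction hD (P := fun q => ∀ hq : q < D.nroots, chi D F t ⟨q, hq⟩ = 1)
      (fun k hk _ => h k hk) (fun k hk p hp' e _ => ?_) hq hp
    · exact this hq
    show ∏ i, t i ^ D.pairing (D.simple i.val) (wN D k p) = 1
    have hlin : ∀ i : Fin D.rank, D.pairing (D.simple i.val) (wN D k p) = D.pairing (D.simple i.val) p -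
        D.pairing (D.simple k) p * D.pairing (D.simple i.val) (D.simple k) := fun i =>
      (isLin_pairing hD (D.simple i.val)).refl hD (hD.simple_lt k hk) hp'
    have e1 : ∏ i, t i ^ D.pairing (D.simple i.val) p = 1 := e hp'
    have e2 : ∏ i, t i ^ D.pairing (D.simple i.val) (D.simple k) = 1 := h k hk
    simp only [hlin, zpow_sub, mul_comm (D.pairing (D.simple k) p), zpow_mul, Finset.prod_mul_distrib,
      Finset.prod_inv_distrib, Finset.prod_zpow, e1, e2, one_zpow, inv_one, mul_one]
  funext ⟨q, hq⟩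
  by_cases hp : D.IsPosRoot q
  · exact hpos q hq hp
  · have e := hpos _ (hD.neg_lt q hq) ((pos_or_neg hD hq).2 hp)
    show ∏ i, t i ^ D.pairing (D.simple i.val) q = 1
    have e' : ∏ i, t i ^ D.pairing (D.simple i.val) (D.neg q) = 1 := e
    simp only [hD.pairing_neg_right _ hq, _root_.zpow_neg, Finset.prod_inv_distrib, inv_eq_one] at e'
    exact e'

include hD hR in
theorem pow_eq_one_of_chi {t : Fin D.rank → Fˣ} (h : chi D F t = 1) (j : Fin D.rank) : t j ^ d = 1 := by
  have hk : ∀ k : Fin D.rank, ∏ i, t i ^ D.pairing (D.simple i.val) (D.simple k.val) = 1 := fun k =>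
    congrFun h ⟨D.simple k.val, hD.simple_lt k.val k.isLt⟩
  have h1 : ∏ k : Fin D.rank, (∏ i, t i ^ D.pairing (D.simple i.val) (D.simple k.val)) ^ entry M k.val j.val = 1 := by
    simp [hk]
  simp only [← Finset.prod_zpow, ← zpow_mul] at h1
  rw [Finset.prod_comm] at h1
  have hsum : ∀ i : Fin D.rank, ∏ k : Fin D.rank,
      t i ^ (D.pairing (D.simple i.val) (D.simple k.val) * entry M k.val j.val) =
        t i ^ (if i = j then d else 0) := by
    intro i
    rw [prod_zpow_eq]
    congr 1
    have := hR.mul i.val i.isLt j.val j.isLt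
    rw [← List.sum_toFinset _ List.nodup_range, List.toFinset_range, Finset.sum_range] at this
    simp only [pairing_simple hD i.isLt, this, Fin.ext_iff]
  rw [Finset.prod_congr rfl fun i _ => hsum i, Fintype.prod_eq_single j fun i hi => by rw [if_neg hi, zpow_zero],
    if_pos rfl] at h1
  exact h1

namespace Sys

variable {E : Type*} [Group E] (S : Sys D F E)
  (hX : ∀ i < D.rank, Decomp D (D.simple i) ∧ Decomp D (D.neg (D.simple i)))
  (hmul : ∀ i < D.rank, ∀ a b : F, a ≠ 0 → b ≠ 0 → S.h (D.simple i) a * S.h (D.simple i) b = S.h (D.simple i) (a * b))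

/-- t ↦ h̄_i(t). -/
def hHom (i : Fin D.rank) : Fˣ →* E :=
  MonoidHom.mk' (fun t => S.h (D.simple i.val) (t : F)) fun a b => by
    show S.h (D.simple i.val) ((a * b : Fˣ) : F) = _
    rw [Units.val_mul, hmul i.val i.isLt a b a.ne_zero b.ne_zero]

include hD hR hX hmul

theorem h_comm {i j : ℕ} (hi : i < D.rank) (hj : j < D.rank) {t u : F} (ht0 : t ≠ 0) (hu : u ≠ 0) :
    Commute (S.h (D.simple i) t) (S.h (D.simple j) u) := by
  set c : F := t ^ D.pairing (D.simple i) (D.simple j) with hc
  have hc0 : c ≠ 0 := zpow_ne_zero _ ht0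
  have hj' := hD.simple_lt j hj
  have e1 : ∀ v : F, S.h (D.simple i) t * S.n (D.simple j) v * (S.h (D.simple i) t)⁻¹ =
      S.n (D.simple j) (c * v) := by
    intro v
    rw [n, n, show ∀ g a b : E, g * (a * b * a) * g⁻¹ = (g * a * g⁻¹) * (g * b * g⁻¹) * (g * a * g⁻¹) from
      fun g a b => by group, S.h_conj hD hR hX hi ht0, S.h_conj hD hR hX hi ht0, hD.pairing_neg_right _ hj',
      hc, _root_.zpow_neg, mul_neg, _root_.mul_inv_rev, mul_comm v⁻¹]
  have hn : ∀ v : F, S.n (D.simple j) v = S.h (D.simple j) v * (S.n (D.simple j) (-1))⁻¹ := fun v => by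
    rw [h, mul_inv_cancel_right]
  have e2 : S.h (D.simple i) t * S.h (D.simple j) u * (S.h (D.simple i) t)⁻¹ = S.h (D.simple j) u := by
    conv_lhs => rw [show S.h (D.simple j) u = S.n (D.simple j) u * S.n (D.simple j) (-1) from rfl]
    rw [show S.h (D.simple i) t * (S.n (D.simple j) u * S.n (D.simple j) (-1)) * (S.h (D.simple i) t)⁻¹ =
      (S.h (D.simple i) t * S.n (D.simple j) u * (S.h (D.simple i) t)⁻¹) *
        (S.h (D.simple i) t * S.n (D.simple j) (-1) * (S.h (D.simple i) t)⁻¹) by group, e1, e1]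
    have : S.n (D.simple j) (c * -1) = (S.n (D.simple j) c)⁻¹ := by rw [n_inv, mul_neg_one]
    rw [this, hn, hn c, ← hmul j hj c u hc0 hu]
    have hcu : Commute (S.h (D.simple j) c) (S.h (D.simple j) u) := by
      show S.h (D.simple j) c * S.h (D.simple j) u = S.h (D.simple j) u * S.h (D.simple j) c
      rw [hmul j hj c u hc0 hu, hmul j hj u c hu hc0, mul_comm]
    rw [hcu.eq]
    group
  exact mul_inv_eq_iff_eq_mul.1 e2

theorem hHom_commute : Pairwise fun i j : Fin D.rank =>
    ∀ x y : Fˣ, Commute (S.hHom hmul i x) (S.hHom hmul j y) :=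
  fun i j _ x y => S.h_comm hD hR hX hmul i.isLt j.isLt x.ne_zero y.ne_zero

/-- The torus as an image of (Fˣ)^rank. -/
def torusHom : (Fin D.rank → Fˣ) →* E :=
  MonoidHom.noncommPiCoprod (S.hHom hmul) (S.hHom_commute hD hR hX hmul)

theorem torusHom_range : (S.torusHom hD hR hX hmul).range = S.Hbar := by
  rw [torusHom, MonoidHom.noncommPiCoprod_range]
  refine le_antisymm (iSup_le fun i => ?_) ((Subgroup.closure_le _).2 ?_)
  · rintro _ ⟨y, rfl⟩
    exact S.h_mem_Hbar i.isLt y.ne_zero
  · rintro g ⟨i, t, hi, ht0, rfl⟩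
    exact Subgroup.mem_iSup_of_mem ⟨i, hi⟩ ⟨Units.mk0 t ht0, rfl⟩

theorem th_torusHom : S.th.comp (S.torusHom hD hR hX hmul) = (dgU D F).comp (chi D F) := by
  refine pi_hom_ext fun i y => ?_
  rw [MonoidHom.comp_apply, MonoidHom.comp_apply, torusHom, MonoidHom.noncommPiCoprod_mulSingle]
  apply Units.ext
  show ((S.th (S.h (D.simple i.val) (y : F)) : GL D.Idx F) : Matrix D.Idx D.Idx F) = _
  rw [S.th_h hD, coe_hg, hMat_eq_diag hD (hD.simple_lt i.val i.isLt) y.ne_zero, dg]
  simp [dgU, chi_mulSingle]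

variable (hgen : Subgroup.closure {g | ∃ r t, g = S.x r t} = ⊤)
include hgen

theorem ker_eq_map : S.th.ker = (chi D F).ker.map (S.torusHom hD hR hX hmul) := by
  refine le_antisymm (fun k hk => ?_) ?_
  · have hk' := S.ker_le_H hD hR hX hgen hk
    rw [← S.torusHom_range hD hR hX hmul] at hk'
    obtain ⟨t, rfl⟩ := hk'
    refine ⟨t, dgU_inj D F ?_, rfl⟩
    rw [map_one, ← MonoidHom.comp_apply, ← S.th_torusHom hD hR hX hmul]
    exact hk
  · rintro _ ⟨t, ht, rfl⟩
    rw [MonoidHom.mem_ker, ← MonoidHom.comp_apply, S.th_torusHom hD hR hX hmul, MonoidHom.comp_apply,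
      MonoidHom.mem_ker.1 ht, map_one]

end Sys

end Cfsg.Agent.ChevSt
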