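/-
Steinberg presentations, part 10: triviality and order of the centre.

* `center_eq_bot_of_one`: trivial centre when d = 1.
* `SubDatum.map_stH`: the hom to the Chevalley group of an overdatum.
* `card_center`: |centre| = #ker chi when embedded in a datum with d = 1; `card_kerE6`, `card_kerE7`.
-/
import Cfsg.Agent.Lib.ChevSt.Centre
import Cfsg.Agent.Lib.ChevSt.Torus
import Cfsg.Agent.Lib.ChevSt.SubTables

set_option autoImplicit false

namespace Cfsg.Agent.ChevSt

open Cfsg.Lie Cfsg.Lie.ChevalleyDatum Cfsg.Agent.Chev Cfsg.Agent.ChevBN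

variable {D : ChevalleyDatum} {F : Type*} [Field F] (hD : Good D) {M : List (List ℤ)} {d : ℤ} (hR : Roots D M d)
  (hX : ∀ i < D.rank, Decomp D (D.simple i) ∧ Decomp D (D.neg (D.simple i)))

/-- The system of the presented group. -/
def stSys : Sys D F (D.SteinbergGroup F) :=
  presSys F (D.steinbergRels F) (fun _ h => Or.inl h) (stHom F hD) fun r t _ =>
    (congrArg Units.val (stHom_gen F hD r t)).trans (coe_xg hD r t)

theorem stSys_gen : Subgroup.closure {g | ∃ r t, g = (stSys (F := F) hD).x r t} = ⊤ := presSys_gen _ _ _ _ _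

theorem stSys_h (r : ℕ) (t : F) :
    (stSys (F := F) hD).h r t = PresentedGroup.mk (D.steinbergRels F) (D.stH r t) := presSys_h _ _ _ _ _ _ _

theorem stSys_mul : ∀ i < D.rank, ∀ a b : F, a ≠ 0 → b ≠ 0 →
    (stSys (F := F) hD).h (D.simple i) a * (stSys (F := F) hD).h (D.simple i) b =
      (stSys (F := F) hD).h (D.simple i) (a * b) := by
  intro i hi a b ha hb
  rw [stSys_h, stSys_h, stSys_h, ← map_mul]
  refine eq_of_mul_inv_eq_one ?_
  rw [← map_inv, ← map_mul]
  exact PresentedGroup.one_of_mem (Or.inr ⟨_, a, b, hD.simple_lt i hi, ha, hb, rfl⟩)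

include hR hX in
theorem center_eq : Subgroup.center (D.SteinbergGroup F) =
    (chi D F).ker.map ((stSys (F := F) hD).torusHom hD hR hX (stSys_mul hD)) := by
  rw [← (stSys (F := F) hD).ker_eq_map hD hR hX (stSys_mul hD) (stSys_gen hD)]
  refine le_antisymm (fun z hz => ?_) ((stSys hD).ker_le_center hD hR hX (stSys_gen hD))
  have hsur := group_le_range F (stHom F hD) (D.stGen F) fun r t _ => by rw [stHom_gen F hD]; rfl
  have h1 : stHom F hD z ∈ Subgroup.center (D.group F) := by
    rw [Subgroup.mem_center_iff]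
    intro g
    obtain ⟨a, rfl⟩ := hsur g
    rw [← map_mul, ← map_mul, Subgroup.mem_center_iff.1 hz a]
  rw [center_group_eq_bot hD hR, Subgroup.mem_bot] at h1
  exact congrArg Subtype.val h1

include hD in
theorem center_eq_bot_of_one (hR : Roots D M 1) (hX : ∀ i < D.rank, Decomp D (D.simple i) ∧ Decomp D (D.neg (D.simple i))) :
    Subgroup.center (D.SteinbergGroup F) = ⊥ := by
  rw [center_eq hD hR hX, eq_bot_iff]
  rintro _ ⟨t, ht, rfl⟩
  have : t = 1 := funext fun j => by simpa using pow_eq_one_of_chi hD hR (MonoidHom.mem_ker.1 ht) j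
  rw [this, map_one]
  exact one_mem _

section Sub

variable {E : ChevalleyDatum} (hE : Good E) {ι : ℕ → ℕ} (hS : SubDatum D E ι) (F)

/-- The assignment in the overdatum. -/
def subGen (p : Fin D.nroots × F) : GL E.Idx F := xg hE F (ι p.1.val) p.2

include hS

theorem lift_sub_stX {r : ℕ} (hr : r < D.nroots) (t : F) :
    FreeGroup.lift (subGen F hE (ι := ι)) (D.stX r t) = xg hE F (ι r) t := by
  simp only [ChevalleyDatum.stX, dif_pos hr, FreeGroup.lift_apply_of]
  rfl

theorem lift_sub_stWord (w : List (ℕ × F)) (hw : ∀ p ∈ w, p.1 < D.nroots) :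
    FreeGroup.lift (subGen F hE (ι := ι)) (D.stWord w) = (w.map fun p => xg hE F (ι p.1) p.2).prod := by
  rw [ChevalleyDatum.stWord, map_list_prod, List.map_map]
  congr 1
  exact List.map_congr_left fun p hp => lift_sub_stX F hE hS (hw p hp) p.2

include hD in
theorem lift_sub_stH {r : ℕ} (hr : r < D.nroots) (t : F) :
    FreeGroup.lift (subGen F hE (ι := ι)) (D.stH r t) = hg hE F (ι r) t := by
  have hn := hD.neg_lt r hr
  rw [ChevalleyDatum.stH, lift_sub_stWord F hE hS _ (fun p hp => by
    simp only [ChevalleyDatum.hWord, ChevalleyDatum.nWord, List.mem_append, List.mem_cons, List.not_mem_nil,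
      or_false] at hp
    rcases hp with (rfl | rfl | rfl) | (rfl | rfl | rfl) <;> assumption)]
  simp [ChevalleyDatum.hWord, ChevalleyDatum.nWord, hg, ng, hS.neg r hr, mul_assoc]

include hD in
theorem lift_sub_rel : ∀ g ∈ D.steinbergRels F, FreeGroup.lift (subGen F hE (ι := ι)) g = 1 := by
  rintro g ((⟨r, t, u, hr, rfl⟩ | ⟨r, s, t, u, hr, hs, h₁, h₂, rfl⟩) | ⟨r, t, u, hr, ht, hu, rfl⟩)
  · simp [lift_sub_stX F hE hS hr, xg_add hE (hS.lt r hr)]
  · have hw : ∀ p ∈ D.commWord F r s t u, p.1 < D.nroots := by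
      intro p hp
      simp only [ChevalleyDatum.commWord, List.mem_map] at hp
      obtain ⟨τ, hτ, rfl⟩ := hp
      exact ((isLin_pairing hD r).commTerms hD hr hs h₁ h₂ hτ).1
    simp only [map_mul, map_inv, lift_sub_stX F hE hS hr, lift_sub_stX F hE hS hs, lift_sub_stWord F hE hS _ hw]
    have e : (D.commWord F r s t u).map (fun p => xg hE F (ι p.1) p.2) =
        (E.commWord F (ι r) (ι s) t u).map fun p => xg hE F p.1 p.2 := by
      rw [ChevalleyDatum.commWord, ChevalleyDatum.commWord, ← hS.terms r hr s hs h₁ h₂]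
      simp [List.map_map, Function.comp_def]
    rw [e, mul_assoc ((xg hE F (ι s) u)⁻¹ * (xg hE F (ι r) t)⁻¹), xg_commutator F hE (hS.lt r hr) (hS.lt s hs)
      (fun e => h₁ (hS.inj s hs r hr e))
      (fun e => h₂ (hS.inj s hs _ (hD.neg_lt r hr) (by rw [e, hS.neg r hr]))) t u]
    group
  · simp only [map_mul, map_inv, lift_sub_stH F hD hE hS hr]
    rw [mul_inv_eq_one]
    have hr' := hS.lt r hr
    apply Units.ext
    rw [Units.val_mul, coe_hg, coe_hg, coe_hg, hMat_eq_diag hE hr' ht, hMat_eq_diag hE hr' hu,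
      hMat_eq_diag hE hr' (mul_ne_zero ht hu), dg, dg, dg, Matrix.diagonal_mul_diagonal]
    congr 1
    ext a
    rcases a with i | s
    · simp
    · simp [mul_zpow]

/-- The hom of the presented group to the Chevalley group of the overdatum. -/
def subHom : D.SteinbergGroup F →* GL E.Idx F := PresentedGroup.toGroup (lift_sub_rel F hD hE hS)

variable {F} in
include hD hE hR hX in
theorem torusHom_injective {N : List (List ℤ)} (hRE : Roots E N 1) :
    Function.Injective ((stSys (F := F) hD).torusHom hD hR hX (stSys_mul hD)) := by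
  classical
  set Φ := (stSys (F := F) hD).torusHom hD hR hX (stSys_mul hD) with hΦ
  let ext' : (Fin D.rank → Fˣ) →* (Fin E.rank → Fˣ) :=
    MonoidHom.mk' (fun t i => if h : i.val < D.rank then t ⟨i.val, h⟩ else 1) fun a b => by
      funext i
      by_cases h : i.val < D.rank <;> simp [h]
  have key : (subHom F hD hE hS).comp Φ = (dgU E F).comp ((chi E F).comp ext') := by
    refine pi_hom_ext fun i y => ?_
    rw [MonoidHom.comp_apply, MonoidHom.comp_apply, MonoidHom.comp_apply, hΦ, Sys.torusHom,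
      MonoidHom.noncommPiCoprod_mulSingle]
    have e1 : ext' (Pi.mulSingle i y) = Pi.mulSingle ⟨i.val, i.isLt.trans_le hS.rank_le⟩ y := by
      funext j
      show (if h : j.val < D.rank then (Pi.mulSingle i y : Fin D.rank → Fˣ) ⟨j.val, h⟩ else 1) = _
      by_cases hj : j.val = i.val
      · have : j = ⟨i.val, i.isLt.trans_le hS.rank_le⟩ := Fin.ext hj
        subst this
        simp [i.isLt]
      · rw [Pi.mulSingle_eq_of_ne (fun e => hj (by rw [e]))]
        split
        · exact Pi.mulSingle_eq_of_ne (fun e => hj (congrArg Fin.val e)) _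
        · rfl
    rw [e1]
    show subHom F hD hE hS ((stSys (F := F) hD).h (D.simple i.val) (y : F)) = _
    rw [stSys_h]
    show FreeGroup.lift (subGen F hE (ι := ι)) _ = _
    rw [lift_sub_stH F hD hE hS (hD.simple_lt _ i.isLt), hS.simple _ i.isLt]
    apply Units.ext
    rw [coe_hg, hMat_eq_diag hE (hE.simple_lt _ (i.isLt.trans_le hS.rank_le)) y.ne_zero, dg]
    simp [dgU, chi_mulSingle]
  rw [injective_iff_map_eq_one]
  intro t ht
  have h1 : chi E F (ext' t) = 1 := dgU_inj E F (by
    rw [map_one, ← MonoidHom.comp_apply (chi E F), ← MonoidHom.comp_apply, ← key, MonoidHom.comp_apply, ht, map_one])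
  funext i
  have h2 := pow_eq_one_of_chi hE hRE h1 ⟨i.val, i.isLt.trans_le hS.rank_le⟩
  simpa [ext', i.isLt] using h2

variable {F} in
include hD hE hR hX in
theorem card_center {N : List (List ℤ)} (hRE : Roots E N 1) :
    Nat.card (Subgroup.center (D.SteinbergGroup F)) = Nat.card (chi D F).ker := by
  rw [center_eq hD hR hX]
  exact (Nat.card_congr ((chi D F).ker.equivMapOfInjective _ (torusHom_injective hD hR hX hE hS hRE)).toEquiv).symm

end Sub

theorem cartanE6 : ∀ i < 6, ∀ k < 6, chevE6.cartan i (chevE6.simple k) =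
    ([[2, 0, -1, 0, 0, 0], [0, 2, 0, -1, 0, 0], [-1, 0, 2, -1, 0, 0], [0, -1, -1, 2, -1, 0], [0, 0, 0, -1, 2, -1],
      [0, 0, 0, 0, -1, 2]].getD i []).getD k (0 : ℤ) := by decide +kernel

theorem cartanE7 : ∀ i < 7, ∀ k < 7, chevE7.cartan i (chevE7.simple k) =
    ([[2, 0, -1, 0, 0, 0, 0], [0, 2, 0, -1, 0, 0, 0], [-1, 0, 2, -1, 0, 0, 0], [0, -1, -1, 2, -1, 0, 0],
      [0, 0, 0, -1, 2, -1, 0], [0, 0, 0, 0, -1, 2, -1], [0, 0, 0, 0, 0, -1, 2]].getD i []).getD k (0 : ℤ) := by
  decide +kernel

theorem rankE6 : chevE6.rank = 6 := by decide +kernel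

theorem rankE7 : chevE7.rank = 7 := by decide +kernel

end Cfsg.Agent.ChevSt
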