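/-
Steinberg presentations, part 20: the root system facts of the simply-laced data.

* `SLRoots D`: classification of pairs by the pairing, with the commutator words.
* `Dec D r`, `Dec3 D r`: decompositions relative to a second root.
* `slRoots`, `dec3`, `decE`: the instances.
-/
import Cfsg.Agent.Lib.ChevSt.Data
import Cfsg.Agent.Lib.Chev.DataD4
import Cfsg.Agent.Lib.Chev.DataE6
import Cfsg.Agent.Lib.Chev.DataE7
import Cfsg.Agent.Lib.Chev.DataE8

set_option autoImplicit false
set_option maxRecDepth 100000
set_option synthInstance.maxSize 4000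

namespace Cfsg.Agent.ChevSt

open Cfsg.Lie Cfsg.Lie.ChevalleyDatum Cfsg.Agent.Chev Cfsg.Agent.ChevBN

/-- The root system facts of a simply-laced datum. -/
structure SLRoots (D : ChevalleyDatum) : Prop where
  symm : ∀ r < D.nroots, ∀ s < D.nroots, D.pairing r s = D.pairing s r
  eq : ∀ r < D.nroots, ∀ s < D.nroots,
    (D.pairing r s = 2 → s = r) ∧ (D.pairing r s = -2 → s = D.neg r)
  range : ∀ r < D.nroots, ∀ s < D.nroots, -2 ≤ D.pairing r s ∧ D.pairing r s ≤ 2
  sum : ∀ r < D.nroots, ∀ s < D.nroots, D.pairing r s = -1 → ∃ k < D.nroots, ∃ C : ℤ, (C = 1 ∨ C = -1) ∧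
    D.commTerms r s = [(k, C, 1, 1)] ∧ ∀ x, D.pairing x k = D.pairing x r + D.pairing x s
  nil : ∀ r < D.nroots, ∀ s < D.nroots, D.pairing r s = 0 ∨ D.pairing r s = 1 → D.commTerms r s = []

theorem slRoots_of_data {D : ChevalleyDatum} {v : ℕ → Fin D.rank → ℤ} {γ : ℕ → ℤ} (h : SLData D v γ) :
    SLRoots D where
  symm r hr s hs := h.pairing_comm hr hs
  eq r hr s hs := h.eq_of_pairing hr hs
  range r hr s hs := by
    rcases h.classify r hr s hs with c | c | c | c <;> omega
  sum r hr s hs e := by
    obtain ⟨k, hk, hvk, he⟩ := h.sum_root hr hs e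
    have hvk' : ∀ i, v k i = v s i + v r i := fun i => by rw [hvk i]; ring
    have hes := h.entry_sum hs hr hk hvk'
    exact ⟨k, hk, _, sgn_cases (nExp D v γ r s k), by
      simp [ChevalleyDatum.commTerms, ChevalleyDatum.chainRoot, ChevalleyDatum.chainM, he, hes],
      fun x => h.pairing_add hr hs hk hvk⟩
  nil r hr s hs e := by
    have he := h.entry_nil hr hs e
    have he' : D.chainEntry s r = [] := h.entry_nil hs hr (by rw [h.pairing_comm hs hr]; exact e)
    simp [ChevalleyDatum.commTerms, ChevalleyDatum.chainRoot, he, he']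

/-- Every root s with ⟨r,s⟩ ≥ 0 is a sum of two roots not obtuse to r. -/
def Dec (D : ChevalleyDatum) (r : ℕ) : Prop :=
  ∀ s < D.nroots, 0 ≤ D.pairing r s →
    ∃ a < D.nroots, D.pairing s a = 1 ∧ 0 ≤ D.pairing r a ∧ D.pairing r a ≤ D.pairing r s

/-- Every pair with ⟨r,b⟩ = -1 extends to a chain of three roots. -/
def Dec3 (D : ChevalleyDatum) (r : ℕ) : Prop :=
  ∀ b < D.nroots, D.pairing r b = -1 → ∃ c < D.nroots, D.pairing r c = 1 ∧ D.pairing b c = 0

variable {D : ChevalleyDatum} (hD : Good D) {M : List (List ℤ)} {d : ℤ} (hR : Roots D M d) (hS : SLRoots D)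
include hD hR hS

omit hR in
theorem pairing_refl {i : ℕ} (hi : i < D.rank) {r s : ℕ} (hr : r < D.nroots) (hs : s < D.nroots) :
    D.pairing (wN D i r) (wN D i s) = D.pairing r s := by
  have hsi := hD.simple_lt i hi
  have hwr : wN D i r < D.nroots := refl_lt hD hsi hr
  have l : ∀ x q, q < D.nroots → D.pairing x (wN D i q) =
      D.pairing x q - D.pairing (D.simple i) q * D.pairing x (D.simple i) := fun x q hq =>
    (isLin_pairing hD x).refl hD hsi hq
  rw [l _ s hs, hS.symm _ hwr s hs, hS.symm _ hwr _ hsi, l _ r hr, l _ r hr, hD.pairing_self _ hsi,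
    hS.symm s hs r hr, hS.symm s hs _ hsi]
  ring

/-- A property of roots invariant under the fundamental reflections holds everywhere. -/
theorem all_of_simple {P : ℕ → Prop} (h₀ : ∀ i < D.rank, P (D.simple i))
    (h₁ : ∀ i < D.rank, ∀ q < D.nroots, P q → P (wN D i q)) : ∀ r < D.nroots, P r := by
  have key : ∀ q, q < D.nroots → D.IsPosRoot q → P q ∧ P (D.neg q) := by
    intro q hq hp
    refine hR.pos_induction hD (P := fun q => P q ∧ P (D.neg q)) (fun i hi => ⟨h₀ i hi, ?_⟩) ?_ hq hp
    · have := h₁ i hi _ (hD.simple_lt i hi) (h₀ i hi)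
      rwa [show wN D i (D.simple i) = D.neg (D.simple i) by simp [wN, Chev.refl]] at this
    · intro i hi q hq ⟨e, e'⟩
      exact ⟨h₁ i hi q hq e, by rw [← hR.refl_neg hD hi hq]; exact h₁ i hi _ (hD.neg_lt q hq) e'⟩
  intro r hr
  by_cases hp : D.IsPosRoot r
  · exact (key r hr hp).1
  · have h := (key _ (hD.neg_lt r hr) ((pos_or_neg hD hr).2 hp)).2
    rwa [hD.neg_neg r hr] at h

theorem dec_of_simple (h₀ : ∀ i < D.rank, Dec D (D.simple i)) : ∀ r < D.nroots, Dec D r := by
  refine all_of_simple hD hR hS h₀ fun i hi q hq ih s hs h => ?_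
  have hsi := hD.simple_lt i hi
  have hlt : ∀ x < D.nroots, wN D i x < D.nroots := fun x hx => refl_lt hD hsi hx
  have e : ∀ x < D.nroots, D.pairing (wN D i q) x = D.pairing q (wN D i x) := fun x hx => by
    rw [← pairing_refl hD hS hi (hlt q hq) hx, show wN D i (wN D i q) = q from refl_refl hD hsi hq]
  obtain ⟨a, ha, e1, e2, e3⟩ := ih _ (hlt s hs) (by rwa [← e s hs])
  refine ⟨_, hlt a ha, ?_, ?_, ?_⟩
  · rw [← pairing_refl hD hS hi hs (hlt a ha), show wN D i (wN D i a) = a from refl_refl hD hsi ha]; exact e1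
  · rwa [pairing_refl hD hS hi hq ha]
  · rw [pairing_refl hD hS hi hq ha, e s hs]; exact e3

theorem dec3_of_simple (h₀ : ∀ i < D.rank, Dec3 D (D.simple i)) : ∀ r < D.nroots, Dec3 D r := by
  refine all_of_simple hD hR hS h₀ fun i hi q hq ih b hb h => ?_
  have hsi := hD.simple_lt i hi
  have hlt : ∀ x < D.nroots, wN D i x < D.nroots := fun x hx => refl_lt hD hsi hx
  have e : ∀ x < D.nroots, ∀ y < D.nroots, D.pairing x (wN D i y) = D.pairing (wN D i x) y := fun x hx y hy => by
    rw [← pairing_refl hD hS hi hx (hlt y hy), show wN D i (wN D i y) = y from refl_refl hD hsi hy]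
  obtain ⟨c, hc, e1, e2⟩ := ih _ (hlt b hb) (by rwa [e q hq b hb])
  exact ⟨_, hlt c hc, by rwa [pairing_refl hD hS hi hq hc], by rwa [e b hb c hc]⟩

omit hD hR hS

/-- The test for `Dec`. -/
def decB (D : ChevalleyDatum) : Bool :=
  (List.range D.rank).all fun i => (List.range D.nroots).all fun s =>
    decide (D.cartan i s < 0) || (List.range D.nroots).any fun a =>
      decide (0 ≤ D.cartan i a) && decide (D.cartan i a ≤ D.cartan i s) && decide (D.pairing s a = 1)

/-- The test for `Dec3`. -/
def dec3B (D : ChevalleyDatum) : Bool :=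
  (List.range D.rank).all fun i => (List.range D.nroots).all fun b =>
    decide (D.cartan i b ≠ -1) || (List.range D.nroots).any fun c =>
      decide (D.cartan i c = 1) && decide (D.pairing b c = 0)

theorem dec_of_decB (hD : Good D) (h : decB D = true) : ∀ i < D.rank, Dec D (D.simple i) := by
  simp only [decB, List.all_eq_true, List.mem_range, Bool.or_eq_true, List.any_eq_true, Bool.and_eq_true,
    decide_eq_true_eq] at h
  intro i hi s hs hge
  simp only [pairing_simple hD hi] at hge ⊢
  rcases h i hi s hs with e | ⟨a, ha, ⟨e1, e2⟩, e3⟩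
  · omega
  · exact ⟨a, ha, e3, e1, e2⟩

theorem dec3_of_dec3B (hD : Good D) (h : dec3B D = true) : ∀ i < D.rank, Dec3 D (D.simple i) := by
  simp only [dec3B, List.all_eq_true, List.mem_range, Bool.or_eq_true, List.any_eq_true, Bool.and_eq_true,
    decide_eq_true_eq] at h
  intro i hi b hb he
  simp only [pairing_simple hD hi] at he ⊢
  rcases h i hi b hb with e | ⟨c, hc, e1, e2⟩
  · exact absurd he e
  · exact ⟨c, hc, e1, e2⟩

/-- A sixteen-bit digit of a packed row: a pairing plus 32768. -/
def rowDigit (I x : ℕ) : ℕ := (I >>> (16 * x)) % 65536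

/-- The test for `Dec` at a pair, on packed rows. -/
def decRow (n s I J : ℕ) : Bool :=
  Nat.blt (rowDigit I s) 32768 || (List.range n).any fun a =>
    Nat.ble 32768 (rowDigit I a) && Nat.ble (rowDigit I a) (rowDigit I s) && (rowDigit J a == 32769)

/-- The test for `Dec3` at a pair, on packed rows. -/
def dec3Row (n b I J : ℕ) : Bool :=
  !(rowDigit I b == 32767) || (List.range n).any fun c => (rowDigit I c == 32769) && (rowDigit J c == 32768)

/-- A test on the packed rows of every fundamental root against every root. -/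
def packRowsB (D : ChevalleyDatum) (K : SLCert) (f : ℕ → ℕ → ℕ → ℕ → Bool) : Bool :=
  (List.range D.rank).all fun i => (List.range D.nroots).all fun s =>
    f D.nroots s (K.rowI D K.P (onesN D.nroots) (D.simple i)) (K.rowI D K.P (onesN D.nroots) s)

theorem rowDigit_pairing {D : ChevalleyDatum} {K : SLCert} (T : SLTables D K) {r s : ℕ} (hr : r < D.nroots)
    (hs : s < D.nroots) :
    ((rowDigit (K.rowI D K.P (onesN D.nroots) r) s : ℕ) : ℤ) = D.pairing r s + 32768 :=
  T.digit_pairing hr hs

theorem decB_of_rows {D : ChevalleyDatum} {K : SLCert} (T : SLTables D K) (hl : D.rank ≤ 8)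
    (h : packRowsB D K decRow = true) : decB D = true := by
  simp only [packRowsB, decRow, decB, List.all_eq_true, List.any_eq_true, List.mem_range, Bool.or_eq_true,
    Bool.and_eq_true, decide_eq_true_eq, beq_iff_eq, Nat.blt_eq, Nat.ble_eq] at h ⊢
  intro i hi s hs
  have hp := fun x (hx : x < D.nroots) => rowDigit_pairing T (T.simple i hi).1 hx
  simp only [pairing_simple (T.good hl) hi] at hp
  have h1 := hp s hs
  rcases h i hi s hs with e | ⟨a, ha, ⟨e1, e2⟩, e3⟩
  · exact Or.inl (by omega)
  · have h2 := hp a ha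
    have h3 := rowDigit_pairing T hs ha
    exact Or.inr ⟨a, ha, ⟨by omega, by omega⟩, by omega⟩

theorem dec3B_of_rows {D : ChevalleyDatum} {K : SLCert} (T : SLTables D K) (hl : D.rank ≤ 8)
    (h : packRowsB D K dec3Row = true) : dec3B D = true := by
  simp only [packRowsB, dec3Row, dec3B, List.all_eq_true, List.any_eq_true, List.mem_range, Bool.or_eq_true,
    Bool.and_eq_true, Bool.not_eq_true', decide_eq_true_eq, beq_iff_eq, beq_eq_false_iff_ne] at h ⊢
  intro i hi b hb
  have hp := fun x (hx : x < D.nroots) => rowDigit_pairing T (T.simple i hi).1 hx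
  simp only [pairing_simple (T.good hl) hi] at hp
  have h1 := hp b hb
  rcases h i hi b hb with e | ⟨c, hc, e1, e2⟩
  · exact Or.inl (by omega)
  · have h2 := hp c hc
    have h3 := rowDigit_pairing T hb hc
    exact Or.inr ⟨c, hc, by omega, by omega⟩

theorem decB_E6 : decB chevE6 = true := decB_of_rows Chev.DataE6.tables (by decide) (by decide +kernel)
theorem decB_E7 : decB chevE7 = true := decB_of_rows Chev.DataE7.tables (by decide) (by decide +kernel)
theorem decB_E8 : decB chevE8 = true := decB_of_rows Chev.DataE8.tables (by decide) (by decide +kernel)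
theorem dec3B_D4 : dec3B chevD4 = true := by decide +kernel
theorem dec3B_E6 : dec3B chevE6 = true := dec3B_of_rows Chev.DataE6.tables (by decide) (by decide +kernel)
theorem dec3B_E7 : dec3B chevE7 = true := dec3B_of_rows Chev.DataE7.tables (by decide) (by decide +kernel)
theorem dec3B_E8 : dec3B chevE8 = true := dec3B_of_rows Chev.DataE8.tables (by decide) (by decide +kernel)

theorem slRootsD4 : SLRoots chevD4 := slRoots_of_data (Chev.DataD4.tables.slData (by decide))
theorem slRootsE6 : SLRoots chevE6 := slRoots_of_data (Chev.DataE6.tables.slData (by decide))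
theorem slRootsE7 : SLRoots chevE7 := slRoots_of_data (Chev.DataE7.tables.slData (by decide))
theorem slRootsE8 : SLRoots chevE8 := slRoots_of_data (Chev.DataE8.tables.slData (by decide))

end Cfsg.Agent.ChevSt
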