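/-
Chevalley groups: elements acting diagonally, and generation by the fundamental root elements.

* `charDiag_conj`: diagonal matrices of characters scale the root elements.
* `diag_mem`: a diagonal element of the group lies in the diagonal subgroup.
* `hom_ext_simple`: homomorphisms on the group are determined by the x_{±αᵢ}(t).
-/
import Cfsg.Agent.Lib.ChevSt.Centre
import Cfsg.Prelude.Def_ChevAutomorphisms

set_option autoImplicit false

namespace Cfsg.Agent.ChevSt

open Cfsg.Lie Cfsg.Lie.ChevalleyDatum Cfsg.Agent.Chev Cfsg.Agent.ChevBN Matrix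

variable {D : ChevalleyDatum} (hD : Good D) {F : Type*} [Field F]
include hD

theorem char_sumCol (χ : ℕ → Fˣ) (hadd : ∀ a b k, a < D.nroots → b < D.nroots → D.chainRoot a b 1 = some k → χ k = χ a * χ b)
    {r : ℕ} (hr : r < D.nroots) (u : F) :
    ∀ (L : List (ℕ × ℤ)) (k : ℕ) (M : ℤ) (q : ℕ), StepOK D r L k M q → ∀ (j : ℕ) (c : F),
      (χ q : F) * (χ r : F) = c * (χ r : F) ^ j →
      D.charDiag F χ *ᵥ sumCol D F u L j = c • sumCol D F ((χ r : F) * u) L j
  | [], _, _, _, _, _, _, _ => by simp [sumCol]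
  | (q', M') :: L, k, M, q, hS, j, c, hc => by
    obtain ⟨hq, -, -, hstep, -, hrest⟩ := hS
    have e : (χ q' : F) = c * (χ r : F) ^ j := by
      rw [hadd r q q' hr hq hstep, Units.val_mul, mul_comm, hc]
    have hq' : q' < D.nroots := chainRoot_lt hD hr hq hstep
    rw [sumCol, sumCol, Matrix.mulVec_add,
      char_sumCol χ hadd hr u L (k + 1) M' q' hrest (j + 1) c (by rw [e, pow_succ]; ring),
      Matrix.mulVec_smul, smul_add, smul_smul]
    congr 1
    ext a
    rw [Pi.smul_apply, Pi.smul_apply, ChevalleyDatum.charDiag, Matrix.mulVec_diagonal]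
    rcases a with i | v
    · simp [ev]
    · by_cases hv' : v.val = q'
      · simp [ev, hv', e]; ring
      · simp [ev, hv']

theorem char_ev (χ : ℕ → Fˣ) {q : ℕ} (_hq : q < D.nroots) :
    D.charDiag F χ *ᵥ ev D F q = (χ q : F) • ev D F q := by
  ext a
  rw [ChevalleyDatum.charDiag, Matrix.mulVec_diagonal, Pi.smul_apply]
  rcases a with i | v
  · simp [ev]
  · by_cases hv' : v.val = q <;> simp [ev, hv']

theorem charDiag_conj {χ : ℕ → Fˣ} (hχ : D.IsRootCharacter χ) {r : ℕ} (hr : r < D.nroots) (u : F) :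
    D.charDiag F χ * D.x F r u = D.x F r ((χ r : F) * u) * D.charDiag F χ := by
  rw [x_eq_xR D hr, x_eq_xR D hr]
  refine Matrix.ext_of_mulVec_single fun a => ?_
  rw [← Matrix.mulVec_mulVec, ← Matrix.mulVec_mulVec]
  have hn := hD.neg_lt r hr
  have hne := hD.neg_ne r hr
  have hD1 : ∀ i : Fin D.rank, D.charDiag F χ *ᵥ Pi.single (Sum.inl i) 1 = Pi.single (Sum.inl i) 1 := fun i => by
    ext a
    rw [ChevalleyDatum.charDiag, Matrix.mulVec_diagonal]
    rcases a with j | v <;> simp [Pi.single_apply]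
  rcases a with i | ⟨s, hs⟩
  · rw [hD1, xR_inl, xR_inl, Matrix.mulVec_add, hD1, Matrix.mulVec_smul, char_ev hD χ hr, smul_smul]
    congr 2
    ring
  · rw [← ev_of_lt D F hs, char_ev hD χ hs, Matrix.mulVec_smul]
    by_cases h₁ : s = r
    · subst h₁
      rw [xR_self D s _ hr, xR_self D s _ hr, char_ev hD χ hr]
    by_cases h₂ : s = D.neg r
    · subst h₂
      rw [xR_neg D r _ hn hne, xR_neg D r _ hn hne, Matrix.mulVec_sub, Matrix.mulVec_add, Matrix.mulVec_smul,
        Matrix.mulVec_smul, char_ev hD χ hn, char_ev hD χ hr, hv_eq, Matrix.mulVec_sum]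
      simp only [Matrix.mulVec_smul, hD1]
      have hinv : (χ (D.neg r) : F) * (χ r : F) = 1 := by rw [← Units.val_mul, hχ.1 r hr, inv_mul_cancel, Units.val_one]
      rw [smul_sub, smul_add, smul_smul, smul_smul, smul_smul]
      congr 1
      · congr 2
        linear_combination -u * hinv
      · congr 1
        linear_combination -(u ^ 2 * (χ r : F)) * hinv
    rw [xR_gen D r _ (hD.keys r hr) hs h₁ h₂, xR_gen D r _ (hD.keys r hr) hs h₁ h₂, Matrix.mulVec_add,
      char_ev hD χ hs, smul_add,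
      char_sumCol hD χ hχ.2 hr u _ 0 1 s (hD.step r hr s hs h₁ h₂) 1 (χ s : F) (by rw [pow_one])]

variable {M : List (List ℤ)} {d : ℤ} (hR : Roots D M d)
include hR

theorem diag_mem {χ : ℕ → Fˣ} (hχ : D.IsRootCharacter χ) {g : GL D.Idx F} (hg : g ∈ D.group F)
    (hgχ : (g : Matrix D.Idx D.Idx F) = D.charDiag F χ) : g ∈ D.diagonalSubgroup F := by
  have hconj : ∀ (q : ℕ) (u : F), g * xg hD F q u = xg hD F q ((χ q : F) * u) * g := by
    intro q u
    by_cases hq : q < D.nroots
    swap
    · simp [xg_out hD hq]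
    apply Units.ext
    rw [Units.val_mul, Units.val_mul, coe_xg, coe_xg, hgχ]
    exact charDiag_conj hD hχ hq u
  set R := chevRGD hD hR F
  have hB : g ∈ R.B := by
    refine normalize_mem_B R (by rw [chev_G hD hR]; exact hg) fun b hb => ?_
    have hle : R.B ≤ R.B.comap (MulAut.conj g).toMonoidHom := by
      refine sup_le (R.span_le fun r hr z hz => ?_) fun z hz => ?_
      · obtain ⟨t, rfl⟩ := (mem_rootSubgroup hD _).1 hz
        show g * xg hD F r.val t * g⁻¹ ∈ R.B
        rw [hconj, mul_inv_cancel_right]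
        exact R.Upos_le_B (R.U_le_Upos hr (xg_mem_rootSubgroup hD _ _))
      · show g * z * g⁻¹ ∈ R.B
        obtain ⟨ψ, hψ, -⟩ := isToral_of_mem hD hz
        have : g * z = z * g := by
          apply Units.ext
          rw [Units.val_mul, Units.val_mul, hgχ, hψ, ChevalleyDatum.charDiag, dg, Matrix.diagonal_mul_diagonal,
            Matrix.diagonal_mul_diagonal]
          congr 1
          ext a
          exact mul_comm _ _
        rw [this, mul_inv_cancel_right]
        exact R.H_le_B hz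
    exact hle hb
  obtain ⟨u, hu, h, hh, e⟩ := R.exists_B hB
  rw [chev_Upos hD hR] at hu
  obtain ⟨ψ, hψ, -⟩ := isToral_of_mem hD (inv_mem (show h ∈ D.diagonalSubgroup F from hh))
  have hu1 : u = 1 := by
    apply Units.ext
    have hd : ∀ a b, a ≠ b → (u : Matrix D.Idx D.Idx F) a b = 0 := by
      intro a b hab
      rw [show u = g * h⁻¹ by rw [e]; group, Units.val_mul, hgχ, hψ, ChevalleyDatum.charDiag, dg,
        Matrix.diagonal_mul_diagonal, Matrix.diagonal_apply_ne _ hab]
    ext a b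
    by_cases hab : a = b
    · subst hab; rw [(uTri_pos hD hR hu).2]; simp
    · rw [hd a b hab, Units.val_one, Matrix.one_apply_ne hab]
  rw [e, hu1, one_mul]
  exact hh

/-- The fundamental root elements and their negatives generate. -/
theorem group_le_of_simple {K : Subgroup (GL D.Idx F)}
    (h : ∀ i < D.rank, ∀ t : F, xg hD F (D.simple i) t ∈ K ∧ xg hD F (D.neg (D.simple i)) t ∈ K) :
    D.group F ≤ K := by
  have hn : ∀ i < D.rank, ng hD F (D.simple i) 1 ∈ K := fun i hi =>
    mul_mem (mul_mem (h i hi 1).1 (h i hi _).2) (h i hi 1).1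
  have conj : ∀ i < D.rank, ∀ q < D.nroots, (∀ t, xg hD F q t ∈ K) → ∀ t, xg hD F (wN D i q) t ∈ K := by
    intro i hi q hq hq' t
    have hne : (nSign D (D.simple i) q : F) ≠ 0 := by
      rcases (nSign_cases hD (hD.simple_lt i hi) hq).1 with h | h <;> simp [h]
    have h2 := mul_mem (mul_mem (hn i hi) (hq' ((nSign D (D.simple i) q : F)⁻¹ * t))) (inv_mem (hn i hi))
    rwa [ng_conj_xg hD hi hq, ← mul_assoc, mul_inv_cancel₀ hne, one_mul] at h2
  have key : ∀ q, q < D.nroots → D.IsPosRoot q → ∀ t, xg hD F q t ∈ K ∧ xg hD F (D.neg q) t ∈ K := by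
    intro q hq hp
    refine hR.pos_induction hD (P := fun q => ∀ t, xg hD F q t ∈ K ∧ xg hD F (D.neg q) t ∈ K) h ?_ hq hp
    intro i hi p hp' ih t
    refine ⟨conj i hi p hp' (fun t => (ih t).1) t, ?_⟩
    rw [← hR.refl_neg hD hi hp']
    exact conj i hi _ (hD.neg_lt p hp') (fun t => (ih t).2) t
  refine (Subgroup.closure_le _).2 ?_
  rintro g ⟨r, t, e⟩
  obtain rfl : g = xg hD F r.val t := Units.ext (by rw [e]; simp [ChevalleyDatum.x])
  by_cases hp : D.IsPosRoot r.val
  · exact (key r.val r.isLt hp t).1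
  · have := (key _ (hD.neg_lt _ r.isLt) ((pos_or_neg hD r.isLt).2 hp) t).2
    rwa [hD.neg_neg _ r.isLt] at this

/-- Homomorphisms on the group are determined by the fundamental root elements. -/
theorem hom_ext_simple {G : Type*} [Group G] {f g : D.group F →* G}
    (h : ∀ i < D.rank, ∀ t : F,
      f ⟨xg hD F (D.simple i) t, xg_mem_group hD _ t⟩ = g ⟨xg hD F (D.simple i) t, xg_mem_group hD _ t⟩ ∧
      f ⟨xg hD F (D.neg (D.simple i)) t, xg_mem_group hD _ t⟩ =
        g ⟨xg hD F (D.neg (D.simple i)) t, xg_mem_group hD _ t⟩) : f = g := by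
  refine MonoidHom.ext fun x => ?_
  have hle := group_le_of_simple hD hR (F := F) (K := (f.eqLocus g).map (D.group F).subtype) fun i hi t =>
    ⟨⟨_, (h i hi t).1, rfl⟩, ⟨_, (h i hi t).2, rfl⟩⟩
  obtain ⟨y, hy, e⟩ := hle x.2
  rw [← Subtype.ext e]
  exact hy

end Cfsg.Agent.ChevSt
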