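/-
Steinberg presentations, part 21: splitting of the simply-laced covering groups over any field.

* `PairComm`, `pairComm_of_dec`.
* `Sys.sl_lift`: lifts satisfying all relations, given commuting preimages for the pairs with ⟨r,s⟩ ≥ 0.
* `sl_section`.
-/
import Cfsg.Agent.Lib.ChevSt.SLRoots
import Cfsg.Agent.Lib.ChevSt.Universal

set_option autoImplicit false

namespace Cfsg.Agent.ChevSt

open Cfsg.Lie Cfsg.Lie.ChevalleyDatum Cfsg.Agent.Chev Cfsg.Agent.ChevBN

section Group

variable {E L : Type*} [Group E] [Group L]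

/-- The identity [[X,E],B] = [X,[E,B]] for commuting X and B. -/
theorem hall (X Y B : L) (h₁ : X * B = B * X)
    (h₂ : Commute (X * Y * X⁻¹ * Y⁻¹) (Y * B * Y⁻¹ * B⁻¹))
    (h₃ : Commute (X * (Y * B * Y⁻¹ * B⁻¹) * X⁻¹ * (Y * B * Y⁻¹ * B⁻¹)⁻¹) (Y * B * Y⁻¹ * B⁻¹)) :
    X * Y * X⁻¹ * Y⁻¹ * B * (X * Y * X⁻¹ * Y⁻¹)⁻¹ * B⁻¹ =
      X * (Y * B * Y⁻¹ * B⁻¹) * X⁻¹ * (Y * B * Y⁻¹ * B⁻¹)⁻¹ := by
  have hB : X * B * X⁻¹ = B := by rw [h₁, mul_inv_cancel_right]
  set a := X * Y * X⁻¹ * Y⁻¹ with ha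
  set d := Y * B * Y⁻¹ * B⁻¹ with hd
  set k' := X * d * X⁻¹ * d⁻¹ with hk'
  have e1 : a * d * B * Y = k' * d * B * a * Y := by
    have e2 : a * d * B * Y = X * (Y * B) * X⁻¹ := by
      calc a * d * B * Y = X * Y * X⁻¹ * B := by rw [ha, hd]; group
        _ = X * Y * X⁻¹ * (X * B * X⁻¹) := by rw [hB]
        _ = _ := by group
    have e3 : k' * d * B * a * Y = X * (d * B * Y) * X⁻¹ := by
      calc k' * d * B * a * Y = X * d * X⁻¹ * B * (X * Y * X⁻¹) := by rw [hk', ha]; group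
        _ = X * d * X⁻¹ * (X * B * X⁻¹) * (X * Y * X⁻¹) := by rw [hB]
        _ = _ := by group
    rw [e2, e3, hd]; group
  have e4 : a * d = k' * d * B * a * B⁻¹ := by
    calc a * d = a * d * B * Y * Y⁻¹ * B⁻¹ := by group
      _ = _ := by rw [e1]; group
  calc a * B * a⁻¹ * B⁻¹ = d⁻¹ * (d * a) * (B * a⁻¹ * B⁻¹) := by group
    _ = d⁻¹ * (a * d) * (B * a⁻¹ * B⁻¹) := by rw [h₂.eq]
    _ = d⁻¹ * (k' * d) := by rw [e4]; group
    _ = k' := by rw [h₃.eq]; group

end Group

namespace Sys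

variable {D : ChevalleyDatum} {F : Type*} [Field F] {E : Type*} [Group E] (S : Sys D F E)
  {L : Type*} [Group L] {p : L →* E}

/-- Preimages of elements of two root subgroups commute. -/
def PairComm (S : Sys D F E) (p : L →* E) (r s : ℕ) : Prop :=
  ∀ (t u : F) (A B : L), p A = S.x r t → p B = S.x s u → A * B = B * A

variable (hD : Good D) (hS : SLRoots D)

include hD hS in
theorem x_comm_of_nonneg {r s : ℕ} (hr : r < D.nroots) (hs : s < D.nroots) (h : 0 ≤ D.pairing r s) (t u : F) :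
    S.x r t * S.x s u = S.x s u * S.x r t := by
  by_cases h₁ : s = r
  · subst h₁; rw [← S.add, ← S.add, add_comm]
  have h₂ : s ≠ D.neg r := by
    rintro rfl
    rw [hD.pairing_neg_right _ hr, hD.pairing_self r hr] at h
    omega
  have hne : D.pairing r s ≠ 2 := fun e => h₁ ((hS.eq r hr s hs).1 e)
  have := hS.range r hr s hs
  rw [S.comm r s hr hs h₁ h₂ t u, ChevalleyDatum.commWord, hS.nil r hr s hs (by omega)]
  simp

include hD hS in
theorem x_comm_word {a b k : ℕ} (ha : a < D.nroots) (hb : b < D.nroots) (hk : k < D.nroots) {C : ℤ}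
    (hT : D.commTerms a b = [(k, C, 1, 1)]) (hP : D.pairing a b = -1)
    (hx : ∀ x, D.pairing x k = D.pairing x a + D.pairing x b) (t u : F) :
    S.x a t * S.x b u * (S.x a t)⁻¹ * (S.x b u)⁻¹ = S.x k ((C : F) * (t * u)) := by
  have h₁ : b ≠ a := by rintro rfl; rw [hD.pairing_self _ hb] at hP; omega
  have h₂ : b ≠ D.neg a := by
    rintro rfl
    rw [hD.pairing_neg_right _ ha, hD.pairing_self a ha] at hP
    omega
  have hc := S.comm a b ha hb h₁ h₂ (-t) u
  simp only [ChevalleyDatum.commWord, hT, List.map_cons, List.map_nil, List.prod_cons, List.prod_nil, mul_one,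
    pow_one, _root_.neg_neg, S.x_neg] at hc
  have hcm := S.x_comm_of_nonneg hD hS hk hb
    (by rw [hS.symm k hk b hb, hx, hS.symm b hb a ha, hP, hD.pairing_self b hb]; norm_num) ((C : F) * t * u) u
  calc S.x a t * S.x b u * (S.x a t)⁻¹ * (S.x b u)⁻¹
      = S.x a t * (S.x b u * (S.x a t)⁻¹) * (S.x b u)⁻¹ := by group
    _ = S.x b u * S.x k ((C : F) * t * u) * (S.x b u)⁻¹ := by rw [hc]; group
    _ = _ := by rw [← hcm, mul_inv_cancel_right, mul_assoc]

include hD in
theorem x_param_inj {k : ℕ} (hk : k < D.nroots) {t u : F} (e : S.x k t = S.x k u) : t = u := by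
  refine sub_eq_zero.1 (S.coord_zero hD (isLin_pairing hD k) ∅ hk ?_ (by simp) (by simp) (by simp) (t - u)
    (one_mem _) ?_)
  · rw [hD.pairing_self k hk]; norm_num
  · rw [mul_one, sub_eq_add_neg, S.add, S.x_neg, e, mul_inv_cancel, map_one]

variable (hp : Function.Surjective p) (hc : p.ker ≤ Subgroup.center L)

include hD hS hp hc in
theorem pairComm_of_dec {r s : ℕ} (hr : r < D.nroots) (hs : s < D.nroots) (hdec : Dec D r)
    (h : 0 ≤ D.pairing r s) : PairComm S p r s := by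
  obtain ⟨a, ha, e1, e2, e3⟩ := hdec s hs h
  have hna := hD.neg_lt a ha
  obtain ⟨b, hb, -, -, -, hxb⟩ := hS.sum s hs _ hna (by rw [hD.pairing_neg_right _ ha, e1])
  simp only [hD.pairing_neg_right _ ha] at hxb
  have hab : D.pairing a b = -1 := by rw [hxb, hS.symm a ha s hs, e1, hD.pairing_self a ha]; norm_num
  obtain ⟨k, hk, C, hC, hT, hxk⟩ := hS.sum a ha b hb hab
  have hks : k = s := (hS.eq s hs k hk).1 (by rw [hxk, hxb, hD.pairing_self s hs]; ring)
  subst hks
  intro t u A B hA hB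
  obtain ⟨a', ha'⟩ := hp (S.x a 1)
  obtain ⟨b', hb'⟩ := hp (S.x b ((C : F) * u))
  refine commute_comm_preimage hc (a := a') (b := b') ?_ ?_ ?_
  · rw [hA, ha', S.x_comm_of_nonneg hD hS hr ha e2]
  · rw [hA, hb', S.x_comm_of_nonneg hD hS hr hb (by rw [hxb]; omega)]
  · rw [hB, map_mul, map_mul, map_mul, map_inv, map_inv, ha', hb', S.x_comm_word hD hS ha hb hk hT hab hxk,
      one_mul, ← mul_assoc]
    congr 1
    rcases hC with rfl | rfl <;> simp

variable (hPC : ∀ r < D.nroots, ∀ s < D.nroots, 0 ≤ D.pairing r s → PairComm S p r s)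
include hD hS hp hc hPC

/-- The properties of the pairing of the lifts of a pair with ⟨a,b⟩ = -1. -/
theorem psi_props {a b k : ℕ} (ha : a < D.nroots) (hb : b < D.nroots) (hk : k < D.nroots) {C : ℤ}
    (hT : D.commTerms a b = [(k, C, 1, 1)]) (hP : D.pairing a b = -1)
    (hx : ∀ x, D.pairing x k = D.pairing x a + D.pairing x b) :
    (∀ t u, p (S.pair hp a b t u) = S.x k ((C : F) * (t * u))) ∧
    (∀ t t' u, S.pair hp a b (t + t') u = S.pair hp a b t u * S.pair hp a b t' u) ∧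
    (∀ t u u', S.pair hp a b t (u + u') = S.pair hp a b t u * S.pair hp a b t u') := by
  have hval : ∀ t u, p (S.pair hp a b t u) = S.x k ((C : F) * (t * u)) := fun t u => by
    rw [Sys.pair, map_mul, map_mul, map_mul, map_inv, map_inv, Function.surjInv_eq hp, Function.surjInv_eq hp,
      S.x_comm_word hD hS ha hb hk hT hP hx]
  have hak : 0 ≤ D.pairing a k := by rw [hx, hP, hD.pairing_self a ha]; norm_num
  have hbk : 0 ≤ D.pairing b k := by rw [hx, hS.symm b hb a ha, hP, hD.pairing_self b hb]; norm_num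
  refine ⟨hval, fun t t' u => ?_, fun t u u' => ?_⟩
  · set A := Function.surjInv hp (S.x a t)
    set A' := Function.surjInv hp (S.x a t')
    set B := Function.surjInv hp (S.x b u)
    rw [← S.pair_eq hp hc (A := A * A') (B := B) (by simp [A, A', Function.surjInv_eq hp, S.add])
      (Function.surjInv_eq hp _)]
    have c1 : A * S.pair hp a b t' u = S.pair hp a b t' u * A :=
      hPC a ha k hk hak _ _ _ _ (Function.surjInv_eq hp _) (hval t' u)
    have c2 : S.pair hp a b t' u * S.pair hp a b t u = S.pair hp a b t u * S.pair hp a b t' u :=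
      hPC k hk k hk (by rw [hD.pairing_self k hk]; norm_num) _ _ _ _ (hval t' u) (hval t u)
    calc A * A' * B * (A * A')⁻¹ * B⁻¹ = A * S.pair hp a b t' u * (B * A⁻¹ * B⁻¹) := by
          simp only [Sys.pair, A, A', B]; group
      _ = S.pair hp a b t' u * (A * B * A⁻¹ * B⁻¹) := by rw [c1]; group
      _ = _ := c2
  · set A := Function.surjInv hp (S.x a t)
    set B := Function.surjInv hp (S.x b u)
    set B' := Function.surjInv hp (S.x b u')
    rw [← S.pair_eq hp hc (A := A) (B := B * B') (Function.surjInv_eq hp _)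
      (by simp [B, B', Function.surjInv_eq hp, S.add])]
    have c1 : B * S.pair hp a b t u' = S.pair hp a b t u' * B :=
      hPC b hb k hk hbk _ _ _ _ (Function.surjInv_eq hp _) (hval t u')
    calc A * (B * B') * A⁻¹ * (B * B')⁻¹ = A * B * A⁻¹ * B⁻¹ * (B * S.pair hp a b t u' * B⁻¹) := by
          simp only [Sys.pair, A, B, B']; group
      _ = _ := by rw [c1, mul_inv_cancel_right]; rfl

/-- The identity for a chain of three roots. -/
theorem psi_chain {c e b a d : ℕ} (hc' : c < D.nroots) (he : e < D.nroots) (hb : b < D.nroots) (ha : a < D.nroots)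
    (hd : d < D.nroots) {C₁ C₂ : ℤ} (hT₁ : D.commTerms c e = [(a, C₁, 1, 1)]) (hce : D.pairing c e = -1)
    (hxa : ∀ x, D.pairing x a = D.pairing x c + D.pairing x e) (hT₂ : D.commTerms e b = [(d, C₂, 1, 1)])
    (heb : D.pairing e b = -1) (hxd : ∀ x, D.pairing x d = D.pairing x e + D.pairing x b)
    (hcb : D.pairing c b = 0) (t v u : F) :
    S.pair hp a b ((C₁ : F) * (t * v)) u = S.pair hp c d t ((C₂ : F) * (v * u)) := by
  obtain ⟨X, hX⟩ := hp (S.x c t)
  obtain ⟨Y, hY⟩ := hp (S.x e v)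
  obtain ⟨B, hB⟩ := hp (S.x b u)
  have pa : p (X * Y * X⁻¹ * Y⁻¹) = S.x a ((C₁ : F) * (t * v)) := by
    rw [map_mul, map_mul, map_mul, map_inv, map_inv, hX, hY, S.x_comm_word hD hS hc' he ha hT₁ hce hxa]
  have pd : p (Y * B * Y⁻¹ * B⁻¹) = S.x d ((C₂ : F) * (v * u)) := by
    rw [map_mul, map_mul, map_mul, map_inv, map_inv, hY, hB, S.x_comm_word hD hS he hb hd hT₂ heb hxd]
  have hbc : D.pairing b c = 0 := by rw [hS.symm b hb c hc', hcb]
  have hbe : D.pairing b e = -1 := by rw [hS.symm b hb e he, heb]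
  have had : D.pairing a d = 0 := by
    rw [hxd, hS.symm a ha e he, hxa, hS.symm a ha b hb, hxa, hS.symm e he c hc', hce, hD.pairing_self e he, hbc, hbe]
    norm_num
  have hcd : D.pairing c d = -1 := by rw [hxd, hce, hcb]; norm_num
  obtain ⟨k, hk, C, -, hT, hxk⟩ := hS.sum c hc' d hd hcd
  have pk : p (X * (Y * B * Y⁻¹ * B⁻¹) * X⁻¹ * (Y * B * Y⁻¹ * B⁻¹)⁻¹) =
      S.x k ((C : F) * (t * ((C₂ : F) * (v * u)))) := by
    rw [map_mul, map_mul, map_mul, map_inv, map_inv, pd, hX, S.x_comm_word hD hS hc' hd hk hT hcd hxk]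
  rw [← S.pair_eq hp hc pa hB, ← S.pair_eq hp hc hX pd]
  refine hall X Y B (hPC c hc' b hb (by rw [hcb]) _ _ _ _ hX hB)
    (hPC a ha d hd (by rw [had]) _ _ _ _ pa pd) (hPC k hk d hd ?_ _ _ _ _ pk pd)
  rw [hS.symm k hk d hd, hxk, hS.symm d hd c hc', hcd, hD.pairing_self d hd]
  norm_num

variable (h3 : ∀ r < D.nroots, Dec3 D r) (hself : ∀ k < D.nroots, ∃ a < D.nroots, D.pairing k a = 1)

include h3 in
theorem psi_balanced {a b : ℕ} (ha : a < D.nroots) (hb : b < D.nroots) (hP : D.pairing a b = -1) (t u : F) :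
    S.pair hp a b t u = S.pair hp a b (t * u) 1 := by
  obtain ⟨c, hc', hac, hbc⟩ := h3 a ha b hb hP
  obtain ⟨e, he, -, -, -, hxe⟩ := hS.sum a ha _ (hD.neg_lt c hc') (by rw [hD.pairing_neg_right _ hc', hac])
  simp only [hD.pairing_neg_right _ hc'] at hxe
  have hce : D.pairing c e = -1 := by rw [hxe, hS.symm c hc' a ha, hac, hD.pairing_self c hc']; norm_num
  obtain ⟨a', ha', C₁, hC₁, hT₁, hxa⟩ := hS.sum c hc' e he hce
  have : a' = a := (hS.eq a ha a' ha').1 (by rw [hxa, hxe, hD.pairing_self a ha]; ring)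
  subst this
  have heb : D.pairing e b = -1 := by rw [hS.symm e he b hb, hxe, hS.symm b hb a' ha, hP, hbc]; norm_num
  obtain ⟨d, hd, C₂, -, hT₂, hxd⟩ := hS.sum e he b hb heb
  have hcb : D.pairing c b = 0 := by rw [hS.symm c hc' b hb, hbc]
  have hC : (C₁ : F) * (C₁ : F) = 1 := by rcases hC₁ with h | h <;> simp [h]
  have h := fun v w => S.psi_chain hD hS hp hc hPC hc' he hb ha hd hT₁ hce hxa hT₂ heb hxd hcb 1 v w
  have e1 := h ((C₁ : F) * t) u
  have e2 := h ((C₁ : F) * (t * u)) 1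
  rw [one_mul, ← mul_assoc, hC, one_mul] at e1 e2
  rw [e1, e2, mul_one, mul_assoc]

include h3 in
theorem psi_indep {a b c d k : ℕ} (ha : a < D.nroots) (hb : b < D.nroots) (hc' : c < D.nroots) (hd : d < D.nroots)
    (hk : k < D.nroots) (hab : D.pairing a b = -1) (hcd : D.pairing c d = -1)
    (hxk : ∀ x, D.pairing x k = D.pairing x a + D.pairing x b)
    (hxk' : ∀ x, D.pairing x k = D.pairing x c + D.pairing x d) :
    ∃ ε : F, ∀ t u, S.pair hp a b t u = S.pair hp c d (ε * (t * u)) 1 := by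
  have hbal := fun {a b : ℕ} ha hb hP => S.psi_balanced hD hS hp hc hPC h3 (a := a) (b := b) ha hb hP
  obtain ⟨k₁, hk₁, C', hC', hT', hx'⟩ := hS.sum c hc' d hd hcd
  have : k₁ = k := (hS.eq k hk k₁ hk₁).1 (by rw [hx', ← hxk', hD.pairing_self k hk])
  subst this
  obtain ⟨-, hadd, hadd'⟩ := S.psi_props hD hS hp hc hPC hc' hd hk₁ hT' hcd hx'
  have swap : ∀ ε : F, ∀ t u : F,
      (S.pair hp c d 1 (ε * (t * u)))⁻¹ = S.pair hp c d (-ε * (t * u)) 1 := by
    intro ε t u
    rw [hbal hc' hd hcd 1, one_mul]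
    refine inv_eq_of_mul_eq_one_right ?_
    have h0 : S.pair hp c d 0 1 = 1 := (left_eq_mul (a := S.pair hp c d 0 1) (b := S.pair hp c d 0 1)).mp
      (by rw [← hadd, add_zero])
    rw [← hadd, neg_mul, add_neg_cancel, h0]
  have anti : ∀ q w t u, S.pair hp q w t u = (S.pair hp w q u t)⁻¹ := fun q w t u => by
    simp only [Sys.pair]; group
  have hak : D.pairing a k₁ = 1 := by rw [hxk, hD.pairing_self a ha, hab]; norm_num
  have hbk : D.pairing b k₁ = 1 := by rw [hxk, hS.symm b hb a ha, hab, hD.pairing_self b hb]; norm_num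
  have e := hxk' a
  rw [hak] at e
  have r1 := hS.range a ha c hc'
  have r2 := hS.range a ha d hd
  -- the step from one summand to an adjacent decomposition
  have step : ∀ c d : ℕ, c < D.nroots → d < D.nroots → D.pairing c d = -1 →
      (∀ x, D.pairing x k₁ = D.pairing x c + D.pairing x d) → D.pairing a c = 1 →
      ∃ ε : F, ∀ t u, S.pair hp a b t u = S.pair hp c d 1 (ε * (t * u)) := by
    intro c d hc' hd hcd hxk' hac
    obtain ⟨q, hq, -, -, -, hxq⟩ := hS.sum a ha _ (hD.neg_lt c hc') (by rw [hD.pairing_neg_right _ hc', hac])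
    simp only [hD.pairing_neg_right _ hc'] at hxq
    have hcq : D.pairing c q = -1 := by rw [hxq, hS.symm c hc' a ha, hac, hD.pairing_self c hc']; norm_num
    obtain ⟨a', ha', C₁, hC₁, hT₁, hxa⟩ := hS.sum c hc' q hq hcq
    have : a' = a := (hS.eq a ha a' ha').1 (by rw [hxa, hxq, hD.pairing_self a ha]; ring)
    subst this
    have hck : D.pairing c k₁ = 1 := by rw [hxk', hD.pairing_self c hc', hcd]; norm_num
    have hcb : D.pairing c b = 0 := by
      have := hxk c
      rw [hck, hS.symm c hc' a' ha, hac] at this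
      omega
    have hqb : D.pairing q b = -1 := by
      rw [hS.symm q hq b hb, hxq, hS.symm b hb a' ha, hab, hS.symm b hb c hc', hcb]; norm_num
    obtain ⟨d', hd', C₂, -, hT₂, hxd⟩ := hS.sum q hq b hb hqb
    have : d' = d := (hS.eq d hd d' hd').1 (by
      have := hxk' d
      rw [hxk d, hD.pairing_self d hd] at this
      rw [hxd, hxq]
      omega)
    subst this
    refine ⟨(C₂ : F) * (C₁ : F), fun t u => ?_⟩
    have hC : (C₁ : F) * (C₁ : F) = 1 := by rcases hC₁ with h | h <;> simp [h]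
    have h := S.psi_chain hD hS hp hc hPC hc' hq hb ha hd hT₁ hcq hxa hT₂ hqb hxd hcb 1 ((C₁ : F) * t) u
    rw [one_mul, ← mul_assoc, hC, one_mul] at h
    rw [h]
    congr 1
    ring
  by_cases e1 : D.pairing a c = 2
  · obtain rfl := (hS.eq a ha c hc').1 e1
    have hdb : d = b := (hS.eq b hb d hd).1 (by
      have := hxk' b
      rw [hbk, hS.symm b hb c ha, hab] at this
      omega)
    subst hdb
    exact ⟨1, fun t u => by rw [one_mul, hbal ha hb hab]⟩
  by_cases e2 : D.pairing a d = 2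
  · obtain rfl := (hS.eq a ha d hd).1 e2
    have hcb : c = b := (hS.eq b hb c hc').1 (by
      have := hxk' b
      rw [hbk, hS.symm b hb d ha, hab] at this
      omega)
    subst hcb
    refine ⟨-1, fun t u => ?_⟩
    rw [anti, hbal hc' hd hcd u t, ← swap 1 t u, hbal hc' hd hcd 1, one_mul, one_mul, mul_comm u t]
  by_cases e3 : D.pairing a c = 1
  · obtain ⟨ε, hε⟩ := step c d hc' hd hcd hxk' e3
    exact ⟨ε, fun t u => by rw [hε, hbal hc' hd hcd, one_mul]⟩
  · obtain ⟨ε, hε⟩ := step d c hd hc' (by rw [hS.symm d hd c hc', hcd]) (fun x => by rw [hxk' x, add_comm])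
      (by omega)
    refine ⟨-ε, fun t u => ?_⟩
    rw [hε, anti, hbal hc' hd hcd, mul_one, ← swap ε t u, hbal hc' hd hcd 1, one_mul]

include h3 hself in
/-- Lifts of the root elements satisfying all relations. -/
theorem sl_lift : ∃ y : ℕ → F → L, (∀ r t, D.nroots ≤ r → y r t = 1) ∧ (∀ r t, p (y r t) = S.x r t) ∧
    (∀ r t u, y r (t + u) = y r t * y r u) ∧
    ∀ r s, r < D.nroots → s < D.nroots → s ≠ r → s ≠ D.neg r → ∀ t u : F,
      y s u * y r t = y r t * y s u * ((D.commWord F r s t u).map fun z => y z.1 z.2).prod := by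
  classical
  have hdec : ∀ k : Fin D.nroots, ∃ a < D.nroots, ∃ b < D.nroots, ∃ C : ℤ, (C = 1 ∨ C = -1) ∧
      D.commTerms a b = [(k.val, C, 1, 1)] ∧ D.pairing a b = -1 ∧
      ∀ x, D.pairing x k = D.pairing x a + D.pairing x b := by
    rintro ⟨k, hk⟩
    obtain ⟨a, ha, hka⟩ := hself k hk
    obtain ⟨b, hb, -, -, -, hxb⟩ := hS.sum k hk _ (hD.neg_lt a ha) (by rw [hD.pairing_neg_right _ ha, hka])
    simp only [hD.pairing_neg_right _ ha] at hxb
    have hab : D.pairing a b = -1 := by rw [hxb, hS.symm a ha k hk, hka, hD.pairing_self a ha]; norm_num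
    obtain ⟨k', hk', C, hC, hT, hx⟩ := hS.sum a ha b hb hab
    have : k' = k := (hS.eq k hk k' hk').1 (by rw [hx, hxb, hD.pairing_self k hk]; ring)
    subst this
    exact ⟨a, ha, b, hb, C, hC, hT, hab, hx⟩
  choose A hA B hB C hC hT hP hx using hdec
  let y : ℕ → F → L := fun k w =>
    if h : k < D.nroots then S.pair hp (A ⟨k, h⟩) (B ⟨k, h⟩) ((C ⟨k, h⟩ : F) * w) 1 else 1
  have hy : ∀ k (h : k < D.nroots) w, y k w = S.pair hp (A ⟨k, h⟩) (B ⟨k, h⟩) ((C ⟨k, h⟩ : F) * w) 1 :=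
    fun k h w => dif_pos h
  have hout : ∀ r t, D.nroots ≤ r → y r t = 1 := fun r t h => dif_neg (not_lt.2 h)
  have hC2 : ∀ k, ((C k : F)) * (C k : F) = 1 := fun k => by rcases hC k with h | h <;> simp [h]
  have hprop := fun k => S.psi_props hD hS hp hc hPC (hA k) (hB k) k.isLt (hT k) (hP k) (hx k)
  have hpy : ∀ r t, p (y r t) = S.x r t := fun r t => by
    by_cases h : r < D.nroots
    · rw [hy r h, (hprop ⟨r, h⟩).1, mul_one, ← mul_assoc, hC2, one_mul]
    · rw [hout r t (not_lt.1 h), map_one, S.x_out r t (not_lt.1 h)]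
  have hadd : ∀ r t u, y r (t + u) = y r t * y r u := fun r t u => by
    by_cases h : r < D.nroots
    · rw [hy r h, hy r h, hy r h, mul_add, (hprop ⟨r, h⟩).2.1]
    · rw [hout r _ (not_lt.1 h), hout r _ (not_lt.1 h), hout r _ (not_lt.1 h), one_mul]
  refine ⟨y, hout, hpy, hadd, fun r s hr hs h₁ h₂ t u => ?_⟩
  have hrange := hS.range r hr s hs
  have ne2 : D.pairing r s ≠ 2 := fun e => h₁ ((hS.eq r hr s hs).1 e)
  have ne2' : D.pairing r s ≠ -2 := fun e => h₂ ((hS.eq r hr s hs).2 e)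
  by_cases hneg : D.pairing r s = -1
  swap
  · rw [ChevalleyDatum.commWord, hS.nil r hr s hs (by omega)]
    simp only [List.map_nil, List.prod_nil, mul_one]
    exact (hPC r hr s hs (by omega) t u _ _ (hpy r t) (hpy s u)).symm
  obtain ⟨k, hk, C', -, hT', hxk⟩ := hS.sum r hr s hs hneg
  obtain ⟨ε, hε⟩ := S.psi_indep hD hS hp hc hPC h3 hr hs (hA ⟨k, hk⟩) (hB ⟨k, hk⟩) hk hneg (hP ⟨k, hk⟩) hxk
    (hx ⟨k, hk⟩)
  have key : ∀ v w, S.pair hp r s v w = y k ((C' : F) * (v * w)) := by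
    have h' : ∀ v w, S.pair hp r s v w = y k ((C ⟨k, hk⟩ : F) * ε * (v * w)) := fun v w => by
      rw [hy k hk, hε]
      congr 1
      linear_combination -(ε * (v * w)) * hC2 ⟨k, hk⟩
    have h1 : (C ⟨k, hk⟩ : F) * ε = (C' : F) := by
      refine S.x_param_inj hD hk ?_
      have := congrArg p (h' 1 1)
      rw [hpy, (S.psi_props hD hS hp hc hPC hr hs hk hT' hneg hxk).1] at this
      simpa using this.symm
    intro v w
    rw [h', h1]
  have h0 : ∀ r, y r 0 = 1 := fun r => (left_eq_mul (a := y r 0) (b := y r 0)).mp (by rw [← hadd, add_zero])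
  have hW : ((D.commWord F r s t u).map fun z => y z.1 z.2).prod =
      y r (-t) * y s u * (y r (-t))⁻¹ * (y s u)⁻¹ := by
    rw [S.pair_eq hp hc (hpy r (-t)) (hpy s u), key]
    simp [ChevalleyDatum.commWord, hT', mul_assoc]
  have hcm : ((D.commWord F r s t u).map fun z => y z.1 z.2).prod * y s u =
      y s u * ((D.commWord F r s t u).map fun z => y z.1 z.2).prod := by
    refine hPC k hk s hs ?_ ((C' : F) * (-t * u)) u _ _ ?_ (hpy s u)
    · rw [hS.symm k hk s hs, hxk, hS.symm s hs r hr, hneg, hD.pairing_self s hs]; norm_num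
    · simp [ChevalleyDatum.commWord, hT', hpy, mul_assoc]
  have hinv : (y r (-t))⁻¹ = y r t := inv_eq_of_mul_eq_one_right (by rw [← hadd, neg_add_cancel, h0])
  calc y s u * y r t = y r t * (y r (-t) * y s u * y r t * (y s u)⁻¹ * y s u) := by
        rw [← hinv]; group
    _ = y r t * (((D.commWord F r s t u).map fun z => y z.1 z.2).prod * y s u) := by rw [hW, hinv]
    _ = _ := by rw [hcm, mul_assoc]

end Sys

variable {D : ChevalleyDatum} {F : Type*} [Field F] (hD : Good D) (hS : SLRoots D) (h3 : ∀ r < D.nroots, Dec3 D r)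
  (hself : ∀ k < D.nroots, ∃ a < D.nroots, D.pairing k a = 1)
include hD hS h3 hself

/-- A central extension with commuting preimages for the pairs with ⟨r,s⟩ ≥ 0 splits. -/
theorem sl_section {L : Type*} [Group L] (p : L →* D.SteinbergCover F) (hp : Function.Surjective p)
    (hc : p.ker ≤ Subgroup.center L)
    (hθ : ∀ (r : ℕ) (t : F), r < D.nroots →
      ((covHom F hD (D.scGen F r t) : GL D.Idx F) : Matrix D.Idx D.Idx F) = D.x F r t)
    (hPC : ∀ r < D.nroots, ∀ s < D.nroots, 0 ≤ D.pairing r s →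
      Sys.PairComm (presSys F (D.steinbergRelsAB F) subset_rfl (covHom F hD) hθ) p r s) :
    ∃ s : D.SteinbergCover F →* L, p.comp s = MonoidHom.id _ := by
  obtain ⟨y, hout, hpy, hadd, hrel⟩ :=
    (presSys F (D.steinbergRelsAB F) subset_rfl (covHom F hD) hθ).sl_lift hD hS hp hc hPC h3 hself
  obtain ⟨f, hf⟩ := exists_coverHom (D := D) y hout hadd hrel
  refine ⟨f, PresentedGroup.ext fun z => ?_⟩
  have h1 : (PresentedGroup.of z : D.SteinbergCover F) = D.scGen F z.1.val z.2 := by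
    rw [ChevalleyDatum.scGen, ChevalleyDatum.stX, dif_pos z.1.isLt]; rfl
  rw [MonoidHom.comp_apply, MonoidHom.id_apply, h1, hf, hpy]
  rfl

end Cfsg.Agent.ChevSt
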