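/-
Steinberg presentations, part 12: over a finite field (R3) follows from (R1), (R2).

* `Sys.h_mul_simple`, `Sys.h_mul`: h̄_r(a) h̄_r(b) = h̄_r(ab).
* `cover_equiv`: the covering group is the presented group.
-/
import Cfsg.Agent.Lib.ChevSt.Centre
import Cfsg.Agent.Lib.ChevSt.SymbolTrivial

set_option autoImplicit false

namespace Cfsg.Agent.ChevSt

open Cfsg.Lie Cfsg.Lie.ChevalleyDatum Cfsg.Agent.Chev Cfsg.Agent.ChevBN

variable {D : ChevalleyDatum} {F : Type*} [Field F] [Finite F] (hD : Good D) {M : List (List ℤ)} {d : ℤ}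
  (hR : Roots D M d)

namespace Sys

variable {E : Type*} [Group E] (S : Sys D F E)
  (hX : ∀ i < D.rank, Decomp D (D.simple i) ∧ Decomp D (D.neg (D.simple i)))
  (hgen : Subgroup.closure {g | ∃ r t, g = S.x r t} = ⊤)
include hD hR hX hgen

theorem h_mul_simple {i : ℕ} (hi : i < D.rank) {a b : F} (ha : a ≠ 0) (hb : b ≠ 0) :
    S.h (D.simple i) a * S.h (D.simple i) b = S.h (D.simple i) (a * b) := by
  have hr := hD.simple_lt i hi
  have hw : ∀ t, wEl (S.x (D.simple i)) (S.x (D.neg (D.simple i))) t = S.n (D.simple i) t := fun _ => rfl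
  have hh : ∀ t, hEl (S.x (D.simple i)) (S.x (D.neg (D.simple i))) t = S.h (D.simple i) t := fun _ => rfl
  have R : RankOne (S.x (D.simple i)) (S.x (D.neg (D.simple i))) := by
    refine ⟨fun a b => S.add _ a b, fun a b => S.add _ a b, fun t v ht => ?_, fun t v ht => ?_, fun a b ha hb => ?_⟩
    · rw [hw, S.n_conj hD hR hX hi hr ht, show wN D i (D.simple i) = D.neg (D.simple i) by simp [wN, Chev.refl],
        show nSign D (D.simple i) (D.simple i) = -1 by simp [nSign], hD.pairing_self _ hr]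
      congr 1
      push_cast
      rw [_root_.zpow_neg, show (2 : ℤ) = ((2 : ℕ) : ℤ) by norm_num, zpow_natCast, inv_pow]
      ring
    · rw [hw, S.n_conj hD hR hX hi (hD.neg_lt _ hr) ht,
        show wN D i (D.neg (D.simple i)) = D.simple i by simp [wN, Chev.refl, hD.neg_ne _ hr, hD.neg_neg _ hr],
        show nSign D (D.simple i) (D.neg (D.simple i)) = -1 by simp [nSign, hD.neg_ne _ hr],
        hD.pairing_neg_right _ hr, hD.pairing_self _ hr, _root_.neg_neg]
      congr 1
      push_cast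
      rw [show (2 : ℤ) = ((2 : ℕ) : ℤ) by norm_num, zpow_natCast]
      ring
    · rw [hh, hh, hh]
      refine S.ker_le_center hD hR hX hgen ?_
      rw [MonoidHom.mem_ker, map_mul, map_mul, map_inv, S.th_h hD, S.th_h hD, S.th_h hD, mul_inv_eq_one]
      apply Units.ext
      rw [Units.val_mul, coe_hg, coe_hg, coe_hg, hMat_eq_diag hD hr ha, hMat_eq_diag hD hr hb,
        hMat_eq_diag hD hr (mul_ne_zero ha hb), dg, dg, dg, Matrix.diagonal_mul_diagonal]
      congr 1
      ext z
      rcases z with j | s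
      · simp
      · simp [mul_zpow]
  simpa [hh] using R.hEl_mul ha hb

theorem h_mul {r : ℕ} (hr : r < D.nroots) {a b : F} (ha : a ≠ 0) (hb : b ≠ 0) :
    S.h r a * S.h r b = S.h r (a * b) := by
  have step : ∀ i < D.rank, ∀ q < D.nroots,
      (∀ a b : F, a ≠ 0 → b ≠ 0 → S.h q a * S.h q b = S.h q (a * b)) →
      ∀ a b : F, a ≠ 0 → b ≠ 0 → S.h (wN D i q) a * S.h (wN D i q) b = S.h (wN D i q) (a * b) := by
    intro i hi q hq ih
    have hs := hD.simple_lt i hi
    set m := S.n (D.simple i) 1 with hm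
    set e : F := (nSign D (D.simple i) q : F) with he
    have he2 : e * e = 1 ∧ (nSign D (D.simple i) (D.neg q) : F) = e := by
      obtain ⟨h1, h2⟩ := nSign_cases hD hs hq
      rcases h1 with h | h <;> rw [h] at h2
      · exact ⟨by simp [he, h], by rw [he, h]; rw [one_mul] at h2; rw [h2]⟩
      · exact ⟨by simp [he, h], by rw [he, h, show nSign D (D.simple i) (D.neg q) = -1 by omega]⟩
    have hn : ∀ t : F, m * S.n q t * m⁻¹ = S.n (wN D i q) (e * t) := by
      intro t
      rw [show m * S.n q t * m⁻¹ = (m * S.x q t * m⁻¹) * (m * S.x (D.neg q) (-t⁻¹) * m⁻¹) * (m * S.x q t * m⁻¹) by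
        rw [n]; group, hm, S.n_conj hD hR hX hi hq one_ne_zero, S.n_conj hD hR hX hi (hD.neg_lt q hq) one_ne_zero,
        one_zpow, one_zpow, mul_one, mul_one, hR.refl_neg hD hi hq, he2.2, ← he, n]
      congr 3
      rw [mul_inv, inv_eq_of_mul_eq_one_right he2.1, mul_neg]
    set f : F → E := fun t => S.h (wN D i q) (e * t) * (S.h (wN D i q) e)⁻¹ with hf
    have hfe : ∀ t, m * S.h q t * m⁻¹ = f t := by
      intro t
      rw [show m * S.h q t * m⁻¹ = (m * S.n q t * m⁻¹) * (m * S.n q (-1) * m⁻¹) by rw [h]; group, hn, hn, hf,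
        n_mul_eq, mul_neg_one, _root_.neg_neg]
    have hfm : ∀ a b : F, a ≠ 0 → b ≠ 0 → f a * f b = f (a * b) := fun a b ha hb => by
      rw [← hfe, ← hfe, ← hfe, ← ih a b ha hb]; group
    have hh1 : S.h (wN D i q) 1 = 1 := by
      rw [h, show S.n (wN D i q) (-1) = (S.n (wN D i q) 1)⁻¹ from (S.n_inv _ _).symm, mul_inv_cancel]
    have he0 : e ≠ 0 := left_ne_zero_of_mul (he2.1.trans_ne one_ne_zero)
    have hfh : ∀ t : F, t ≠ 0 → S.h (wN D i q) t = f t := by
      intro t ht
      have h1 : f e = (S.h (wN D i q) e)⁻¹ := by simp only [hf]; rw [he2.1, hh1, one_mul]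
      have h2 : S.h (wN D i q) t = f (e * t) * (f e)⁻¹ := by
        rw [h1, inv_inv]; simp only [hf]; rw [← mul_assoc e, he2.1, one_mul, inv_mul_cancel_right]
      rw [h2, mul_inv_eq_iff_eq_mul, hfm t e ht he0, mul_comm]
    intro a b ha hb
    rw [hfh a ha, hfh b hb, hfh _ (mul_ne_zero ha hb), hfm a b ha hb]
  have key : ∀ q, q < D.nroots → D.IsPosRoot q →
      (∀ a b : F, a ≠ 0 → b ≠ 0 → S.h q a * S.h q b = S.h q (a * b)) ∧
      (∀ a b : F, a ≠ 0 → b ≠ 0 → S.h (D.neg q) a * S.h (D.neg q) b = S.h (D.neg q) (a * b)) := by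
    intro q hq hp
    refine hR.pos_induction hD (P := fun q => (∀ a b : F, a ≠ 0 → b ≠ 0 → S.h q a * S.h q b = S.h q (a * b)) ∧
      (∀ a b : F, a ≠ 0 → b ≠ 0 → S.h (D.neg q) a * S.h (D.neg q) b = S.h (D.neg q) (a * b))) ?_ ?_ hq hp
    · intro i hi
      have h1 := fun a b (ha : a ≠ 0) (hb : b ≠ 0) => S.h_mul_simple hD hR hX hgen hi (a := a) (b := b) ha hb
      refine ⟨h1, ?_⟩
      have := step i hi _ (hD.simple_lt i hi) h1
      rwa [show wN D i (D.simple i) = D.neg (D.simple i) by simp [wN, Chev.refl]] at this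
    · intro i hi q hq ⟨h1, h2⟩
      refine ⟨step i hi q hq h1, ?_⟩
      rw [← hR.refl_neg hD hi hq]
      exact step i hi _ (hD.neg_lt q hq) h2
  by_cases hp : D.IsPosRoot r
  · exact (key r hr hp).1 a b ha hb
  · have := (key _ (hD.neg_lt r hr) ((pos_or_neg hD hr).2 hp)).2 a b ha hb
    rwa [hD.neg_neg r hr] at this

end Sys

include hD hR in
theorem cover_equiv (hX : ∀ i < D.rank, Decomp D (D.simple i) ∧ Decomp D (D.neg (D.simple i))) :
    ∃ e : D.SteinbergCover F ≃* D.SteinbergGroup F, ∀ (r : ℕ) (t : F), e (D.scGen F r t) = D.stGen F r t := by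
  set hθ : ∀ (r : ℕ) (t : F), r < D.nroots →
      ((covHom F hD (D.scGen F r t) : GL D.Idx F) : Matrix D.Idx D.Idx F) = D.x F r t :=
    fun r t _ => by rw [covHom_gen, coe_xg]
  set S := presSys F (D.steinbergRelsAB F) subset_rfl (covHom F hD) hθ with hS
  have hgen := presSys_gen F (D.steinbergRelsAB F) subset_rfl (covHom F hD) hθ
  have hlift : FreeGroup.lift (fun p => (PresentedGroup.of p : D.SteinbergCover F)) =
      PresentedGroup.mk (D.steinbergRelsAB F) := FreeGroup.ext_hom _ _ fun p => by rw [FreeGroup.lift_apply_of]; rfl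
  have hrel : ∀ g ∈ D.steinbergRels F,
      FreeGroup.lift (fun p => (PresentedGroup.of p : D.SteinbergCover F)) g = 1 := by
    rw [hlift]
    rintro g (hg | ⟨r, t, u, hr, ht, hu, rfl⟩)
    · exact PresentedGroup.one_of_mem hg
    · rw [map_mul, map_mul, map_inv, mul_inv_eq_one, ← presSys_h F _ subset_rfl _ hθ, ← presSys_h F _ subset_rfl _ hθ,
        ← presSys_h F _ subset_rfl _ hθ]
      exact Sys.h_mul hD hR S hX hgen hr ht hu
  have hlift' : FreeGroup.lift (fun p => (PresentedGroup.of p : D.SteinbergGroup F)) =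
      PresentedGroup.mk (D.steinbergRels F) := FreeGroup.ext_hom _ _ fun p => by rw [FreeGroup.lift_apply_of]; rfl
  have hrel' : ∀ g ∈ D.steinbergRelsAB F,
      FreeGroup.lift (fun p => (PresentedGroup.of p : D.SteinbergGroup F)) g = 1 := by
    rw [hlift']
    exact fun g hg => PresentedGroup.one_of_mem (Or.inl hg)
  let a : D.SteinbergCover F →* D.SteinbergGroup F := PresentedGroup.toGroup hrel'
  let b : D.SteinbergGroup F →* D.SteinbergCover F := PresentedGroup.toGroup hrel
  have h1 : b.comp a = MonoidHom.id _ := PresentedGroup.ext fun p => by simp [a, b]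
  have h2 : a.comp b = MonoidHom.id _ := PresentedGroup.ext fun p => by simp [a, b]
  refine ⟨MonoidHom.toMulEquiv a b h1 h2, fun r t => ?_⟩
  show FreeGroup.lift (fun p => (PresentedGroup.of p : D.SteinbergGroup F)) (D.stX r t) = _
  rw [hlift']
  rfl

end Cfsg.Agent.ChevSt
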