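/-
Steinberg presentations, part 19: Schur multipliers from split covering groups.

* `lift_of_split`, `hasCyclic_of_lifts`.
* `finite_cover`: the covering group of a finite field is finite.
* `multiplier_steinberg`, `multiplier_group`: multipliers of the presented and of the Chevalley group.
-/
import Cfsg.Agent.Lib.ChevSt.FiniteR3
import Cfsg.Agent.Lib.ChevSt.Cards
import Cfsg.Agent.Lib.ChevBN.Facts
import Cfsg.Prelude.Def_KGroupFacts

set_option autoImplicit false

universe u v

namespace Cfsg.Agent.ChevSt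

open Cfsg.Lie Cfsg.Lie.ChevalleyDatum Cfsg.Agent.Chev Cfsg.Agent.ChevBN

/-- Every central extension of the group splits. -/
def Splits (Δ : Type u) [Group Δ] : Prop :=
  ∀ (L : Type u) [Group L] (p : L →* Δ), Function.Surjective p → p.ker ≤ Subgroup.center L →
    ∃ s : Δ →* L, p.comp s = MonoidHom.id _

theorem lift_of_split {Δ G Γ : Type u} [Group Δ] [Group G] [Group Γ] (hsplit : Splits Δ) (θ : Δ →* G) (σ : Γ →* G)
    (hσ : Function.Surjective σ) (hc : σ.ker ≤ Subgroup.center Γ) : ∃ f : Δ →* Γ, σ.comp f = θ := by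
  let P : Subgroup (Δ × Γ) := (θ.comp (MonoidHom.fst Δ Γ)).eqLocus (σ.comp (MonoidHom.snd Δ Γ))
  let p : P →* Δ := (MonoidHom.fst _ _).comp P.subtype
  have hp : Function.Surjective p := fun a => by
    obtain ⟨b, hb⟩ := hσ (θ a)
    exact ⟨⟨(a, b), hb.symm⟩, rfl⟩
  have hcp : p.ker ≤ Subgroup.center P := by
    rintro ⟨⟨a, b⟩, hab⟩ hk
    have ha : a = 1 := hk
    subst ha
    have hb : b ∈ σ.ker := ((hab : θ 1 = σ b).symm.trans (map_one θ))
    rw [Subgroup.mem_center_iff]
    rintro ⟨⟨c, d⟩, -⟩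
    exact Subtype.ext (Prod.ext (by simp) (Subgroup.mem_center_iff.1 (hc hb) d))
  obtain ⟨s, hs⟩ := hsplit P p hp hcp
  exact ⟨((MonoidHom.snd _ _).comp P.subtype).comp s, MonoidHom.ext fun a =>
    ((s a).2 : θ _ = σ _).symm.trans (congrArg θ (DFunLike.congr_fun hs a))⟩

theorem hasCyclic_of_lifts {Δ G : Type u} [Group Δ] [Group G] [Finite Δ] (θ : Δ →* G) (hθ : Function.Surjective θ)
    (hc : θ.ker ≤ Subgroup.center Δ) (hperf : commutator Δ = ⊤) (hsplit : Splits Δ) {n : ℕ}
    (hcyc : IsCyclic θ.ker) (hn : Nat.card θ.ker = n) : HasCyclicSchurMultiplier G n := by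
  subst hn
  let e : Multiplicative (ZMod (Nat.card θ.ker)) ≃* θ.ker := zmodCyclicMulEquiv hcyc
  refine ⟨⟨Δ, inferInstance, inferInstance, θ, ⟨hθ, hc, by rw [hperf]; exact le_top⟩, ⟨e.symm⟩⟩, ?_⟩
  rintro Γ _ _ σ ⟨hσ, hcσ, hσc⟩
  obtain ⟨f, hf⟩ := lift_of_split hsplit θ σ hσ hcσ
  have hdec : ∀ g : Γ, ∃ d, (f d)⁻¹ * g ∈ σ.ker := fun g => by
    obtain ⟨d, hd⟩ := hθ (σ g)
    exact ⟨d, by rw [MonoidHom.mem_ker, map_mul, map_inv, ← MonoidHom.comp_apply, hf, hd, inv_mul_cancel]⟩
  have hle : commutator Γ ≤ f.range := by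
    rw [commutator_eq_closure, Subgroup.closure_le]
    rintro _ ⟨a, b, rfl⟩
    obtain ⟨x, hx⟩ := hdec a
    obtain ⟨y, hy⟩ := hdec b
    refine ⟨x * y * x⁻¹ * y⁻¹, ?_⟩
    have hk := Subgroup.mem_center_iff.1 (hcσ hx)
    have hl := Subgroup.mem_center_iff.1 (hcσ hy)
    rw [commutatorElement_def, map_mul, map_mul, map_mul, map_inv, map_inv]
    obtain ⟨k, hk', rfl⟩ : ∃ k, k ∈ σ.ker ∧ a = f x * k := ⟨_, hx, (mul_inv_cancel_left _ _).symm⟩
    obtain ⟨l, hl', rfl⟩ : ∃ l, l ∈ σ.ker ∧ b = f y * l := ⟨_, hy, (mul_inv_cancel_left _ _).symm⟩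
    symm
    calc f x * k * (f y * l) * (f x * k)⁻¹ * (f y * l)⁻¹
        = f x * (k * f y) * l * k⁻¹ * (f x)⁻¹ * l⁻¹ * (f y)⁻¹ := by group
      _ = f x * (f y * k) * l * k⁻¹ * (f x)⁻¹ * l⁻¹ * (f y)⁻¹ := by
          rw [Subgroup.mem_center_iff.1 (hcσ hk') (f y)]
      _ = f x * f y * (k * l) * k⁻¹ * (f x)⁻¹ * l⁻¹ * (f y)⁻¹ := by group
      _ = f x * f y * (l * (f x)⁻¹) * l⁻¹ * (f y)⁻¹ := by
          rw [Subgroup.mem_center_iff.1 (hcσ hl') k]; group
      _ = _ := by rw [← Subgroup.mem_center_iff.1 (hcσ hl') ((f x)⁻¹)]; group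
  let g : θ.ker →* σ.ker := (f.comp θ.ker.subtype).codRestrict σ.ker fun k => by
    rw [MonoidHom.mem_ker, ← MonoidHom.comp_apply, ← MonoidHom.comp_assoc, hf]
    exact k.2
  refine ⟨g.comp e.toMonoidHom, fun z => ?_⟩
  obtain ⟨d, hd⟩ := hle (hσc z.2)
  have hdk : d ∈ θ.ker := by rw [MonoidHom.mem_ker, ← hf, MonoidHom.comp_apply, hd]; exact z.2
  refine ⟨e.symm ⟨d, hdk⟩, ?_⟩
  rw [MonoidHom.comp_apply, MulEquiv.coe_toMonoidHom, e.apply_symm_apply]
  exact Subtype.ext hd

theorem splits_of_equiv {Δ Δ' : Type u} [Group Δ] [Group Δ'] (e : Δ ≃* Δ') (h : Splits Δ) : Splits Δ' := by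
  intro L _ p hp hc
  obtain ⟨f, hf⟩ := lift_of_split h e.toMonoidHom p hp hc
  exact ⟨f.comp e.symm.toMonoidHom, MonoidHom.ext fun a => by
    rw [MonoidHom.comp_apply, MonoidHom.comp_apply, ← MonoidHom.comp_apply, hf, MulEquiv.coe_toMonoidHom,
      MulEquiv.coe_toMonoidHom, e.apply_symm_apply, MonoidHom.id_apply]⟩

variable {D : ChevalleyDatum} {F : Type u} [Field F] (hD : Good D) {M : List (List ℤ)} {d : ℤ} (hR : Roots D M d)
  (hX : ∀ i < D.rank, Decomp D (D.simple i) ∧ Decomp D (D.neg (D.simple i)))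
include hD hR hX

theorem finite_steinberg [Finite F] : Finite (D.SteinbergGroup F) := by
  classical
  haveI : Fintype F := Fintype.ofFinite F
  have hgen := stSys_gen (F := F) hD
  have hker := (stSys (F := F) hD).ker_eq_map hD hR hX (stSys_mul hD) hgen
  haveI : Finite (stSys (F := F) hD).th.ker := by
    rw [hker]
    exact Finite.of_surjective _ (MonoidHom.subgroupMap_surjective _ _)
  haveI : Finite (D.SteinbergGroup F ⧸ (stSys (F := F) hD).th.ker) :=
    Finite.of_equiv _ (QuotientGroup.quotientKerEquivRange (stSys (F := F) hD).th).symm.toEquiv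
  exact Finite.of_subgroup_quotient (stSys (F := F) hD).th.ker

theorem finite_cover [Finite F] : Finite (D.SteinbergCover F) := by
  obtain ⟨e, -⟩ := cover_equiv (F := F) hD hR hX
  haveI := finite_steinberg (F := F) hD hR hX
  exact Finite.of_equiv _ e.symm.toEquiv

/-- The presented group of a finite field has trivial multiplier when the covering group splits. -/
theorem multiplier_steinberg [Finite F] (hperf : commutator (D.SteinbergCover F) = ⊤)
    (hsplit : Splits (D.SteinbergCover F)) : HasCyclicSchurMultiplier (D.SteinbergGroup F) 1 := by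
  obtain ⟨e, -⟩ := cover_equiv (F := F) hD hR hX
  haveI := finite_cover (F := F) hD hR hX
  have hk : e.toMonoidHom.ker = ⊥ := (MonoidHom.ker_eq_bot_iff _).2 e.injective
  have hcard : Nat.card e.toMonoidHom.ker = 1 := by rw [hk, Subgroup.card_bot]
  refine hasCyclic_of_lifts e.toMonoidHom e.surjective (by rw [hk]; exact bot_le) hperf hsplit ?_ hcard
  rw [hk]; infer_instance

/-- The multiplier of the Chevalley group is the centre of the presented group. -/
theorem multiplier_group [Finite F] (hperf : commutator (D.SteinbergCover F) = ⊤)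
    (hsplit : Splits (D.SteinbergCover F)) {n : ℕ} (hn : Nat.card (Subgroup.center (D.SteinbergGroup F)) = n)
    (hp : n = 1 ∨ n.Prime) : HasCyclicSchurMultiplier (D.group F) n := by
  obtain ⟨e, -⟩ := cover_equiv (F := F) hD hR hX
  obtain ⟨θ, hsur, hker, -⟩ := steinberg_center (F := F) hD hR hX
  haveI := finite_steinberg (F := F) hD hR hX
  have hperf' : commutator (D.SteinbergGroup F) = ⊤ := by
    have h := congrArg (Subgroup.map e.toMonoidHom) hperf
    rwa [commutator_def, Subgroup.map_commutator, Subgroup.map_top_of_surjective e.toMonoidHom e.surjective,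
      ← commutator_def] at h
  refine hasCyclic_of_lifts θ hsur hker.le hperf' (splits_of_equiv e hsplit) ?_ (by rw [hker, hn])
  rw [hker]
  rcases hp with rfl | hp
  · haveI : Subsingleton (Subgroup.center (D.SteinbergGroup F)) := (Nat.card_eq_one_iff_unique.1 hn).1
    exact isCyclic_of_subsingleton
  · haveI : Fact n.Prime := ⟨hp⟩
    exact isCyclic_of_prime_card hn

end Cfsg.Agent.ChevSt
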