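/-
Steinberg presentations, part 23: table facts for F4 and B2 over fields with three and four elements.
-/
import Cfsg.Agent.Lib.ChevSt.Extra

set_option autoImplicit false
set_option maxRecDepth 100000
set_option synthInstance.maxSize 4000

namespace Cfsg.Agent.ChevSt

open Cfsg.Lie Cfsg.Lie.ChevalleyDatum

/-- A root whose coroot character fixes s and moves r modulo m. -/
def fixB (D : ChevalleyDatum) (m : ℤ) (r s : ℕ) : Bool :=
  (List.range D.nroots).any fun g => decide (D.pairing g s % m = 0 ∧ D.pairing g r % m ≠ 0)

/-- A root whose coroot character moves r modulo m. -/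
def moveB (D : ChevalleyDatum) (m : ℤ) (r : ℕ) : Bool :=
  (List.range D.nroots).any fun g => decide (D.pairing g r % m ≠ 0)

/-- r commutes with two roots whose commutator is s alone, with a coefficient prime to 3. -/
def splitB (D : ChevalleyDatum) (r s : ℕ) : Bool :=
  (List.range D.nroots).any fun a =>
    match D.chainRoot (D.neg a) s 1 with
    | none => false
    | some b => match D.commTerms a b with
      | [(k, C, 1, 1)] => decide (k = s ∧ C % 3 ≠ 0 ∧ b < D.nroots ∧ b ≠ a ∧ b ≠ D.neg a ∧ a ≠ r ∧ b ≠ r ∧
          a ≠ D.neg r ∧ b ≠ D.neg r) && (D.commTerms r a).isEmpty && (D.commTerms r b).isEmpty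
      | _ => false

/-- The roots r and q commute in characteristic two. -/
def com2 (D : ChevalleyDatum) (r q : ℕ) : Bool :=
  decide (q ≠ r ∧ q ≠ D.neg r) && (D.commTerms r q).all fun τ => decide (τ.2.1 % 2 = 0)

/-- A decomposition of r in characteristic two all of whose roots commute with r. -/
def cen2B (D : ChevalleyDatum) (r : ℕ) : Bool :=
  (List.range D.nroots).any fun a => (List.range D.nroots).any fun b =>
    decide (b ≠ a ∧ b ≠ D.neg a) && com2 D r a && com2 D r b &&
      ((D.commTerms a b).countP (fun τ => τ.1 == r) == 1) &&
      ((D.commTerms a b).all fun τ =>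
        if τ.1 = r then decide ((τ.2.1 = 1 ∨ τ.2.1 = -1) ∧ (τ.2.2.1 = 1 ∨ τ.2.2.2 = 1))
        else decide (τ.1 < D.nroots) && com2 D r τ.1)

/-- All facts used for a field with four elements. -/
def q4B (D : ChevalleyDatum) : Bool :=
  ((List.range D.nroots).all fun r => moveB D 3 r && (List.range D.nroots).all fun s =>
      decide (s = r ∨ s = D.neg r) || fixB D 3 r s) &&
    (List.range D.rank).all fun i => cen2B D (D.simple i)

/-- All facts used for F4 over a field with three elements. -/
def q3B (D : ChevalleyDatum) : Bool :=
  (List.range D.nroots).all fun r => moveB D 2 r && (List.range D.nroots).all fun s =>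
    decide (s = r ∨ s = D.neg r) || fixB D 2 r s || ((D.commTerms r s).isEmpty && splitB D r s)

theorem q4B_F4 : q4B chevF4 = true := by decide +kernel
theorem q4B_B2 : q4B chevB2 = true := by decide +kernel
theorem q3B_F4 : q3B chevF4 = true := by decide +kernel

end Cfsg.Agent.ChevSt
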