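/-
Steinberg presentations, part 24: lifts over fields with three and four elements for two root lengths.

* `Sys.exists_acts_zpow`, `Sys.pair_eq_one_of_fix`, `Sys.commAll_prime`, `Sys.commAll_of_simple`.
* `Sys.lifting_four`: four elements; `Sys.lifting_three`: three elements with every root moved by the torus.
-/
import Cfsg.Agent.Lib.ChevSt.Universal
import Cfsg.Agent.Lib.ChevSt.SmallQTables

set_option autoImplicit false

namespace Cfsg.Agent.ChevSt

open Cfsg.Lie Cfsg.Lie.ChevalleyDatum Cfsg.Agent.Chev Cfsg.Agent.ChevBN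

theorem exists_unit_order {F : Type*} [Field F] [Finite F] {m : ℕ} (hq : Nat.card F = m + 1) :
    ∃ v : Fˣ, ∀ n : ℤ, v ^ n = 1 ↔ (m : ℤ) ∣ n := by
  obtain ⟨g, hg⟩ := IsCyclic.exists_generator (α := Fˣ)
  refine ⟨g, fun n => ?_⟩
  rw [← orderOf_dvd_iff_zpow_eq_one, orderOf_eq_card_of_forall_mem_zpowers hg, Nat.card_units, hq,
    Nat.add_sub_cancel]

namespace Sys

variable {D : ChevalleyDatum} {F : Type*} [Field F] {E : Type*} [Group E] (S : Sys D F E)
  (hD : Good D) {M : List (List ℤ)} {d : ℤ} (hR : Roots D M d)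
  (hX : ∀ i < D.rank, Decomp D (D.simple i) ∧ Decomp D (D.neg (D.simple i)))
  (hgen : Subgroup.closure {g | ∃ r t, g = S.x r t} = ⊤)
  {L : Type*} [Group L] {p : L →* E} (hp : Function.Surjective p) (hc : p.ker ≤ Subgroup.center L)

include hD hR hX in
theorem exists_fix_of_fixB {m : ℕ} {v : Fˣ} (hv : ∀ n : ℤ, v ^ n = 1 ↔ (m : ℤ) ∣ n) {r s : ℕ}
    (h : fixB D m r s = true) : ∃ g χ, S.Acts g χ ∧ χ s = 1 ∧ χ r ≠ 1 := by
  simp only [fixB, List.any_eq_true, decide_eq_true_eq] at h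
  obtain ⟨c, -, h1, h2⟩ := h
  obtain ⟨g, hg⟩ := S.exists_coroot_elem hD hR hX c v
  exact ⟨g, _, hg, (hv _).2 (Int.dvd_of_emod_eq_zero h1), fun e => h2 (Int.emod_eq_zero_of_dvd ((hv _).1 e))⟩

include hD hR hX in
theorem exists_move_of_moveB {m : ℕ} {v : Fˣ} (hv : ∀ n : ℤ, v ^ n = 1 ↔ (m : ℤ) ∣ n) {r : ℕ}
    (h : moveB D m r = true) : ∃ g χ, S.Acts g χ ∧ χ r ≠ 1 := by
  simp only [moveB, List.any_eq_true, decide_eq_true_eq] at h
  obtain ⟨c, -, h2⟩ := h
  obtain ⟨g, hg⟩ := S.exists_coroot_elem hD hR hX c v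
  exact ⟨g, _, hg, fun e => h2 (Int.emod_eq_zero_of_dvd ((hv _).1 e))⟩

include hc in
theorem pair_eq_one_of_fix {r q : ℕ} (hcm : ∀ t u, S.x r t * S.x q u = S.x q u * S.x r t)
    (hfix : ∃ g χ, S.Acts g χ ∧ χ q = 1 ∧ χ r ≠ 1) (t u : F) : S.pair hp r q t u = 1 := by
  obtain ⟨g, χ, hg, c1, c2⟩ := hfix
  have hne : ((χ r : F) - 1) ≠ 0 := sub_ne_zero.2 fun e => c2 (Units.ext e)
  have h := S.pair_acts hp hc hcm hg (t / ((χ r : F) - 1)) u
  rw [c1, Units.val_one, one_mul,
    show (χ r : F) * (t / ((χ r : F) - 1)) = t + t / ((χ r : F) - 1) by field_simp; ring,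
    S.pair_add_left hp hc hcm] at h
  exact mul_eq_right.1 h

include hc in
theorem comm_of_pair {r q : ℕ} {t u : F} (h : S.pair hp r q t u = 1) {A B : L} (hA : p A = S.x r t)
    (hB : p B = S.x q u) : A * B = B * A := by
  rw [← S.pair_eq hp hc hA hB, mul_inv_eq_one, mul_inv_eq_iff_eq_mul] at h
  exact h

include hD hR hX hp in
theorem commAll_of_simple (hc : p.ker ≤ Subgroup.center L) (base : ∀ i < D.rank, CommAll S p (D.simple i)) (r : ℕ) :
    CommAll S p r := by
  by_cases hr : r < D.nroots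
  swap
  · intro a b A B hA hB
    rw [S.x_out r a (not_lt.1 hr)] at hA
    exact (ker_comm hc (MonoidHom.mem_ker.2 hA) B).symm
  have key : ∀ q, q < D.nroots → D.IsPosRoot q → CommAll S p q ∧ CommAll S p (D.neg q) := by
    intro q hq hpq
    refine hR.pos_induction hD (P := fun q => CommAll S p q ∧ CommAll S p (D.neg q))
      (fun i hi => ⟨base i hi, ?_⟩) ?_ hq hpq
    · have := S.commAll_transport hD hR hX hp hi (hD.simple_lt i hi) (base i hi)
      rwa [show wN D i (D.simple i) = D.neg (D.simple i) by simp [wN, Chev.refl]] at this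
    · intro i hi q hq ⟨h1, h2⟩
      refine ⟨S.commAll_transport hD hR hX hp hi hq h1, ?_⟩
      rw [← hR.refl_neg hD hi hq]
      exact S.commAll_transport hD hR hX hp hi (hD.neg_lt q hq) h2
  by_cases hpos : D.IsPosRoot r
  · exact (key r hr hpos).1
  · have := (key _ (hD.neg_lt r hr) ((pos_or_neg hD hr).2 hpos)).2
    rwa [hD.neg_neg r hr] at this

theorem x_nsmul (r : ℕ) (t : F) : ∀ n : ℕ, S.x r (n • t) = S.x r t ^ n
  | 0 => by rw [zero_smul, S.x_zero, pow_zero]
  | n + 1 => by rw [succ_nsmul, S.add, x_nsmul r t n, pow_succ]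

include hp hc in
theorem commAll_prime (hpr : ∀ t : F, ∃ n : ℕ, t = n • 1) (r : ℕ) : CommAll S p r := by
  obtain ⟨Y, hY⟩ := hp (S.x r 1)
  have h : ∀ a A, p A = S.x r a → ∃ n : ℕ, ∃ k ∈ p.ker, A = Y ^ n * k := by
    intro a A hA
    obtain ⟨n, rfl⟩ := hpr a
    exact ⟨n, exists_ker_mul hc (by rw [map_pow, hY, hA, S.x_nsmul])⟩
  intro a b A B hA hB
  obtain ⟨n, k, hk, rfl⟩ := h a A hA
  obtain ⟨m, l, hl, rfl⟩ := h b B hB
  have e1 : Commute (Y ^ n) (Y ^ m) := Commute.pow_pow (Commute.refl Y) n m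
  have ck : ∀ v, Commute k v := fun v => (ker_comm hc hk v).symm
  have cl : ∀ v, Commute l v := fun v => (ker_comm hc hl v).symm
  exact ((e1.mul_right (cl _).symm).mul_left (ck _)).eq

/-- The root elements r and q commute in characteristic two. -/
theorem x_comm_two [CharP F 2] {r q : ℕ} (hr : r < D.nroots) (hq : q < D.nroots) (h : com2 D r q = true) (t u : F) :
    S.x r t * S.x q u = S.x q u * S.x r t := by
  simp only [com2, Bool.and_eq_true, decide_eq_true_eq, List.all_eq_true] at h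
  obtain ⟨⟨h₁, h₂⟩, h3⟩ := h
  rw [S.comm r q hr hq h₁ h₂ t u]
  have hone : ((D.commWord F r q t u).map fun z => S.x z.1 z.2).prod = 1 := by
    refine List.prod_eq_one fun g hg => ?_
    simp only [ChevalleyDatum.commWord, List.map_map, List.mem_map, Function.comp_apply] at hg
    obtain ⟨τ, hτ, rfl⟩ := hg
    have h0 : (τ.2.1 : F) = 0 := (CharP.intCast_eq_zero_iff F 2 _).2 (Int.dvd_of_emod_eq_zero (h3 τ hτ))
    rw [h0, zero_mul, zero_mul, S.x_zero]
  rw [hone, mul_one]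

include hD hR hX hp hc in
theorem commAll_cen2 [CharP F 2] (hfix : ∀ r < D.nroots, ∀ s < D.nroots, s ≠ r → s ≠ D.neg r →
      ∃ g χ, S.Acts g χ ∧ χ s = 1 ∧ χ r ≠ 1) {i : ℕ} (hi : i < D.rank) (h : cen2B D (D.simple i) = true) :
    CommAll S p (D.simple i) := by
  have hr := hD.simple_lt i hi
  set r := D.simple i
  simp only [cen2B, List.any_eq_true, List.mem_range, Bool.and_eq_true, decide_eq_true_eq, beq_iff_eq,
    List.all_eq_true] at h
  obtain ⟨a, ha, b, hb, ⟨⟨⟨⟨h5, h6⟩, hca⟩, hcb⟩, hcount⟩, hall⟩ := h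
  obtain ⟨τ, hτ, hτr⟩ : ∃ τ ∈ D.commTerms a b, τ.1 = r := by
    by_contra hne
    push Not at hne
    rw [List.countP_eq_zero.2 fun τ hτ => by simpa using hne τ hτ] at hcount
    exact zero_ne_one hcount
  obtain ⟨L₁, L₂, e⟩ := List.append_of_mem hτ
  have hunit : (τ.2.1 = 1 ∨ τ.2.1 = -1) ∧ (τ.2.2.1 = 1 ∨ τ.2.2.2 = 1) := by
    have := hall τ hτ
    simpa [hτr] using this
  have hσ : ∀ σ ∈ L₁ ++ L₂, σ.1 < D.nroots ∧ com2 D r σ.1 = true := by
    intro σ hσ
    have hne : σ.1 ≠ r := by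
      intro hσr
      rw [e, List.countP_append, List.countP_cons_of_pos (by simpa using hτr)] at hcount
      have h0 : L₁.countP (fun τ => τ.1 == r) = 0 ∧ L₂.countP (fun τ => τ.1 == r) = 0 := by omega
      rcases List.mem_append.1 hσ with hm | hm
      · exact absurd hσr (by simpa using List.countP_eq_zero.1 h0.1 σ hm)
      · exact absurd hσr (by simpa using List.countP_eq_zero.1 h0.2 σ hm)
    have hm : σ ∈ D.commTerms a b := by rw [e]; simp only [List.mem_append, List.mem_cons] at hσ ⊢; tauto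
    have := hall σ hm
    simpa [hne] using this
  intro c c' A B hA hB
  have hkill : ∀ q, q < D.nroots → com2 D r q = true → ∀ u, S.x q u ∈ (Subgroup.centralizer {A}).map p := by
    intro q hq hqc u
    obtain ⟨q1, q2⟩ : q ≠ r ∧ q ≠ D.neg r := by
      simp only [com2, Bool.and_eq_true, decide_eq_true_eq] at hqc
      exact hqc.1
    refine ⟨Function.surjInv hp (S.x q u), Subgroup.mem_centralizer_singleton_iff.2 ?_, Function.surjInv_eq hp _⟩
    exact (S.comm_of_pair hp hc (S.pair_eq_one_of_fix hp hc (S.x_comm_two hr hq hqc) (hfix r hr q hq q1 q2) c u) hA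
      (Function.surjInv_eq hp _)).symm
  have hmid : ∀ t u, S.x r ((τ.2.1 : F) * (-t) ^ τ.2.2.1 * u ^ τ.2.2.2) ∈ (Subgroup.centralizer {A}).map p := by
    intro t u
    have hW : ((D.commWord F a b t u).map fun z => S.x z.1 z.2).prod ∈ (Subgroup.centralizer {A}).map p := by
      have := S.comm a b ha hb h5 h6 t u
      rw [show ((D.commWord F a b t u).map fun z => S.x z.1 z.2).prod =
        (S.x b u)⁻¹ * (S.x a t)⁻¹ * (S.x b u * S.x a t) by rw [this]; group]
      exact mul_mem (mul_mem (inv_mem (hkill b hb hcb u)) (inv_mem (hkill a ha hca t)))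
        (mul_mem (hkill b hb hcb u) (hkill a ha hca t))
    simp only [ChevalleyDatum.commWord, e, List.map_map, List.map_append, List.map_cons, List.prod_append,
      List.prod_cons, Function.comp_apply, hτr] at hW
    have hL : ∀ Lx : List (ℕ × ℤ × ℕ × ℕ), (∀ σ ∈ Lx, σ ∈ L₁ ++ L₂) →
        ∀ f : (ℕ × ℤ × ℕ × ℕ) → F, (Lx.map fun σ => S.x σ.1 (f σ)).prod ∈ (Subgroup.centralizer {A}).map p := by
      intro Lx hLx f
      refine list_prod_mem fun g hg => ?_
      obtain ⟨σ, hσ', rfl⟩ := List.mem_map.1 hg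
      exact hkill _ (hσ σ (hLx σ hσ')).1 (hσ σ (hLx σ hσ')).2 _
    have hA1 := hL L₁ (fun σ h => List.mem_append_left _ h) (fun σ => (σ.2.1 : F) * (-t) ^ σ.2.2.1 * u ^ σ.2.2.2)
    have hA2 := hL L₂ (fun σ h => List.mem_append_right _ h) (fun σ => (σ.2.1 : F) * (-t) ^ σ.2.2.1 * u ^ σ.2.2.2)
    exact (Subgroup.mul_mem_cancel_right _ hA2).1 ((Subgroup.mul_mem_cancel_left _ hA1).1 hW)
  have hall' : S.x r c' ∈ (Subgroup.centralizer {A}).map p := by
    obtain ⟨hu, hexp⟩ := hunit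
    have hC : (τ.2.1 : F) * (τ.2.1 : F) = 1 := by rcases hu with h | h <;> simp [h]
    rcases hexp with hi | hj
    · have := hmid (-((τ.2.1 : F) * c')) 1
      rwa [hi, pow_one, one_pow, mul_one, _root_.neg_neg, ← mul_assoc, hC, one_mul] at this
    · have := hmid (-1) ((τ.2.1 : F) * c')
      rwa [hj, _root_.neg_neg, one_pow, mul_one, pow_one, ← mul_assoc, hC, one_mul] at this
  obtain ⟨Z, hZ, hZp⟩ := hall'
  obtain ⟨k, hk, rfl⟩ := exists_ker_mul hc (hZp.trans hB.symm)
  rw [← mul_assoc, ← Subgroup.mem_centralizer_singleton_iff.1 hZ, mul_assoc Z A, ker_comm hc hk A, mul_assoc]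

include hD hR hX hgen hp hc in
theorem lifting_four [Finite F] (hq : Nat.card F = 4) [CharP F 2] (h : q4B D = true) : Nonempty (Lifting S p) := by
  obtain ⟨v, hv⟩ := exists_unit_order (F := F) (m := 3) hq
  simp only [q4B, Bool.and_eq_true, List.all_eq_true, List.mem_range, Bool.or_eq_true, decide_eq_true_eq] at h
  obtain ⟨hrs, hcen⟩ := h
  have hfix : ∀ r < D.nroots, ∀ s < D.nroots, s ≠ r → s ≠ D.neg r →
      ∃ g χ, S.Acts g χ ∧ χ s = 1 ∧ χ r ≠ 1 := fun r hr s hs h₁ h₂ =>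
    S.exists_fix_of_fixB hD hR hX (m := 3) hv (((hrs r hr).2 s hs).resolve_left (by tauto))
  have hca := fun r => S.commAll_of_simple hD hR hX hp hc
    (fun i hi => S.commAll_cen2 hD hR hX hp hc hfix hi (hcen i hi)) r
  choose y hy using fun r => S.exists_root_lift hgen hp hc r
    (fun hr => S.exists_move_of_moveB hD hR hX (m := 3) hv (hrs r hr).1) (hca r)
  exact S.lifting_of_pairs hp hc y hy fun r hr s hs h₁ h₂ => Or.inl (hfix r hr s hs h₁ h₂)

include hc in
theorem pairComm_of_splitB [CharP F 3] {r s : ℕ} (hr : r < D.nroots) (h : splitB D r s = true) {t u : F} {A B : L}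
    (hp : Function.Surjective p) (hA : p A = S.x r t) (hB : p B = S.x s u) : A * B = B * A := by
  simp only [splitB, List.any_eq_true, List.mem_range] at h
  obtain ⟨a, ha, h⟩ := h
  split at h
  · cases h
  rename_i b _
  split at h
  swap
  · cases h
  rename_i k C hT
  simp only [Bool.and_eq_true, decide_eq_true_eq, List.isEmpty_iff] at h
  obtain ⟨⟨⟨rfl, hC, hb, h5, h6, a1, b1, a2, b2⟩, e1⟩, e2⟩ := h
  have hC0 : (C : F) ≠ 0 := fun e => hC (Int.emod_eq_zero_of_dvd ((CharP.intCast_eq_zero_iff F 3 C).1 e))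
  obtain ⟨a', ha'⟩ := hp (S.x a 1)
  obtain ⟨b', hb'⟩ := hp (S.x b (-(u / (C : F))))
  have hcomm : ∀ q, q < D.nroots → q ≠ r → q ≠ D.neg r → D.commTerms r q = [] → ∀ w,
      S.x r t * S.x q w = S.x q w * S.x r t := fun q hq q1 q2 qe w => by
    rw [S.comm r q hr hq q1 q2 t w, ChevalleyDatum.commWord, qe]; simp
  have hab := S.comm a b ha hb h5 h6 1 (-(u / (C : F)))
  simp only [ChevalleyDatum.commWord, hT, List.map_cons, List.map_nil, List.prod_cons, List.prod_nil, mul_one,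
    pow_one] at hab
  refine commute_comm_preimage hc (a := b'⁻¹) (b := a'⁻¹) ?_ ?_ ?_
  · rw [hA, map_inv, hb', ← S.x_neg]; exact hcomm b hb b1 b2 e2 _
  · rw [hA, map_inv, ha', ← S.x_neg]; exact hcomm a ha a1 a2 e1 _
  · simp only [map_mul, map_inv, inv_inv, ha', hb', hB]
    rw [mul_assoc ((S.x b (-(u / (C : F))))⁻¹ * (S.x a 1)⁻¹), hab,
      show (C : F) * -1 * -(u / (C : F)) = u by field_simp]
    group

include hD hR hX hgen hp hc in
theorem lifting_three [Finite F] (hq : Nat.card F = 3) [CharP F 3] (hpr : ∀ t : F, ∃ n : ℕ, t = n • 1)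
    (h : q3B D = true) : Nonempty (Lifting S p) := by
  obtain ⟨v, hv⟩ := exists_unit_order (F := F) (m := 2) hq
  simp only [q3B, List.all_eq_true, List.mem_range, Bool.and_eq_true, Bool.or_eq_true, decide_eq_true_eq,
    List.isEmpty_iff] at h
  choose y hy using fun r => S.exists_root_lift hgen hp hc r
    (fun hr => S.exists_move_of_moveB hD hR hX (m := 2) hv (h r hr).1) (S.commAll_prime hp hc hpr r)
  refine S.lifting_of_pairs hp hc y hy fun r hr s hs h₁ h₂ => ?_
  rcases (h r hr).2 s hs with (hh | hh) | ⟨hnil, hsp⟩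
  · tauto
  · exact Or.inl (S.exists_fix_of_fixB hD hR hX (m := 2) hv hh)
  · exact Or.inr (Or.inr (Or.inl ⟨hnil, fun t u =>
      S.pairComm_of_splitB hc hr hsp hp ((hy r).p_y t) ((hy s).p_y u)⟩))

end Sys

end Cfsg.Agent.ChevSt
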