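/-
Steinberg presentations, part 25: splitting over small fields for F4 and B2.

* `prime_field`, `charP_of_three`, `charP_of_four`, `splits_F4`, `splits_B2_ne_three`.
-/
import Cfsg.Agent.Lib.ChevSt.SmallQ
import Cfsg.Agent.Lib.ChevSt.Multiplier
import Cfsg.Agent.Lib.Chev.All

set_option autoImplicit false

universe u

namespace Cfsg.Agent.ChevSt

open Cfsg.Lie Cfsg.Lie.ChevalleyDatum Cfsg.Agent.Chev Cfsg.Agent.ChevBN

theorem charP_of_three {F : Type*} [Field F] [Finite F] (hq : Nat.card F = 3) : CharP F 3 := by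
  haveI := Fintype.ofFinite F
  haveI : Fact (Nat.Prime 3) := ⟨Nat.prime_three⟩
  exact charP_of_card_eq_prime (R := F) (p := 3) (by rwa [← Nat.card_eq_fintype_card])

theorem charP_of_four {F : Type*} [Field F] [Finite F] (hq : Nat.card F = 4) : CharP F 2 := by
  haveI := Fintype.ofFinite F
  have h : (2 : F) * 2 = 0 := by
    rw [show (2 : F) * 2 = ((4 : ℕ) : F) by norm_num,
      ← (by rwa [← Nat.card_eq_fintype_card] : Fintype.card F = 4), Nat.cast_card_eq_zero]
  have h2 : (2 : F) = 0 := mul_self_eq_zero.1 h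
  exact ringChar.eq_iff.1 (CharP.ringChar_of_prime_eq_zero Nat.prime_two (by exact_mod_cast h2))

theorem prime_field {F : Type*} [Field F] [Finite F] {n : ℕ} [Fact n.Prime] (hq : Nat.card F = n) (t : F) :
    ∃ m : ℕ, t = m • 1 := by
  haveI := Fintype.ofFinite F
  rw [Nat.card_eq_fintype_card] at hq
  haveI : CharP F n := charP_of_card_eq_prime (R := F) hq
  obtain ⟨z, rfl⟩ := (ZMod.castHom_bijective (R := F) hq).2 t
  exact ⟨z.val, by rw [nsmul_one, ZMod.castHom_apply, ZMod.natCast_val]⟩

variable {D : ChevalleyDatum} (hD : Good D) {M : List (List ℤ)} {d : ℤ} (hR : Roots D M d)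
  (hX : ∀ i < D.rank, Decomp D (D.simple i) ∧ Decomp D (D.neg (D.simple i)))
include hD hR hX

/-- Splitting from lifts. -/
theorem splits_of_lifting {F : Type u} [Field F]
    (h : ∀ (E : Type u) [Group E] (S : Sys D F E), Subgroup.closure {g | ∃ r t, g = S.x r t} = ⊤ →
      ∀ (L : Type u) [Group L] (p : L →* E), Function.Surjective p → p.ker ≤ Subgroup.center L →
        Nonempty (Lifting S p)) :
    Splits (D.SteinbergCover F) := by
  intro L _ p hp hc
  have hθ : ∀ (r : ℕ) (t : F), r < D.nroots →
      ((covHom F hD (D.scGen F r t) : GL D.Idx F) : Matrix D.Idx D.Idx F) = D.x F r t :=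
    fun r t _ => by rw [covHom_gen, coe_xg]
  obtain ⟨Y⟩ := h _ _ (presSys_gen F (D.steinbergRelsAB F) subset_rfl (covHom F hD) hθ) L p hp hc
  exact section_of_lifting hD hR hθ Y

theorem splits_of_five {F : Type u} [Field F] (hP : PairOK D)
    (hU : ∀ i < D.rank, (∃ j < D.rank, D.cartan j (D.simple i) = -1) ∨ Central1 D (D.simple i))
    (hK : ∃ t : Finset F, 4 < t.card) : Splits (D.SteinbergCover F) := fun _ _ p hp hc =>
  cover_section hD hR hX hP hU hK p hp hc

omit hD hR hX

theorem splits_F4 {F : Type u} [Field F] [Fintype F] (hF : 3 ≤ Fintype.card F) :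
    Splits (chevF4.SteinbergCover F) := by
  have hD : Good chevF4 := Chev.good_of_mem (by simp)
  have hmem : chevF4 ∈ [chevG2, chevB2, chevD4, chevF4, chevE6, chevE7, chevE8] := by simp
  have hX := fun (i : ℕ) (hi : i < chevF4.rank) => exists_decomp chevF4 hmem (i := i) hi
  have hq : Nat.card F = Fintype.card F := Nat.card_eq_fintype_card
  rcases (by omega : Fintype.card F = 3 ∨ Fintype.card F = 4 ∨ 4 < Fintype.card F) with h | h | h
  · haveI := charP_of_three (F := F) (hq.trans h)
    haveI : Fact (Nat.Prime 3) := ⟨Nat.prime_three⟩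
    exact splits_of_lifting hD rootsF4 hX fun E _ S hgen L _ p hp hc =>
      S.lifting_three hD rootsF4 hX hgen hp hc (hq.trans h) (prime_field (hq.trans h)) q3B_F4
  · haveI := charP_of_four (F := F) (hq.trans h)
    exact splits_of_lifting hD rootsF4 hX fun E _ S hgen L _ p hp hc =>
      S.lifting_four hD rootsF4 hX hgen hp hc (hq.trans h) q4B_F4
  · obtain ⟨hP, hU⟩ := exists_univTables _ hmem
    exact splits_of_five hD rootsF4 hX hP hU ⟨Finset.univ, by rw [Finset.card_univ]; omega⟩

theorem splits_B2_ne_three {F : Type u} [Field F] [Fintype F] (hF : 4 ≤ Fintype.card F) :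
    Splits (chevB2.SteinbergCover F) := by
  have hD : Good chevB2 := Chev.good_of_mem (by simp)
  have hmem : chevB2 ∈ [chevG2, chevB2, chevD4, chevF4, chevE6, chevE7, chevE8] := by simp
  have hX := fun (i : ℕ) (hi : i < chevB2.rank) => exists_decomp chevB2 hmem (i := i) hi
  have hq : Nat.card F = Fintype.card F := Nat.card_eq_fintype_card
  rcases (by omega : Fintype.card F = 4 ∨ 4 < Fintype.card F) with h | h
  · haveI := charP_of_four (F := F) (hq.trans h)
    exact splits_of_lifting hD rootsB2 hX fun E _ S hgen L _ p hp hc =>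
      S.lifting_four hD rootsB2 hX hgen hp hc (hq.trans h) q4B_B2
  · obtain ⟨hP, hU⟩ := exists_univTables _ hmem
    exact splits_of_five hD rootsB2 hX hP hU ⟨Finset.univ, by rw [Finset.card_univ]; omega⟩

end Cfsg.Agent.ChevSt
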