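/-
Steinberg presentations, part 26: B2 over the field with three elements.

The lifts of the long root elements are commutators of the lifts of orthogonal short root elements.
-/
import Cfsg.Agent.Lib.ChevSt.SmallQSplit
import Cfsg.Agent.Lib.ChevSt.SLSplit

set_option autoImplicit false
set_option maxRecDepth 100000
set_option synthInstance.maxSize 4000

universe u

namespace Cfsg.Agent.ChevSt

open Cfsg.Lie Cfsg.Lie.ChevalleyDatum Cfsg.Agent.Chev Cfsg.Agent.ChevBN

/-- Two short roots with sum the given long root, and the coefficient of their commutator. -/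
def b2dec (L : ℕ) : ℕ × ℕ × ℤ :=
  if L = 0 then (1, 2, 2) else if L = 3 then (1, 5, -2) else if L = 4 then (2, 6, -2) else (5, 6, 2)

/-- A fundamental reflection exchanging r and s with sign 1. -/
def swapB (D : ChevalleyDatum) (r s : ℕ) : Bool :=
  (List.range D.rank).any fun i =>
    decide (wN D i r = s ∧ wN D i s = r ∧ nSign D (D.simple i) r * nSign D (D.simple i) s = 1)

theorem b2_long : ∀ L < chevB2.nroots, moveB chevB2 2 L = false →
    (b2dec L).1 < chevB2.nroots ∧ (b2dec L).2.1 < chevB2.nroots ∧ L ≠ (b2dec L).1 ∧ L ≠ (b2dec L).2.1 ∧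
    (b2dec L).2.1 ≠ (b2dec L).1 ∧ (b2dec L).2.1 ≠ chevB2.neg (b2dec L).1 ∧
    L ≠ chevB2.neg (b2dec L).1 ∧ L ≠ chevB2.neg (b2dec L).2.1 ∧
    moveB chevB2 2 (b2dec L).1 = true ∧ moveB chevB2 2 (b2dec L).2.1 = true ∧
    chevB2.commTerms (b2dec L).1 (b2dec L).2.1 = [(L, (b2dec L).2.2, 1, 1)] ∧
    ((b2dec L).2.2 * (b2dec L).2.2) % 3 = 1 ∧
    chevB2.commTerms (b2dec L).1 L = [] ∧ chevB2.commTerms (b2dec L).2.1 L = [] ∧
    fixB chevB2 2 (b2dec L).1 L = true ∧ fixB chevB2 2 (b2dec L).2.1 L = true := by decide +kernel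

theorem b2_pairs : ∀ r < chevB2.nroots, ∀ s < chevB2.nroots, s ≠ r → s ≠ chevB2.neg r →
    fixB chevB2 2 r s = true ∨ fixB chevB2 2 s r = true ∨
    (chevB2.commTerms r s = [] ∧ (swapB chevB2 r s = true ∨
      ∃ j < chevB2.rank, swapB chevB2 (wN chevB2 j r) (wN chevB2 j s) = true)) ∨
    ∃ L < chevB2.nroots, moveB chevB2 2 L = false ∧
      ((r = (b2dec L).1 ∧ s = (b2dec L).2.1) ∨ (r = (b2dec L).2.1 ∧ s = (b2dec L).1)) ∧
      ∃ τ ∈ chevB2.commTerms r s, chevB2.commTerms r s = [τ] ∧ τ.1 = L ∧ τ.2.2.1 = 1 ∧ τ.2.2.2 = 1 := by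
  decide +kernel

section Prime

variable {F L : Type*} [Field F] [Group L] (hpr : ∀ t : F, ∃ n : ℕ, t = n • 1)

theorem hom_nsmul {f : F → L} (hf : ∀ a b, f (a + b) = f a * f b) (t : F) : ∀ n : ℕ, f (n • t) = f t ^ n
  | 0 => by rw [zero_smul, pow_zero]; exact (left_eq_mul (a := f 0) (b := f 0)).mp (by rw [← hf, add_zero])
  | n + 1 => by rw [succ_nsmul, hf, hom_nsmul hf t n, pow_succ]

include hpr in
theorem balanced {f : F → F → L} (h₁ : ∀ a b u, f (a + b) u = f a u * f b u)
    (h₂ : ∀ t a b, f t (a + b) = f t a * f t b) (t u : F) : f t u = f (t * u) 1 := by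
  obtain ⟨m, rfl⟩ := hpr u
  rw [hom_nsmul (h₂ t), ← hom_nsmul (f := fun a => f a 1) (fun a b => h₁ a b 1)]
  congr 1
  rw [mul_smul_comm, mul_one]

end Prime

namespace Sys

variable {D : ChevalleyDatum} {F : Type*} [Field F] {E : Type*} [Group E] (S : Sys D F E)
  (hD : Good D) {M : List (List ℤ)} {d : ℤ} (hR : Roots D M d)
  (hX : ∀ i < D.rank, Decomp D (D.simple i) ∧ Decomp D (D.neg (D.simple i)))
  {L : Type*} [Group L] {p : L →* E} (hp : Function.Surjective p) (hc : p.ker ≤ Subgroup.center L)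

include hD hR hX hp in
/-- Conjugation by n̄ carries the commutation of preimages of two roots to their images. -/
theorem preimage_comm_transport {i : ℕ} (hi : i < D.rank) {r s : ℕ} (hr : r < D.nroots) (hs : s < D.nroots)
    (h : ∀ t u A B, p A = S.x r t → p B = S.x s u → A * B = B * A) :
    ∀ t u A B, p A = S.x (wN D i r) t → p B = S.x (wN D i s) u → A * B = B * A := by
  intro a b A B hA hB
  obtain ⟨m, hm⟩ := hp (S.n (D.simple i) 1)
  have key : ∀ q < D.nroots, ∀ v V, p V = S.x (wN D i q) v →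
      p (m⁻¹ * V * m) = S.x q ((nSign D (D.simple i) q : F) * v) := by
    intro q hq v V hV
    set e : F := (nSign D (D.simple i) q : F) with he
    have he2 : e * e = 1 := by rcases (nSign_cases hD (hD.simple_lt i hi) hq).1 with h | h <;> simp [he, h]
    rw [show S.x q (e * v) = (S.n (D.simple i) 1)⁻¹ * S.x (wN D i q) (e * (e * v)) * S.n (D.simple i) 1 by
      rw [← show S.n (D.simple i) 1 * S.x q (e * v) * (S.n (D.simple i) 1)⁻¹ = S.x (wN D i q) (e * (e * v)) by
        rw [S.n_conj hD hR hX hi hq one_ne_zero, one_zpow, mul_one]]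
      group, map_mul, map_mul, map_inv, hV, hm, ← mul_assoc e e, he2, one_mul]
  have h3 := h _ _ _ _ (key r hr a A hA) (key s hs b B hB)
  calc A * B = m * (m⁻¹ * A * m * (m⁻¹ * B * m)) * m⁻¹ := by group
    _ = m * (m⁻¹ * B * m * (m⁻¹ * A * m)) * m⁻¹ := by rw [h3]
    _ = B * A := by group

include hD hR hX hp hc in
/-- Two commuting roots exchanged by a fundamental reflection with sign 1, in characteristic three. -/
theorem comm_of_swap [CharP F 3] (hpr : ∀ t : F, ∃ n : ℕ, t = n • 1) {r s : ℕ} (hr : r < D.nroots)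
    (hs : s < D.nroots) (hcm : ∀ t u, S.x r t * S.x s u = S.x s u * S.x r t) (h : swapB D r s = true) :
    ∀ t u A B, p A = S.x r t → p B = S.x s u → A * B = B * A := by
  simp only [swapB, List.any_eq_true, List.mem_range, decide_eq_true_eq] at h
  obtain ⟨i, hi, w1, w2, hsgn⟩ := h
  have hb := balanced (f := S.pair hp r s) hpr (fun a b u => S.pair_add_left hp hc hcm a b u)
    (fun t a b => S.pair_add_right hp hc hcm t a b)
  obtain ⟨m, hm⟩ := hp (S.n (D.simple i) 1)
  set e : F := (nSign D (D.simple i) r : F) with he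
  set e' : F := (nSign D (D.simple i) s : F) with he'
  have hee : e * e' = 1 := by rw [he, he', ← Int.cast_mul, hsgn, Int.cast_one]
  have hinv : ∀ w, S.pair hp r s w 1 * S.pair hp r s w 1 = 1 := by
    intro w
    set A := Function.surjInv hp (S.x r w)
    set B := Function.surjInv hp (S.x s 1)
    have pA : p (m * A * m⁻¹) = S.x s (e * w) := by
      rw [map_mul, map_mul, map_inv, hm, Function.surjInv_eq hp, S.n_conj hD hR hX hi hr one_ne_zero, w1, one_zpow,
        mul_one]
    have pB : p (m * B * m⁻¹) = S.x r e' := by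
      rw [map_mul, map_mul, map_inv, hm, Function.surjInv_eq hp, S.n_conj hD hR hX hi hs one_ne_zero, w2, one_zpow,
        mul_one, mul_one]
    have h1 : S.pair hp r s e' (e * w) = (S.pair hp r s w 1)⁻¹ := by
      rw [← S.pair_eq hp hc pB pA]
      calc m * B * m⁻¹ * (m * A * m⁻¹) * (m * B * m⁻¹)⁻¹ * (m * A * m⁻¹)⁻¹
          = (m * S.pair hp r s w 1 * m⁻¹)⁻¹ := by simp only [Sys.pair, A, B]; group
        _ = _ := by rw [ker_comm hc (S.pair_ker hp hc hcm w 1) m, mul_inv_cancel_right]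
    rw [hb, ← mul_assoc, mul_comm e', hee, one_mul] at h1
    nth_rw 2 [h1]
    exact mul_inv_cancel _
  intro t u A B hA hB
  refine S.comm_of_pair hp hc ?_ hA hB
  have h2 := hinv (t * u)
  have h3 := hom_nsmul (f := fun a => S.pair hp r s a 1) (fun a b => S.pair_add_left hp hc hcm a b 1) (t * u) 3
  rw [nsmul_eq_mul, CharP.cast_eq_zero, zero_mul] at h3
  have h0 : S.pair hp r s 0 1 = 1 := (left_eq_mul (a := S.pair hp r s 0 1) (b := S.pair hp r s 0 1)).mp
    (by rw [← S.pair_add_left hp hc hcm, add_zero])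
  simp only [h0, pow_succ, pow_zero, one_mul, h2] at h3
  rw [hb]
  exact h3.symm

end Sys

/-- Lifts for B2 over three elements. -/
theorem lifting_B2_three {F : Type*} [Field F] [Finite F] (hq : Nat.card F = 3) [CharP F 3]
    (hpr : ∀ t : F, ∃ n : ℕ, t = n • 1) {E : Type*} [Group E] (S : Sys chevB2 F E)
    (hgen : Subgroup.closure {g | ∃ r t, g = S.x r t} = ⊤) {L : Type*} [Group L] {p : L →* E}
    (hp : Function.Surjective p) (hc : p.ker ≤ Subgroup.center L) : Nonempty (Lifting S p) := by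
  classical
  have hD : Good chevB2 := Chev.good_of_mem (by simp)
  have hR := rootsB2
  have hX := fun (i : ℕ) (hi : i < chevB2.rank) => exists_decomp chevB2 (by simp) (i := i) hi
  obtain ⟨v, hv⟩ := exists_unit_order (F := F) (m := 2) hq
  have hca := fun r => S.commAll_prime hp hc hpr r
  have hlift : ∀ r, moveB chevB2 2 r = true → ∃ y : F → L, Sys.RootLift S p r y := fun r h =>
    S.exists_root_lift hgen hp hc r (fun _ => S.exists_move_of_moveB hD hR hX (m := 2) hv h) (hca r)
  let z : ℕ → F → L := fun r => if h : moveB chevB2 2 r = true then (hlift r h).choose else fun _ => 1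
  have hz : ∀ r, moveB chevB2 2 r = true → Sys.RootLift S p r (z r) := fun r h => by
    simp only [z, h, dif_pos]
    exact (hlift r h).choose_spec
  -- facts for a long root
  let β : ℕ → F → F → L := fun l t u =>
    z (b2dec l).1 t * z (b2dec l).2.1 u * (z (b2dec l).1 t)⁻¹ * (z (b2dec l).2.1 u)⁻¹
  have long : ∀ l < chevB2.nroots, moveB chevB2 2 l = false →
      (∀ t u, p (β l t u) = S.x l ((((b2dec l).2.2 : ℤ) : F) * (t * u))) ∧
      (∀ t u, β l t u = β l (t * u) 1) ∧ (∀ t t', β l (t + t') 1 = β l t 1 * β l t' 1) ∧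
      (∀ t A, p A = S.x l t → ∀ u, z (b2dec l).1 u * A = A * z (b2dec l).1 u ∧
        z (b2dec l).2.1 u * A = A * z (b2dec l).2.1 u) := by
    intro l hl hm
    obtain ⟨ha, hb, n1, n2, n3, n4, n5, n6, ma, mb, hT, -, ea, eb, fa, fb⟩ := b2_long l hl hm
    simp only [β]
    set a := (b2dec l).1
    set b := (b2dec l).2.1
    set C : ℤ := (b2dec l).2.2
    have hnil : ∀ q, q < chevB2.nroots → l ≠ q → l ≠ chevB2.neg q → chevB2.commTerms q l = [] → ∀ t u,
        S.x q t * S.x l u = S.x l u * S.x q t := fun q hq q1 q2 qe t u => by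
      rw [S.comm q l hq hl q1 q2 t u, ChevalleyDatum.commWord, qe]; simp
    have kill : ∀ q, q < chevB2.nroots → l ≠ q → l ≠ chevB2.neg q → chevB2.commTerms q l = [] →
        fixB chevB2 2 q l = true → ∀ t u A B, p A = S.x q t → p B = S.x l u → A * B = B * A :=
      fun q hq q1 q2 qe hf t u A B hA hB => S.comm_of_pair hp hc (S.pair_eq_one_of_fix hp hc (hnil q hq q1 q2 qe)
        (S.exists_fix_of_fixB hD hR hX (m := 2) hv hf) t u) hA hB
    have ca := kill a ha n1 n5 ea fa
    have cb := kill b hb n2 n6 eb fb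
    have hval : ∀ t u, p (z a t * z b u * (z a t)⁻¹ * (z b u)⁻¹) = S.x l ((C : F) * (t * u)) := by
      intro t u
      have hcw := S.comm a b ha hb n3 n4 (-t) u
      simp only [ChevalleyDatum.commWord, hT, List.map_cons, List.map_nil, List.prod_cons, List.prod_nil, mul_one,
        pow_one, _root_.neg_neg, S.x_neg] at hcw
      rw [map_mul, map_mul, map_mul, map_inv, map_inv, (hz a ma).p_y, (hz b mb).p_y]
      calc S.x a t * S.x b u * (S.x a t)⁻¹ * (S.x b u)⁻¹
          = S.x a t * (S.x b u * (S.x a t)⁻¹) * (S.x b u)⁻¹ := by group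
        _ = S.x b u * S.x l ((C : F) * t * u) * (S.x b u)⁻¹ := by rw [hcw]; group
        _ = _ := by rw [hnil b hb n2 n6 eb u, mul_inv_cancel_right, mul_assoc]
    have hl1 : ∀ t t' u, z a (t + t') * z b u * (z a (t + t'))⁻¹ * (z b u)⁻¹ =
        z a t * z b u * (z a t)⁻¹ * (z b u)⁻¹ * (z a t' * z b u * (z a t')⁻¹ * (z b u)⁻¹) := by
      intro t t' u
      rw [(hz a ma).add]
      set W := z a t' * z b u * (z a t')⁻¹ * (z b u)⁻¹ with hW
      have c1 : z a t * W = W * z a t := ca _ _ _ _ ((hz a ma).p_y t) (hval t' u)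
      have c2 : W * (z a t * z b u * (z a t)⁻¹ * (z b u)⁻¹) = z a t * z b u * (z a t)⁻¹ * (z b u)⁻¹ * W :=
        hca l _ _ _ _ (hval t' u) (hval t u)
      calc z a t * z a t' * z b u * (z a t * z a t')⁻¹ * (z b u)⁻¹
          = z a t * W * (z b u * (z a t)⁻¹ * (z b u)⁻¹) := by rw [hW]; group
        _ = W * (z a t * z b u * (z a t)⁻¹ * (z b u)⁻¹) := by rw [c1]; group
        _ = _ := c2
    have hl2 : ∀ t u u', z a t * z b (u + u') * (z a t)⁻¹ * (z b (u + u'))⁻¹ =
        z a t * z b u * (z a t)⁻¹ * (z b u)⁻¹ * (z a t * z b u' * (z a t)⁻¹ * (z b u')⁻¹) := by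
      intro t u u'
      rw [(hz b mb).add]
      set W := z a t * z b u' * (z a t)⁻¹ * (z b u')⁻¹ with hW
      have c1 : z b u * W = W * z b u := cb _ _ _ _ ((hz b mb).p_y u) (hval t u')
      calc z a t * (z b u * z b u') * (z a t)⁻¹ * (z b u * z b u')⁻¹
          = z a t * z b u * (z a t)⁻¹ * W * (z b u)⁻¹ := by rw [hW]; group
        _ = z a t * z b u * (z a t)⁻¹ * ((z b u)⁻¹ * (z b u * W)) * (z b u)⁻¹ := by group
        _ = _ := by rw [c1]; group
    exact ⟨hval, balanced hpr hl1 hl2, fun t t' => hl1 t t' 1,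
      fun t A hA u => ⟨ca _ _ _ _ ((hz a ma).p_y u) hA, cb _ _ _ _ ((hz b mb).p_y u) hA⟩⟩
  let y : ℕ → F → L := fun r w =>
    if moveB chevB2 2 r = true then z r w
    else if r < chevB2.nroots then β r ((((b2dec r).2.2 : ℤ) : F) * w) 1 else 1
  have hC : ∀ l < chevB2.nroots, moveB chevB2 2 l = false →
      (((b2dec l).2.2 : ℤ) : F) * (((b2dec l).2.2 : ℤ) : F) = 1 := fun l hl hm => by
    obtain ⟨-, -, -, -, -, -, -, -, -, -, -, hC, -⟩ := b2_long l hl hm
    have h3 := (CharP.intCast_eq_zero_iff F 3 ((b2dec l).2.2 * (b2dec l).2.2 - 1)).2 (by omega)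
    rw [Int.cast_sub, Int.cast_mul, Int.cast_one, sub_eq_zero] at h3
    exact h3
  have hyl : ∀ l < chevB2.nroots, moveB chevB2 2 l = false → ∀ w,
      y l w = β l ((((b2dec l).2.2 : ℤ) : F) * w) 1 := fun l hl hm w => by simp [y, hm, hl]
  have hy : ∀ r, Sys.RootLift S p r (y r) := by
    intro r
    by_cases hm : moveB chevB2 2 r = true
    · rw [show y r = z r from funext fun w => by simp [y, hm]]; exact hz r hm
    rw [Bool.not_eq_true] at hm
    by_cases hr : r < chevB2.nroots
    swap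
    · have he : y r = fun _ => 1 := funext fun w => by simp [y, hm, hr]
      rw [he]
      exact ⟨fun t => by rw [map_one, S.x_out r t (not_lt.1 hr)], fun _ _ => (one_mul 1).symm,
        fun G ψ _ t => by group⟩
    obtain ⟨hval, hbal, hadd, -⟩ := long r hr hm
    obtain ⟨ha, hb, -, -, -, -, -, -, ma, mb, -⟩ := b2_long r hr hm
    have hp' : ∀ t, p (y r t) = S.x r t := fun t => by
      rw [hyl r hr hm, hval, mul_one, ← mul_assoc, hC r hr hm, one_mul]
    refine ⟨hp', fun t u => by rw [hyl r hr hm, hyl r hr hm, hyl r hr hm, mul_add, hadd], fun G ψ hG t => ?_⟩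
    have hconj : ∀ t, G * y r t * G⁻¹ = y r ((ψ (b2dec r).1 : F) * (ψ (b2dec r).2.1 : F) * t) := by
      intro t
      rw [hyl r hr hm, hyl r hr hm, show
        (((b2dec r).2.2 : ℤ) : F) * ((ψ (b2dec r).1 : F) * (ψ (b2dec r).2.1 : F) * t) =
        (ψ (b2dec r).1 : F) * ((((b2dec r).2.2 : ℤ) : F) * t) * ((ψ (b2dec r).2.1 : F) * 1) by ring,
        ← hbal ((ψ (b2dec r).1 : F) * ((((b2dec r).2.2 : ℤ) : F) * t)) ((ψ (b2dec r).2.1 : F) * 1)]
      simp only [β]
      rw [← (hz _ ma).equiv G ψ hG, ← (hz _ mb).equiv G ψ hG]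
      group
    rw [hconj t]
    have h1 := congrArg p (hconj 1)
    rw [map_mul, map_mul, map_inv, hp', hp', hG r] at h1
    have h2 := S.x_param_inj hD hr h1
    rw [mul_one, mul_one] at h2
    rw [h2]
  refine S.lifting_of_pairs hp hc y hy fun r hr s hs h₁ h₂ => ?_
  rcases b2_pairs r hr s hs h₁ h₂ with hf | hf | ⟨hnil, hsw⟩ | ⟨l, hl, hm, hrs, ⟨k, C, i, j⟩, -, hT, rfl, rfl, rfl⟩
  · exact Or.inl (S.exists_fix_of_fixB hD hR hX (m := 2) hv hf)
  · exact Or.inr (Or.inl (S.exists_fix_of_fixB hD hR hX (m := 2) hv hf))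
  · refine Or.inr (Or.inr (Or.inl ⟨hnil, fun t u => ?_⟩))
    have hcm : ∀ t u, S.x r t * S.x s u = S.x s u * S.x r t := fun t u => by
      rw [S.comm r s hr hs h₁ h₂ t u, ChevalleyDatum.commWord, hnil]; simp
    rcases hsw with h | ⟨j, hj, h⟩
    · exact S.comm_of_swap hD hR hX hp hc hpr hr hs hcm h t u _ _ ((hy r).p_y t) ((hy s).p_y u)
    have hr' : wN chevB2 j r < chevB2.nroots := refl_lt hD (hD.simple_lt j hj) hr
    have hs' : wN chevB2 j s < chevB2.nroots := refl_lt hD (hD.simple_lt j hj) hs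
    have e1 : wN chevB2 j (wN chevB2 j r) = r := refl_refl hD (hD.simple_lt j hj) hr
    have e2 : wN chevB2 j (wN chevB2 j s) = s := refl_refl hD (hD.simple_lt j hj) hs
    have hcm' : ∀ t u, S.x (wN chevB2 j r) t * S.x (wN chevB2 j s) u =
        S.x (wN chevB2 j s) u * S.x (wN chevB2 j r) t := by
      intro t u
      set m := S.n (chevB2.simple j) 1
      set e : F := (nSign chevB2 (chevB2.simple j) r : F) with he
      set e' : F := (nSign chevB2 (chevB2.simple j) s : F) with he'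
      have he2 : e * e = 1 := by rcases (nSign_cases hD (hD.simple_lt j hj) hr).1 with h | h <;> simp [he, h]
      have he2' : e' * e' = 1 := by rcases (nSign_cases hD (hD.simple_lt j hj) hs).1 with h | h <;> simp [he', h]
      have cr : ∀ v, m * S.x r v * m⁻¹ = S.x (wN chevB2 j r) (e * v) := fun v => by
        rw [S.n_conj hD hR hX hj hr one_ne_zero, one_zpow, mul_one]
      have cs : ∀ v, m * S.x s v * m⁻¹ = S.x (wN chevB2 j s) (e' * v) := fun v => by
        rw [S.n_conj hD hR hX hj hs one_ne_zero, one_zpow, mul_one]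
      have h0 := congrArg (fun g => m * g * m⁻¹) (hcm (e * t) (e' * u))
      rw [show ∀ g g' : E, m * (g * g') * m⁻¹ = m * g * m⁻¹ * (m * g' * m⁻¹) from fun g g' => by group,
        show ∀ g g' : E, m * (g * g') * m⁻¹ = m * g * m⁻¹ * (m * g' * m⁻¹) from fun g g' => by group,
        cr, cs, ← mul_assoc e, he2, one_mul, ← mul_assoc e', he2', one_mul] at h0
      exact h0
    exact S.preimage_comm_transport hD hR hX hp hj hr' hs'
      (S.comm_of_swap hD hR hX hp hc hpr hr' hs' hcm' h) t u _ _ (by rw [e1]; exact (hy r).p_y t)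
      (by rw [e2]; exact (hy s).p_y u)
  · refine Or.inr (Or.inr (Or.inr fun t u => ?_))
    obtain ⟨hval, hbal, hadd, hcomm⟩ := long k hl hm
    obtain ⟨ha, hb, -, -, -, -, -, -, ma, mb, hTab, -⟩ := b2_long k hl hm
    have hya : y (b2dec k).1 = z (b2dec k).1 := funext fun w => by simp [y, ma]
    have hyb : y (b2dec k).2.1 = z (b2dec k).2.1 := funext fun w => by simp [y, mb]
    have key : ∃ ε : F, ∀ t u, y r t * y s u * (y r t)⁻¹ * (y s u)⁻¹ = y k (ε * (t * u)) := by
      rcases hrs with ⟨rfl, rfl⟩ | ⟨rfl, rfl⟩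
      · refine ⟨(((b2dec k).2.2 : ℤ) : F), fun t u => ?_⟩
        rw [hya, hyb, hyl k hl hm, ← mul_assoc, hC k hl hm, one_mul]
        exact hbal t u
      · refine ⟨-(((b2dec k).2.2 : ℤ) : F), fun t u => ?_⟩
        rw [hya, hyb, hyl k hl hm, ← mul_assoc, mul_neg, hC k hl hm, neg_mul, one_mul]
        have h0 : β k 0 1 = 1 := (left_eq_mul (a := β k 0 1) (b := β k 0 1)).mp (by rw [← hadd, add_zero])
        rw [show β k (-(t * u)) 1 = (β k (t * u) 1)⁻¹ from
          (inv_eq_of_mul_eq_one_right (by rw [← hadd, add_neg_cancel, h0])).symm, mul_comm t u, ← hbal]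
        simp only [β]
        group
    obtain ⟨ε, hε⟩ := key
    have hεC : ε = (C : F) := by
      have h1 := congrArg p (hε 1 1)
      rw [map_mul, map_mul, map_mul, map_inv, map_inv, (hy r).p_y, (hy s).p_y, (hy k).p_y, one_mul, mul_one] at h1
      refine S.x_param_inj hD hl ?_
      rw [← h1]
      have hcw := S.comm r s hr hs h₁ h₂ (-1) 1
      simp only [ChevalleyDatum.commWord, hT, List.map_cons, List.map_nil, List.prod_cons, List.prod_nil, mul_one,
        pow_one, _root_.neg_neg, S.x_neg] at hcw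
      have hsk : S.x s 1 * S.x k (C : F) = S.x k (C : F) * S.x s 1 := by
        have h5 := congrArg p ((hcomm (C : F) _ ((hy k).p_y (C : F)) 1).1)
        have h6 := congrArg p ((hcomm (C : F) _ ((hy k).p_y (C : F)) 1).2)
        simp only [map_mul, (hy k).p_y, (hz _ ma).p_y, (hz _ mb).p_y] at h5 h6
        rcases hrs with ⟨-, rfl⟩ | ⟨-, rfl⟩
        exacts [h6, h5]
      calc S.x r 1 * S.x s 1 * (S.x r 1)⁻¹ * (S.x s 1)⁻¹
          = S.x r 1 * (S.x s 1 * (S.x r 1)⁻¹) * (S.x s 1)⁻¹ := by group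
        _ = S.x s 1 * S.x k (C : F) * (S.x s 1)⁻¹ := by rw [hcw]; group
        _ = _ := by rw [hsk, mul_inv_cancel_right]
    have hsk' : y s u * y k ((C : F) * (t * u)) = y k ((C : F) * (t * u)) * y s u := by
      rcases hrs with ⟨-, rfl⟩ | ⟨-, rfl⟩
      · rw [hyb]; exact (hcomm _ _ ((hy k).p_y _) u).2
      · rw [hya]; exact (hcomm _ _ ((hy k).p_y _) u).1
    have h2 := hε t u
    rw [hεC] at h2
    simp only [ChevalleyDatum.commWord, hT, List.map_cons, List.map_nil, List.prod_cons, List.prod_nil, mul_one,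
      pow_one, _root_.neg_neg]
    rw [show (C : F) * t * u = (C : F) * (t * u) by ring, hsk', ← h2]
    group

theorem splits_B2 {F : Type u} [Field F] [Fintype F] (hF : 3 ≤ Fintype.card F) :
    Splits (chevB2.SteinbergCover F) := by
  rcases eq_or_lt_of_le hF with h | h
  swap
  · exact splits_B2_ne_three (by omega)
  have hq : Nat.card F = 3 := Nat.card_eq_fintype_card.trans h.symm
  haveI := charP_of_three (F := F) hq
  haveI : Fact (Nat.Prime 3) := ⟨Nat.prime_three⟩
  exact splits_of_lifting (Chev.good_of_mem (by simp)) rootsB2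
    (fun i hi => exists_decomp chevB2 (by simp) (i := i) hi)
    fun E _ S hgen L _ p hp hc => lifting_B2_three hq (prime_field hq) S hgen hp hc

end Cfsg.Agent.ChevSt
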