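/-
Steinberg presentations, part 18: lifting projective representations in the natural characteristic.

* `Sys.exists_lifting_of_tors`: lifts of order dividing ℓ when the kernel has no ℓ-torsion.
* `lift_of_char`: homomorphisms into PGL_n(L) lift to GL_n(L), L of characteristic ℓ.
* `perfect_hom_ext`.
-/
import Cfsg.Agent.Lib.ChevSt.Universal
import Mathlib.FieldTheory.IsAlgClosed.AlgebraicClosure
import Mathlib.LinearAlgebra.Matrix.GeneralLinearGroup.Basic

set_option autoImplicit false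

namespace Cfsg.Agent.ChevSt

open Cfsg.Lie Cfsg.Lie.ChevalleyDatum Cfsg.Agent.Chev Cfsg.Agent.ChevBN

theorem perfect_hom_ext {Δ G E : Type*} [Group Δ] [Group G] [Group E] (hperf : commutator Δ = ⊤) (π : E →* G)
    (hπ : π.ker ≤ Subgroup.center E) (f f' : Δ →* E) (h : π.comp f = π.comp f') : f = f' := by
  have hle : commutator Δ ≤ f.eqLocus f' := by
    rw [commutator_eq_closure, Subgroup.closure_le]
    rintro _ ⟨a, b, rfl⟩
    show f _ = f' _
    rw [commutatorElement_def, map_mul, map_mul, map_mul, map_inv, map_inv, map_mul, map_mul, map_mul, map_inv,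
      map_inv]
    exact comm_congr hπ (DFunLike.congr_fun h a) (DFunLike.congr_fun h b)
  exact MonoidHom.ext fun a => hle (by rw [hperf]; exact Subgroup.mem_top a)

/-- Lifts of order dividing ℓ of root elements, when the central kernel has no ℓ-torsion. -/
theorem Sys.exists_lifting_of_tors {D : ChevalleyDatum} {F : Type*} [Field F] {E : Type*} [Group E] (S : Sys D F E)
    {L : Type*} [Group L] {p : L →* E} (hp : Function.Surjective p) (hc : p.ker ≤ Subgroup.center L) (ℓ : ℕ)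
    [CharP F ℓ] (htf : ∀ k ∈ p.ker, k ^ ℓ = 1 → k = 1) (hdiv : ∀ r t, ∃ y, p y = S.x r t ∧ y ^ ℓ = 1) :
    Nonempty (Lifting S p) := by
  choose y py hy using hdiv
  have hF : ∀ t : F, ℓ • t = 0 := fun t => by rw [nsmul_eq_mul, CharP.cast_eq_zero, zero_mul]
  have hhom : ∀ f : F → L, (∀ t, f t ∈ p.ker) → (∀ a b, f (a + b) = f a * f b) → ∀ t, f t = 1 := by
    intro f hf hadd t
    have h0 : f 0 = 1 := (left_eq_mul (a := f 0) (b := f 0)).mp (by rw [← hadd, add_zero])
    have h1 : ∀ m : ℕ, f (m • t) = f t ^ m := fun m => by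
      induction m with
      | zero => rw [zero_smul, h0, pow_zero]
      | succ m ih => rw [succ_nsmul, hadd, ih, pow_succ]
    exact htf _ (hf t) (by rw [← h1, hF, h0])
  have hcm : ∀ r t u, S.x r t * S.x r u = S.x r u * S.x r t := fun r t u => by rw [← S.add, ← S.add, add_comm]
  have hcomm : ∀ r t u, y r t * y r u = y r u * y r t := by
    intro r t u
    have h := hhom (fun t => S.pair hp r r t u) (fun t => S.pair_ker hp hc (hcm r) t u)
      (fun a b => S.pair_add_left hp hc (hcm r) a b u) t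
    rw [← S.pair_eq hp hc (py r t) (py r u), mul_inv_eq_one, mul_inv_eq_iff_eq_mul] at h
    exact h
  refine ⟨⟨y, py, hc, fun r t u => ?_, fun r _ s _ _ _ ε hker hadd _ _ _ t u => hhom (fun t => ε t u) (fun t => hker t u)
    (fun a b => hadd a b u) t⟩⟩
  obtain ⟨k, hk, hky⟩ := exists_ker_mul hc (A := y r t * y r u) (A' := y r (t + u))
    (by rw [map_mul, py, py, py, S.add])
  have h2 : (y r t * y r u) ^ ℓ = 1 := by rw [(show Commute (y r t) (y r u) from hcomm r t u).mul_pow, hy, hy, one_mul]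
  have h3 := hy r (t + u)
  rw [hky, (show Commute (y r t * y r u) k from ker_comm hc hk _).mul_pow, h2, one_mul] at h3
  rw [hky, htf k hk h3, mul_one]

variable {D : ChevalleyDatum} {F : Type*} [Field F] (hD : Good D) {M : List (List ℤ)} {d : ℤ} (hR : Roots D M d)
include hD hR

/-- Projective representations in characteristic ℓ lift. -/
theorem lift_of_char (hperf : commutator (D.SteinbergCover F) = ⊤) (ℓ : ℕ) [Fact ℓ.Prime] [CharP F ℓ] {L : Type*}
    [Field L] [CharP L ℓ] {n : ℕ}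
    (σ : D.SteinbergCover F →* GL (Fin n) L ⧸ Subgroup.center (GL (Fin n) L)) :
    ∃ ψ : D.SteinbergCover F →* GL (Fin n) L, (QuotientGroup.mk' (Subgroup.center (GL (Fin n) L))).comp ψ = σ := by
  let K' := AlgebraicClosure L
  haveI : CharP K' ℓ := charP_of_injective_algebraMap (algebraMap L K').injective ℓ
  let ι : GL (Fin n) L →* GL (Fin n) K' := Units.map ((algebraMap L K').mapMatrix).toMonoidHom
  have hι : Function.Injective ι :=
    Units.map_injective (Matrix.map_injective (algebraMap L K').injective)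
  let Z : Subgroup (GL (Fin n) K') := Subgroup.center _
  let P : Subgroup (D.SteinbergCover F × GL (Fin n) K') :=
    { carrier := {z | ∃ g : GL (Fin n) L, (g : GL (Fin n) L ⧸ Subgroup.center (GL (Fin n) L)) = σ z.1 ∧
        ∃ c ∈ Z, z.2 = c * ι g}
      one_mem' := ⟨1, by simp, 1, one_mem _, by simp⟩
      mul_mem' := by
        rintro ⟨a, A⟩ ⟨b, B⟩ ⟨g, hg, c, hc, rfl⟩ ⟨g', hg', c', hc', rfl⟩
        refine ⟨g * g', ?_, c * c', mul_mem hc hc', ?_⟩
        · show ((g * g' : GL (Fin n) L) : GL (Fin n) L ⧸ Subgroup.center (GL (Fin n) L)) = σ (a * b)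
          rw [map_mul, ← hg, ← hg']
          exact QuotientGroup.mk_mul _ _ _
        · show c * ι g * (c' * ι g') = c * c' * ι (g * g')
          rw [map_mul, mul_assoc, ← mul_assoc (ι g), Subgroup.mem_center_iff.1 hc' (ι g)]
          group
      inv_mem' := by
        rintro ⟨a, A⟩ ⟨g, hg, c, hc, rfl⟩
        refine ⟨g⁻¹, ?_, c⁻¹, inv_mem hc, ?_⟩
        · show ((g⁻¹ : GL (Fin n) L) : GL (Fin n) L ⧸ Subgroup.center (GL (Fin n) L)) = σ a⁻¹
          rw [map_inv, ← hg]
          exact QuotientGroup.mk_inv _ _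
        · show (c * ι g)⁻¹ = c⁻¹ * ι g⁻¹
          rw [map_inv, _root_.mul_inv_rev, Subgroup.mem_center_iff.1 (inv_mem hc)] }
  let p : P →* D.SteinbergCover F := (MonoidHom.fst _ _).comp P.subtype
  have hp : Function.Surjective p := fun a => by
    obtain ⟨g, hg⟩ := QuotientGroup.mk_surjective (σ a)
    exact ⟨⟨(a, ι g), g, hg, 1, one_mem _, (one_mul _).symm⟩, rfl⟩
  have hsc : ∀ A ∈ Z, ∃ c : K'ˣ, Matrix.GeneralLinearGroup.scalar (Fin n) c = A := fun A hA => by
    rwa [← MonoidHom.mem_range, ← Matrix.GeneralLinearGroup.center_eq_range_scalar]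
  have hcen : ∀ g ∈ Subgroup.center (GL (Fin n) L), ι g ∈ Z := by
    intro g hg
    rw [Matrix.GeneralLinearGroup.center_eq_range_scalar] at hg
    obtain ⟨c, rfl⟩ := hg
    show _ ∈ Subgroup.center _
    rw [Matrix.GeneralLinearGroup.center_eq_range_scalar]
    refine ⟨Units.map (algebraMap L K').toMonoidHom c, Units.ext ?_⟩
    ext i j
    by_cases h : i = j <;> simp [ι, Matrix.GeneralLinearGroup.scalar, h]
  have hkZ : ∀ k : P, p k = 1 → (k : D.SteinbergCover F × GL (Fin n) K').2 ∈ Z := by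
    rintro ⟨⟨a, A⟩, g, hg, c, hc, hA⟩ ha
    rw [show a = 1 from ha, map_one, QuotientGroup.eq_one_iff] at hg
    show A ∈ Z
    rw [show A = c * ι g from hA]
    exact mul_mem hc (hcen g hg)
  have hc : p.ker ≤ Subgroup.center P := by
    intro k hk
    rw [Subgroup.mem_center_iff]
    intro v
    refine Subtype.ext (Prod.ext ?_ (Subgroup.mem_center_iff.1 (hkZ k hk) _))
    show p v * p k = p k * p v
    rw [MonoidHom.mem_ker.1 hk, one_mul, mul_one]
  have htf : ∀ k ∈ p.ker, k ^ ℓ = 1 → k = 1 := by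
    intro k hk hpow
    refine Subtype.ext (Prod.ext (MonoidHom.mem_ker.1 hk) ?_)
    obtain ⟨c, hc'⟩ := hsc _ (hkZ k hk)
    rcases isEmpty_or_nonempty (Fin n) with he | he
    · exact Units.ext (Subsingleton.elim _ _)
    have h1 : Matrix.GeneralLinearGroup.scalar (Fin n) (c ^ ℓ) = 1 := by
      have h0 := congrArg (fun z : P => (z : D.SteinbergCover F × GL (Fin n) K').2) hpow
      simp only [SubmonoidClass.coe_pow, Prod.pow_snd] at h0
      rw [map_pow, hc']
      exact h0.trans rfl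
    have h2 : ((c : K')) ^ ℓ = 1 := by
      rw [← Units.val_pow_eq_pow_val]
      exact (Matrix.scalar_inj (n := Fin n)).1 ((congrArg Units.val h1).trans (map_one _).symm)
    have h3 : c = 1 := Units.ext (frobenius_inj K' ℓ (by simpa [frobenius_def] using h2))
    show (k : D.SteinbergCover F × GL (Fin n) K').2 = 1
    rw [← hc', h3, map_one]
  have hθ : ∀ (r : ℕ) (t : F), r < D.nroots →
      ((covHom F hD (D.scGen F r t) : GL D.Idx F) : Matrix D.Idx D.Idx F) = D.x F r t :=
    fun r t _ => by rw [covHom_gen, coe_xg]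
  set S := presSys F (D.steinbergRelsAB F) subset_rfl (covHom F hD) hθ
  have hdiv : ∀ r t, ∃ y, p y = S.x r t ∧ y ^ ℓ = 1 := by
    intro r t
    obtain ⟨y, hy⟩ := hp (S.x r t)
    have hS : ∀ m : ℕ, S.x r (m • t) = S.x r t ^ m := fun m => by
      induction m with
      | zero => rw [zero_smul, S.x_zero, pow_zero]
      | succ m ih => rw [succ_nsmul, S.add, ih, pow_succ]
    have hk : y ^ ℓ ∈ p.ker := by
      rw [MonoidHom.mem_ker, map_pow, hy, ← hS, nsmul_eq_mul, CharP.cast_eq_zero, zero_mul, S.x_zero]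
    obtain ⟨c, hc'⟩ := hsc _ (hkZ _ hk)
    obtain ⟨z, hz⟩ := IsAlgClosed.exists_pow_nat_eq (c : K') (Nat.Prime.pos (Fact.out : ℓ.Prime))
    have hz0 : z ≠ 0 := by
      rintro rfl
      rw [zero_pow (Nat.Prime.ne_zero Fact.out)] at hz
      exact c.ne_zero hz.symm
    let zu : K'ˣ := Units.mk0 z hz0
    have hzc : zu ^ ℓ = c := Units.ext (by simpa [zu] using hz)
    have hZ : Matrix.GeneralLinearGroup.scalar (Fin n) zu⁻¹ ∈ Z := by
      show _ ∈ Subgroup.center _
      rw [Matrix.GeneralLinearGroup.center_eq_range_scalar]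
      exact ⟨_, rfl⟩
    let w : P := ⟨(1, Matrix.GeneralLinearGroup.scalar (Fin n) zu⁻¹), 1, by simp, _, hZ, by simp⟩
    have hw : w ∈ p.ker := rfl
    refine ⟨y * w, by rw [map_mul, MonoidHom.mem_ker.1 hw, mul_one, hy], ?_⟩
    rw [(show Commute y w from ker_comm hc hw y).mul_pow]
    refine Subtype.ext (Prod.ext ?_ ?_)
    · show p (y ^ ℓ * w ^ ℓ) = 1
      rw [map_mul, MonoidHom.mem_ker.1 hk, map_pow, MonoidHom.mem_ker.1 hw, one_pow, one_mul]
    · show ((y ^ ℓ : P) : D.SteinbergCover F × GL (Fin n) K').2 *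
        ((w ^ ℓ : P) : D.SteinbergCover F × GL (Fin n) K').2 = 1
      rw [← hc', SubmonoidClass.coe_pow, Prod.pow_snd, ← map_pow, inv_pow, hzc, map_inv, mul_inv_cancel]
  obtain ⟨Y⟩ := S.exists_lifting_of_tors hp hc ℓ htf hdiv
  obtain ⟨s, hs⟩ := section_of_lifting hD hR hθ Y
  let ψ' : D.SteinbergCover F →* GL (Fin n) K' := ((MonoidHom.snd _ _).comp P.subtype).comp s
  have hrange : ∀ a, ψ' a ∈ ι.range := by
    intro a
    suffices hle : commutator (D.SteinbergCover F) ≤ ι.range.comap ψ' from hle (by rw [hperf]; exact Subgroup.mem_top a)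
    rw [commutator_eq_closure, Subgroup.closure_le]
    rintro _ ⟨b, b', rfl⟩
    obtain ⟨g, -, c, hc1, hc2⟩ := (s b).2
    obtain ⟨g', -, c', hc1', hc2'⟩ := (s b').2
    have hb : ψ' b = c * ι g := hc2
    have hb' : ψ' b' = c' * ι g' := hc2'
    refine ⟨g * g' * g⁻¹ * g'⁻¹, ?_⟩
    rw [commutatorElement_def, map_mul, map_mul, map_mul, map_inv, map_inv, map_mul, map_mul, map_mul, map_inv,
      map_inv, hb, hb']
    calc ι g * ι g' * (ι g)⁻¹ * (ι g')⁻¹ = ι g * (c * c⁻¹) * ι g' * (ι g)⁻¹ * (c' * c'⁻¹) * (ι g')⁻¹ := by group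
      _ = c * ι g * (c⁻¹ * ι g' * (ι g)⁻¹) * (c' * c'⁻¹) * (ι g')⁻¹ := by
          rw [← mul_assoc (ι g), Subgroup.mem_center_iff.1 hc1 (ι g)]; group
      _ = c * ι g * (ι g' * (ι g)⁻¹ * c⁻¹) * c' * (c'⁻¹ * (ι g')⁻¹) := by
          rw [Subgroup.mem_center_iff.1 (inv_mem hc1) (ι g' * (ι g)⁻¹)]; group
      _ = c * ι g * (c' * (ι g' * (ι g)⁻¹ * c⁻¹)) * (c'⁻¹ * (ι g')⁻¹) := by
          rw [← Subgroup.mem_center_iff.1 hc1' (ι g' * (ι g)⁻¹ * c⁻¹)]; group
      _ = c * ι g * (c' * (ι g' * (ι g)⁻¹ * c⁻¹)) * ((ι g')⁻¹ * c'⁻¹) := by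
          rw [Subgroup.mem_center_iff.1 (inv_mem hc1') ((ι g')⁻¹)]
      _ = c * ι g * (c' * ι g') * (c * ι g)⁻¹ * (c' * ι g')⁻¹ := by group
  let ψ : D.SteinbergCover F →* GL (Fin n) L :=
    (MonoidHom.ofInjective hι).symm.toMonoidHom.comp (ψ'.codRestrict ι.range hrange)
  have hψ : ∀ a, ι (ψ a) = ψ' a := fun a =>
    congrArg Subtype.val ((MonoidHom.ofInjective hι).apply_symm_apply ⟨ψ' a, hrange a⟩)
  refine ⟨ψ, MonoidHom.ext fun a => ?_⟩
  obtain ⟨g, hg, c, hc1, hc2⟩ := (s a).2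
  have hb : ψ' a = c * ι g := hc2
  have ha : ((s a : P) : D.SteinbergCover F × GL (Fin n) K').1 = a := DFunLike.congr_fun hs a
  rw [ha] at hg
  rw [MonoidHom.comp_apply, QuotientGroup.mk'_apply, ← hg, eq_comm, QuotientGroup.eq, Subgroup.mem_center_iff]
  intro v
  refine hι ?_
  have h4 : ι (g⁻¹ * ψ a) = c := by
    rw [map_mul, map_inv, hψ, hb, ← mul_assoc, Subgroup.mem_center_iff.1 hc1 ((ι g)⁻¹)]
    group
  rw [map_mul ι v, map_mul ι _ v, h4]
  exact Subgroup.mem_center_iff.1 hc1 _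

end Cfsg.Agent.ChevSt
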