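/-
Chevalley groups: field and graph automorphisms.

* `field_graph_comm`: they commute.
* `graph_all_roots`: with one root length a graph automorphism permutes all root elements up to sign.
-/
import Cfsg.Agent.Lib.ChevSt.Auto

set_option autoImplicit false

namespace Cfsg.Agent.ChevSt

open Cfsg.Lie Cfsg.Lie.ChevalleyDatum Cfsg.Agent.Chev Cfsg.Agent.ChevBN

variable {D : ChevalleyDatum} (hD : Good D) {F : Type*} [Field F] {M : List (List ℤ)} {d : ℤ} (hR : Roots D M d)
include hD hR

theorem field_graph_comm (f g : D.group F ≃* D.group F) (hf : D.IsFieldAut f) (hg : D.IsGraphAut g)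
    (y : D.group F) : f (g y) = g (f y) := by
  obtain ⟨σ, hσ⟩ := hf
  obtain ⟨π, -, hπ⟩ := hg
  suffices h : f.toMonoidHom.comp g.toMonoidHom = g.toMonoidHom.comp f.toMonoidHom from DFunLike.congr_fun h y
  refine hom_ext_simple hD hR fun i hi t => ?_
  constructor
  · apply Subtype.ext
    apply Units.ext
    have h1 := (hπ ⟨xg hD F (D.simple i) t, xg_mem_group hD _ t⟩ ⟨i, hi⟩ t).1 rfl
    have h2 := hσ _ _ _ (hD.simple_lt _ (π ⟨i, hi⟩).isLt) h1
    have h3 := hσ ⟨xg hD F (D.simple i) t, xg_mem_group hD _ t⟩ (D.simple i) t (hD.simple_lt i hi) rfl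
    have h4 := (hπ _ ⟨i, hi⟩ (σ t)).1 h3
    rw [map_pow] at h2
    exact h2.trans h4.symm
  · apply Subtype.ext
    apply Units.ext
    have h1 := (hπ ⟨xg hD F (D.neg (D.simple i)) t, xg_mem_group hD _ t⟩ ⟨i, hi⟩ t).2 rfl
    have h2 := hσ _ _ _ (hD.neg_lt _ (hD.simple_lt _ (π ⟨i, hi⟩).isLt)) h1
    have h3 := hσ ⟨xg hD F (D.neg (D.simple i)) t, xg_mem_group hD _ t⟩ (D.neg (D.simple i)) t
      (hD.neg_lt _ (hD.simple_lt i hi)) rfl
    have h4 := (hπ _ ⟨i, hi⟩ (σ t)).2 h3
    rw [map_pow] at h2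
    exact h2.trans h4.symm

omit hR hD in
/-- The table facts for one root length. -/
def SimplyLaced (D : ChevalleyDatum) (M : List (List ℤ)) (d : ℤ) : Prop :=
  (∀ q < D.nroots, ∀ k < D.rank, co D M k q = (D.coroot.getD q #[]).getD k 0 * d) ∧
    ∀ i < D.rank, ∀ k < D.rank, D.cartan i (D.simple k) = D.cartan k (D.simple i) ∧
      (i = k → D.cartan i (D.simple k) = 2) ∧
      (i ≠ k → D.cartan i (D.simple k) = 0 ∨ D.cartan i (D.simple k) = -1)

theorem graph_all_roots (hL : SimplyLaced D M d) (π : Equiv.Perm (Fin D.rank)) (hπ : D.IsDiagramSymmetry π)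
    (φ : D.group F ≃* D.group F)
    (hφ : ∀ (g : D.group F) (i : Fin D.rank) (t : F),
      (((g : GL D.Idx F) : Matrix D.Idx D.Idx F) = D.x F (D.simple i) t →
        ((φ g : GL D.Idx F) : Matrix D.Idx D.Idx F) = D.x F (D.simple (π i)) t) ∧
      (((g : GL D.Idx F) : Matrix D.Idx D.Idx F) = D.x F (D.neg (D.simple i)) t →
        ((φ g : GL D.Idx F) : Matrix D.Idx D.Idx F) = D.x F (D.neg (D.simple (π i))) t))
    (r : ℕ) (hr : r < D.nroots) :
    ∃ ε : F, (ε = 1 ∨ ε = -1) ∧ ∀ (g : D.group F) (t : F),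
      ((g : GL D.Idx F) : Matrix D.Idx D.Idx F) = D.x F r t →
        ((φ g : GL D.Idx F) : Matrix D.Idx D.Idx F) = D.x F (D.permRoot π r) (ε * t) := by
  classical
  -- the Cartan integers are preserved
  have hA : ∀ i k : Fin D.rank, D.cartan (π i).val (D.simple (π k).val) = D.cartan i.val (D.simple k.val) := by
    intro i k
    by_cases h : i = k
    · subst h
      rw [(hL.2 _ (π i).isLt _ (π i).isLt).2.1 rfl, (hL.2 _ i.isLt _ i.isLt).2.1 rfl]
    · have h' : π i ≠ π k := fun e => h (π.injective e)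
      have e := hπ i k h
      obtain ⟨s1, -, c1⟩ := hL.2 _ (π i).isLt _ (π k).isLt
      obtain ⟨s2, -, c2⟩ := hL.2 _ i.isLt _ k.isLt
      rw [ChevalleyDatum.bonds, ChevalleyDatum.bonds, ← s1, ← s2] at e
      rcases c1 (fun e => h' (Fin.ext e)) with a | a <;> rcases c2 (fun e => h (Fin.ext e)) with b | b <;>
        rw [a, b] at e ⊢ <;> norm_num at e
  set c : ℕ → ℕ → ℤ := fun q k => (D.coroot.getD q #[]).getD k 0 with hc
  have hcd : ∀ q < D.nroots, ∀ k < D.rank, co D M k q = c q k * d := hL.1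
  have hneg : ∀ q < D.nroots, ∀ k < D.rank, c (D.neg q) k = -c q k := fun q hq k hk => hD.coroot_neg q hq k hk
  -- Cartan integers of roots from the coefficients
  have hcart : ∀ q < D.nroots, ∀ i : Fin D.rank,
      D.cartan i.val q = ∑ k : Fin D.rank, c q k.val * D.cartan i.val (D.simple k.val) := by
    intro q hq i
    have h1 : ∀ q < D.nroots, D.cartan i.val q * d =
        ∑ k : Fin D.rank, co D M k.val q * D.cartan i.val (D.simple k.val) := by
      intro q hq
      refine lin_ext hD hR (f := fun q => D.cartan i.val q * d)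
        (g := fun q => ∑ k : Fin D.rank, co D M k.val q * D.cartan i.val (D.simple k.val)) ?_ ?_ ?_ hq
      · exact ⟨fun a ha b hb k hk => by simp only [(isLin_cartan hD i.isLt).add a ha b hb k hk, add_mul],
          fun a ha => by simp only [(isLin_cartan hD i.isLt).neg a ha, neg_mul]⟩
      · exact ⟨fun a ha b hb k hk => by
            simp only [(isLin_co hD M _).add a ha b hb k hk, add_mul, Finset.sum_add_distrib],
          fun a ha => by simp only [(isLin_co hD M _).neg a ha, neg_mul, Finset.sum_neg_distrib]⟩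
      · intro j hj
        show _ = ∑ k : Fin D.rank, _
        rw [Fintype.sum_eq_single ⟨j, hj⟩ fun k hk => by
          rw [hR.dual k.val k.isLt j hj, if_neg fun e => hk (Fin.ext e), zero_mul]]
        rw [hR.dual j hj j hj, if_pos rfl, mul_comm]
    refine mul_right_cancel₀ hR.d_pos.ne' ((h1 q hq).trans ?_)
    rw [Finset.sum_mul]
    exact Finset.sum_congr rfl fun k _ => by rw [hcd q hq k.val k.isLt]; ring
  let Match : ℕ → ℕ → Prop := fun q s => s < D.nroots ∧ ∀ k : Fin D.rank, c s (π k).val = c q k.val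
  have perm_eq : ∀ q s, q < D.nroots → Match q s → D.permRoot π q = s := by
    intro q s hq hs
    unfold ChevalleyDatum.permRoot
    cases hf : (List.range D.nroots).find? fun s => (List.finRange D.rank).all fun i =>
        (D.coroot.getD s #[]).getD (π i).val 0 == (D.coroot.getD q #[]).getD i.val 0 with
    | none =>
      have := List.find?_eq_none.1 hf s (List.mem_range.2 hs.1)
      simp only [List.all_eq_true, beq_iff_eq, List.mem_finRange, true_implies] at this
      exact absurd hs.2 this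
    | some s' =>
      have h1 := List.find?_some hf
      have h2 := List.mem_range.1 (List.mem_of_find?_eq_some hf)
      simp only [List.all_eq_true, beq_iff_eq, List.mem_finRange, true_implies] at h1
      refine hR.root_ext h2 hs.1 fun k hk => ?_
      obtain ⟨j, hj⟩ := π.surjective ⟨k, hk⟩
      have e1 := h1 j
      have e2 := hs.2 j
      rw [hj] at e1 e2
      show co D M k s' = co D M k s
      rw [hcd s' h2 k hk, hcd s hs.1 k hk, show c s' k = c q j.val from e1, show c s k = c q j.val from e2]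
  have Match_w : ∀ (i : Fin D.rank) q s, q < D.nroots → Match q s →
      Match (wN D i.val q) (wN D (π i).val s) := by
    intro i q s hq ⟨hs, hm⟩
    have hA' : D.cartan (π i).val s = D.cartan i.val q := by
      rw [hcart q hq i, hcart s hs (π i), ← Equiv.sum_comp π]
      exact Finset.sum_congr rfl fun k _ => by rw [hm k, hA i k]
    refine ⟨refl_lt hD (hD.simple_lt _ (π i).isLt) hs, fun k => mul_right_cancel₀ hR.d_pos.ne' ?_⟩
    rw [← hcd (wN D (π i).val s) (refl_lt hD (hD.simple_lt _ (π i).isLt) hs) _ (π k).isLt,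
      ← hcd (wN D i.val q) (refl_lt hD (hD.simple_lt _ i.isLt) hq) _ k.isLt,
      hR.co_refl hD (π i).isLt hs (π k).isLt, hR.co_refl hD i.isLt hq k.isLt, hcd s hs _ (π k).isLt,
      hcd q hq _ k.isLt, hm k, hA']
    simp [Fin.val_inj]
  let X : ℕ → F → D.group F := fun q t => ⟨xg hD F q t, xg_mem_group hD q t⟩
  let Img : ℕ → ℕ → Prop := fun q s => ∃ ε : F, (ε = 1 ∨ ε = -1) ∧
    ∀ t, (φ (X q t) : GL D.Idx F) = xg hD F s (ε * t)
  have simp1 : ∀ (i : Fin D.rank) (t : F), (φ (X (D.simple i) t) : GL D.Idx F) = xg hD F (D.simple (π i)) t :=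
    fun i t => Units.ext ((hφ (X (D.simple i) t) i t).1 rfl)
  have simp2 : ∀ (i : Fin D.rank) (t : F),
      (φ (X (D.neg (D.simple i)) t) : GL D.Idx F) = xg hD F (D.neg (D.simple (π i))) t :=
    fun i t => Units.ext ((hφ (X (D.neg (D.simple i)) t) i t).2 rfl)
  have stepImg : ∀ (i : Fin D.rank) q s, q < D.nroots → s < D.nroots → Img q s →
      Img (wN D i.val q) (wN D (π i).val s) := by
    intro i q s hq hs ⟨ε, hε, he⟩
    have hi := hD.simple_lt _ i.isLt
    obtain ⟨hs1, -⟩ := nSign_cases hD hi hq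
    obtain ⟨hs2, -⟩ := nSign_cases hD (hD.simple_lt _ (π i).isLt) hs
    set a : F := (nSign D (D.simple i.val) q : F) with ha
    set b : F := (nSign D (D.simple (π i).val) s : F) with hb
    have ha1 : a = 1 ∨ a = -1 := by rw [ha]; rcases hs1 with h | h <;> simp [h]
    have hb1 : b = 1 ∨ b = -1 := by rw [hb]; rcases hs2 with h | h <;> simp [h]
    refine ⟨b * ε * a, by rcases ha1 with e | e <;> rcases hb1 with e' | e' <;> rcases hε with e'' | e'' <;>
      simp [e, e', e''], fun t => ?_⟩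
    have haa : a * a = 1 := by rcases ha1 with e | e <;> simp [e]
    set N : D.group F := X (D.simple i) 1 * X (D.neg (D.simple i)) (-1⁻¹) * X (D.simple i) 1 with hN
    have hNc : (N : GL D.Idx F) = ng hD F (D.simple i) 1 := rfl
    have hNφ : (φ N : GL D.Idx F) = ng hD F (D.simple (π i)) 1 := by
      simp [hN, map_mul, simp1, simp2, ng]
    have e : X (wN D i.val q) t = N * X q (a * t) * N⁻¹ := by
      apply Subtype.ext
      show xg hD F _ t = (N : GL D.Idx F) * xg hD F q (a * t) * (N : GL D.Idx F)⁻¹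
      rw [hNc, ng_conj_xg hD i.isLt hq, ← mul_assoc, ← ha, haa, one_mul]
    rw [e, map_mul, map_mul, map_inv, Subgroup.coe_mul, Subgroup.coe_mul, Subgroup.coe_inv, hNφ, he,
      ng_conj_xg hD (π i).isLt hs, ← hb]
    congr 1
    ring
  let P : ℕ → Prop := fun q => q < D.nroots ∧ ∃ s, Match q s ∧ Img q s ∧ Img (D.neg q) (D.neg s)
  have hP : ∀ q < D.nroots, D.IsPosRoot q → P q := by
    intro q hq hp
    refine hR.pos_induction hD (P := P) ?_ ?_ hq hp
    · intro i hi
      refine ⟨hD.simple_lt i hi, D.simple (π ⟨i, hi⟩).val, ⟨hD.simple_lt _ (π _).isLt, fun k => ?_⟩,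
        ⟨1, Or.inl rfl, fun t => by rw [one_mul]; exact simp1 ⟨i, hi⟩ t⟩,
        ⟨1, Or.inl rfl, fun t => by rw [one_mul]; exact simp2 ⟨i, hi⟩ t⟩⟩
      show (D.coroot.getD _ #[]).getD _ 0 = (D.coroot.getD _ #[]).getD _ 0
      rw [hD.simple_coroot _ (π _).isLt _ (π k).isLt, hD.simple_coroot i hi _ k.isLt]
      simp [Fin.val_inj, Fin.ext_iff]
    · rintro i hi q hq ⟨-, s, hm, h1, h2⟩
      refine ⟨refl_lt hD (hD.simple_lt i hi) hq, wN D (π ⟨i, hi⟩).val s, Match_w ⟨i, hi⟩ q s hq hm,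
        stepImg ⟨i, hi⟩ q s hq hm.1 h1, ?_⟩
      rw [← hR.refl_neg hD hi hq, ← hR.refl_neg hD (π ⟨i, hi⟩).isLt hm.1]
      exact stepImg ⟨i, hi⟩ _ _ (hD.neg_lt q hq) (hD.neg_lt s hm.1) h2
  obtain ⟨s, hm, ε, hε, he⟩ : ∃ s, Match r s ∧ Img r s := by
    by_cases hp : D.IsPosRoot r
    · obtain ⟨-, s, hm, h1, -⟩ := hP r hr hp
      exact ⟨s, hm, h1⟩
    · obtain ⟨-, s, hm, -, h2⟩ := hP _ (hD.neg_lt r hr) ((pos_or_neg hD hr).2 hp)
      rw [hD.neg_neg r hr] at h2
      refine ⟨D.neg s, ⟨hD.neg_lt s hm.1, fun k => ?_⟩, h2⟩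
      rw [hneg s hm.1 _ (π k).isLt, hm.2 k, hneg r hr _ k.isLt, _root_.neg_neg]
  refine ⟨ε, hε, fun g t hg => ?_⟩
  obtain rfl : g = X r t := Subtype.ext (Units.ext hg)
  rw [perm_eq r s hr hm, he t]
  rfl

end Cfsg.Agent.ChevSt
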