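/-
Steinberg presentations, part 11: the joint kernel of the characters for E6 and E7.

* `card_kerE6`, `card_kerE7`: it has gcd(3, q-1), gcd(2, q-1) elements.
-/
import Cfsg.Agent.Lib.ChevSt.Cards

set_option autoImplicit false

namespace Cfsg.Agent.ChevSt

open Cfsg.Lie Cfsg.Lie.ChevalleyDatum Cfsg.Agent.Chev Cfsg.Agent.ChevBN

variable {F : Type*} [Field F] [Fintype F]

theorem card_roots_unity (n : ℕ) : Nat.card (powMonoidHom n : Fˣ →* Fˣ).ker = Nat.gcd n (Fintype.card F - 1) := by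
  classical
  rw [IsCyclic.card_powMonoidHom_ker (G := Fˣ) (d := n), Nat.card_eq_fintype_card, Fintype.card_units, Nat.gcd_comm]

omit [Fintype F] in
/-- The equation of the kernel at a fundamental root. -/
theorem chi_simple {D : ChevalleyDatum} (hD : Good D) (t : Fin D.rank → Fˣ) {k : ℕ} (hk : k < D.rank) :
    chi D F t ⟨D.simple k, hD.simple_lt k hk⟩ = ∏ i, t i ^ D.cartan i.val (D.simple k) := by
  show ∏ i, t i ^ D.pairing (D.simple i.val) (D.simple k) = _
  refine Finset.prod_congr rfl fun i _ => ?_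
  rw [pairing_simple hD i.isLt]

theorem card_kerE6 (hD : Good chevE6) :
    Nat.card (chi chevE6 F).ker = Nat.gcd 3 (Fintype.card F - 1) := by
  rw [← card_roots_unity (F := F) 3]
  let c : Fin chevE6.rank ≃ Fin 6 := finCongr rankE6
  have hi : ∀ i : Fin 6, i.val < chevE6.rank := fun i => rankE6.symm ▸ i.isLt
  have hker : ∀ t : Fin chevE6.rank → Fˣ, t ∈ (chi chevE6 F).ker ↔
      ∀ k : Fin 6, ∏ i : Fin 6, t (c.symm i) ^
        (([[2, 0, -1, 0, 0, 0], [0, 2, 0, -1, 0, 0], [-1, 0, 2, -1, 0, 0], [0, -1, -1, 2, -1, 0],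
          [0, 0, 0, -1, 2, -1], [0, 0, 0, 0, -1, 2]].getD i.val []).getD k.val (0 : ℤ)) = 1 := by
    intro t
    have e : ∀ k : Fin 6, chi chevE6 F t ⟨chevE6.simple k.val, hD.simple_lt _ (hi k)⟩ =
        ∏ i : Fin 6, t (c.symm i) ^
        (([[2, 0, -1, 0, 0, 0], [0, 2, 0, -1, 0, 0], [-1, 0, 2, -1, 0, 0], [0, -1, -1, 2, -1, 0],
          [0, 0, 0, -1, 2, -1], [0, 0, 0, 0, -1, 2]].getD i.val []).getD k.val (0 : ℤ)) := by
      intro k
      rw [chi_simple hD t (hi k)]
      refine Fintype.prod_equiv c _ _ fun i => ?_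
      rw [Equiv.symm_apply_apply, ← cartanE6 (c i).val (c i).isLt k.val k.isLt]
      rfl
    rw [MonoidHom.mem_ker]
    refine ⟨fun h k => by rw [← e k, h]; rfl, fun h => chi_eq_one_of_simple hD rootsE6 fun k hk => ?_⟩
    have := e ⟨k, rankE6 ▸ hk⟩
    rw [h] at this
    exact this
  refine Nat.card_congr
    { toFun := fun t => ⟨t.1 (c.symm 0), ?_⟩
      invFun := fun z => ⟨fun i => ![z.1, 1, z.1 * z.1, 1, z.1, z.1 * z.1] (c i), ?_⟩
      left_inv := fun t => ?_
      right_inv := fun z => ?_ }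
  · have h0 := pow_eq_one_of_chi hD rootsE6 (MonoidHom.mem_ker.1 t.2) (c.symm 0)
    rw [MonoidHom.mem_ker, powMonoidHom_apply]
    exact_mod_cast h0
  · have hz : z.1 ^ 3 = 1 := z.2
    rw [hker]
    intro k
    simp only [Equiv.apply_symm_apply]
    have hinv : z.1⁻¹ = z.1 * z.1 := inv_eq_of_mul_eq_one_right (by rw [← hz, pow_three])
    fin_cases k <;> simp [Fin.prod_univ_six]
    all_goals rw [hinv]; simp only [pow_succ, pow_zero, one_mul, mul_assoc]
    all_goals simp only [← pow_succ', ← pow_two]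
    all_goals rw [show z.1 ^ 6 = 1 by rw [pow_mul z.1 3 2, hz, one_pow]]
  · have h := (hker t.1).1 t.2
    have hp : ∀ i, t.1 (c.symm i) ^ 3 = 1 := fun i => by
      exact_mod_cast pow_eq_one_of_chi hD rootsE6 (MonoidHom.mem_ker.1 t.2) (c.symm i)
    apply Subtype.ext
    funext i
    obtain ⟨i, rfl⟩ := c.symm.surjective i
    show ![_, _, _, _, _, _] (c (c.symm i)) = _
    rw [Equiv.apply_symm_apply]
    have h0 := h 0
    have h1 := h 1
    have h2 := h 2
    have h3 := h 3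
    have h5 := h 5
    have h4 := h 4
    simp [Fin.prod_univ_six] at h0 h1 h2 h3 h4 h5
    have p1 := hp 1
    have p0 := hp 0
    have e2 : t.1 (c.symm 2) = t.1 (c.symm 0) ^ 2 := (mul_inv_eq_one.1 h0).symm
    have e3 : t.1 (c.symm 3) = 1 := by
      rw [e2, ← pow_mul, mul_inv_eq_one] at h2
      rw [← h2, inv_mul_eq_one, pow_succ _ 3, p0, one_mul]
    have e1 : t.1 (c.symm 1) = 1 := by
      rw [e3, inv_one, mul_one] at h1
      rwa [pow_succ, h1, one_mul] at p1
    have e4 : t.1 (c.symm 4) = t.1 (c.symm 0) := by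
      rw [e1, e2, e3, inv_one, one_mul, one_pow, mul_one, mul_inv_eq_one] at h3
      rw [← h3, inv_eq_iff_mul_eq_one, ← pow_succ, p0]
    have e5 : t.1 (c.symm 5) = t.1 (c.symm 0) * t.1 (c.symm 0) := by
      rw [e3, e4, inv_one, one_mul, mul_inv_eq_one] at h4
      rw [← h4, pow_two]
    fin_cases i <;> simp [e1, e2, e3, e4, e5, pow_two]
  · simp

set_option maxRecDepth 100000 in
theorem card_kerE7 (hD : Good chevE7) :
    Nat.card (chi chevE7 F).ker = Nat.gcd 2 (Fintype.card F - 1) := by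
  rw [← card_roots_unity (F := F) 2]
  let c : Fin chevE7.rank ≃ Fin 7 := finCongr rankE7
  have hi : ∀ i : Fin 7, i.val < chevE7.rank := fun i => rankE7.symm ▸ i.isLt
  have hker : ∀ t : Fin chevE7.rank → Fˣ, t ∈ (chi chevE7 F).ker ↔
      ∀ k : Fin 7, ∏ i : Fin 7, t (c.symm i) ^
        (([[2, 0, -1, 0, 0, 0, 0], [0, 2, 0, -1, 0, 0, 0], [-1, 0, 2, -1, 0, 0, 0], [0, -1, -1, 2, -1, 0, 0],
          [0, 0, 0, -1, 2, -1, 0], [0, 0, 0, 0, -1, 2, -1], [0, 0, 0, 0, 0, -1, 2]].getD i.val []).getD k.val (0 : ℤ)) = 1 := by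
    intro t
    have e : ∀ k : Fin 7, chi chevE7 F t ⟨chevE7.simple k.val, hD.simple_lt _ (hi k)⟩ =
        ∏ i : Fin 7, t (c.symm i) ^
        (([[2, 0, -1, 0, 0, 0, 0], [0, 2, 0, -1, 0, 0, 0], [-1, 0, 2, -1, 0, 0, 0], [0, -1, -1, 2, -1, 0, 0],
          [0, 0, 0, -1, 2, -1, 0], [0, 0, 0, 0, -1, 2, -1], [0, 0, 0, 0, 0, -1, 2]].getD i.val []).getD k.val (0 : ℤ)) := by
      intro k
      rw [chi_simple hD t (hi k)]
      refine Fintype.prod_equiv c _ _ fun i => ?_
      rw [Equiv.symm_apply_apply, ← cartanE7 (c i).val (c i).isLt k.val k.isLt]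
      rfl
    rw [MonoidHom.mem_ker]
    refine ⟨fun h k => by rw [← e k, h]; rfl, fun h => chi_eq_one_of_simple hD rootsE7 fun k hk => ?_⟩
    have := e ⟨k, rankE7 ▸ hk⟩
    rw [h] at this
    exact this
  refine Nat.card_congr
    { toFun := fun t => ⟨t.1 (c.symm 1), ?_⟩
      invFun := fun z => ⟨fun i => ![1, z.1, 1, 1, z.1, 1, z.1] (c i), ?_⟩
      left_inv := fun t => ?_
      right_inv := fun z => ?_ }
  · have h0 := pow_eq_one_of_chi hD rootsE7 (MonoidHom.mem_ker.1 t.2) (c.symm 1)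
    rw [MonoidHom.mem_ker, powMonoidHom_apply]
    exact_mod_cast h0
  · have hz : z.1 ^ 2 = 1 := z.2
    have hinv : z.1⁻¹ = z.1 := inv_eq_of_mul_eq_one_right (by rw [← hz, pow_two])
    rw [hker]
    intro k
    simp only [Equiv.apply_symm_apply]
    fin_cases k <;> simp [Fin.prod_univ_seven, hz, hinv, ← pow_two]
  · have h := (hker t.1).1 t.2
    have hp : ∀ i, t.1 (c.symm i) ^ 2 = 1 := fun i => by
      exact_mod_cast pow_eq_one_of_chi hD rootsE7 (MonoidHom.mem_ker.1 t.2) (c.symm i)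
    apply Subtype.ext
    funext i
    obtain ⟨i, rfl⟩ := c.symm.surjective i
    show ![_, _, _, _, _, _, _] (c (c.symm i)) = _
    rw [Equiv.apply_symm_apply]
    have h0 := h 0
    have h1 := h 1
    have h2 := h 2
    have h3 := h 3
    have h4 := h 4
    have h5 := h 5
    have hv : ∀ i, (t.1 (c.symm i))⁻¹ = t.1 (c.symm i) := fun i =>
      inv_eq_of_mul_eq_one_right (by rw [← hp i, pow_two])
    have hq : ∀ i j, t.1 (c.symm i) * t.1 (c.symm j) = 1 → t.1 (c.symm j) = t.1 (c.symm i) := fun i j e => by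
      rw [← inv_eq_of_mul_eq_one_right e, hv]
    simp [Fin.prod_univ_seven, hp, hv] at h0 h1 h2 h3 h4 h5
    have e2 : t.1 (c.symm 2) = 1 := h0
    have e3 : t.1 (c.symm 3) = 1 := h1
    rw [e3, mul_one] at h2
    rw [e2, mul_one] at h3
    rw [e3, one_mul] at h4
    have e4 := hq 1 4 h3
    have e6 := hq 4 6 h5
    fin_cases i <;> simp [h2, e2, e3, h4, e4, e6]
  · simp

end Cfsg.Agent.ChevSt
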