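/-
Steinberg presentations, part 22: E6, E7, E8 over any field and D4 with more than two elements split.

* `splits_E`, `splits_D4`.
-/
import Cfsg.Agent.Lib.ChevSt.SLSplit
import Cfsg.Agent.Lib.ChevSt.Multiplier

set_option autoImplicit false
set_option maxRecDepth 100000

universe u

namespace Cfsg.Agent.ChevSt

open Cfsg.Lie Cfsg.Lie.ChevalleyDatum Cfsg.Agent.Chev Cfsg.Agent.ChevBN

/-- Dec restricted to pairs at an acute angle. -/
def Dec1 (D : ChevalleyDatum) : Prop :=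
  ∀ r < D.nroots, ∀ s < D.nroots, 0 < D.pairing r s →
    ∃ a < D.nroots, D.pairing s a = 1 ∧ 0 ≤ D.pairing r a ∧ D.pairing r a ≤ D.pairing r s

/-- Two decompositions of s exchanging the roots produced by r, with the sign that kills the pairing. -/
def Orth (D : ChevalleyDatum) (r s : ℕ) : Prop :=
  ∃ a b k b₂ : ℕ, ∃ C C' C₂ C₂' : ℤ, a < D.nroots ∧ b < D.nroots ∧ k < D.nroots ∧ b₂ < D.nroots ∧
    D.commTerms a b = [(s, C, 1, 1)] ∧ D.commTerms r b = [(k, C', 1, 1)] ∧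
    D.commTerms k b₂ = [(s, C₂, 1, 1)] ∧ D.commTerms r b₂ = [(a, C₂', 1, 1)] ∧
    D.pairing r a = 1 ∧ D.pairing r k = 1 ∧ D.pairing s k = 1 ∧ D.pairing s a = 1 ∧
    D.pairing a b = -1 ∧ D.pairing r b = -1 ∧ D.pairing k b₂ = -1 ∧ D.pairing r b₂ = -1 ∧
    D.pairing a k = 0 ∧ C * C = 1 ∧ C' * C' = 1 ∧ C₂ * C₂ = 1 ∧ C * C' * C₂' = C₂

/-- The test for `Orth`. -/
def orthB (D : ChevalleyDatum) (r s : ℕ) : Bool :=
  (List.range D.nroots).any fun a =>
    match D.chainRoot (D.neg a) s 1 with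
    | none => false
    | some b =>
      match D.chainRoot r b 1 with
      | none => false
      | some k =>
        match D.chainRoot (D.neg k) s 1 with
        | none => false
        | some b₂ =>
          match D.commTerms a b, D.commTerms r b, D.commTerms k b₂, D.commTerms r b₂ with
          | [(s₁, C, 1, 1)], [(k₁, C', 1, 1)], [(s₂, C₂, 1, 1)], [(a₁, C₂', 1, 1)] =>
            decide (b < D.nroots ∧ k < D.nroots ∧ b₂ < D.nroots ∧ s₁ = s ∧ k₁ = k ∧ s₂ = s ∧ a₁ = a ∧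
              D.pairing r a = 1 ∧ D.pairing r k = 1 ∧ D.pairing s k = 1 ∧ D.pairing s a = 1 ∧
              D.pairing a b = -1 ∧ D.pairing r b = -1 ∧ D.pairing k b₂ = -1 ∧ D.pairing r b₂ = -1 ∧
              D.pairing a k = 0 ∧ C * C = 1 ∧ C' * C' = 1 ∧ C₂ * C₂ = 1 ∧ C * C' * C₂' = C₂)
          | _, _, _, _ => false

theorem orth_of_orthB {D : ChevalleyDatum} {r s : ℕ} (h : orthB D r s = true) : Orth D r s := by
  simp only [orthB, List.any_eq_true, List.mem_range] at h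
  obtain ⟨a, ha, h⟩ := h
  split at h
  · cases h
  rename_i b _
  split at h
  · cases h
  rename_i k _
  split at h
  · cases h
  rename_i b₂ _
  split at h
  · rename_i s₁ C k₁ C' s₂ C₂ a₁ C₂' e1 e2 e3 e4
    simp only [decide_eq_true_eq] at h
    obtain ⟨hb, hk, hb₂, rfl, rfl, rfl, rfl, rest⟩ := h
    exact ⟨_, b, _, b₂, C, C', C₂, C₂', ha, hb, hk, hb₂, e1, e2, e3, e4, rest⟩
  · cases h

theorem orthD4 : ∀ r < chevD4.nroots, ∀ s < chevD4.nroots, chevD4.pairing r s = 0 → Orth chevD4 r s := by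
  have h : ∀ r < chevD4.nroots, ∀ s < chevD4.nroots, chevD4.pairing r s = 0 → orthB chevD4 r s = true := by
    decide +kernel
  exact fun r hr s hs e => orth_of_orthB (h r hr s hs e)

theorem dec1D4 : Dec1 chevD4 := by
  have h : ∀ r < chevD4.nroots, ∀ s < chevD4.nroots, 0 < chevD4.pairing r s →
      ∃ a < chevD4.nroots, chevD4.pairing s a = 1 ∧ 0 ≤ chevD4.pairing r a ∧
        chevD4.pairing r a ≤ chevD4.pairing r s := by decide +kernel
  exact h

namespace Sys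

variable {D : ChevalleyDatum} {F : Type*} [Field F] {E : Type*} [Group E] (S : Sys D F E)
  {L : Type*} [Group L] {p : L →* E} (hD : Good D) (hS : SLRoots D) (hp : Function.Surjective p)
  (hc : p.ker ≤ Subgroup.center L)
include hD hS hp hc

/-- Exchange relation between the pairing of two orthogonal roots and of their companions. -/
theorem orth_step (hPC : ∀ r < D.nroots, ∀ s < D.nroots, 0 < D.pairing r s → PairComm S p r s) {r s a b k : ℕ}
    (hr : r < D.nroots) (hs : s < D.nroots) (ha : a < D.nroots) (hb : b < D.nroots) (hk : k < D.nroots) {C C' : ℤ}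
    (hT : D.commTerms a b = [(s, C, 1, 1)]) (hT' : D.commTerms r b = [(k, C', 1, 1)])
    (hab : D.pairing a b = -1) (hrb : D.pairing r b = -1) (hra : D.pairing r a = 1) (hsk : D.pairing s k = 1)
    (t v u : F) :
    S.pair hp r s t ((C : F) * (v * u)) = S.pair hp a k v ((C' : F) * (t * u)) := by
  obtain ⟨k₁, hk₁, C₁, -, hT₁, hx⟩ := hS.sum a ha b hb hab
  obtain ⟨k₂, hk₂, C₂, -, hT₂, hx'⟩ := hS.sum r hr b hb hrb
  have e1 : k₁ = s := by simpa [hT, eq_comm] using congrArg (List.map Prod.fst) hT₁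
  have e2 : k₂ = k := by simpa [hT', eq_comm] using congrArg (List.map Prod.fst) hT₂
  subst e1 e2
  obtain ⟨R, hR'⟩ := hp (S.x r t)
  obtain ⟨A, hA⟩ := hp (S.x a v)
  obtain ⟨B, hB⟩ := hp (S.x b u)
  set K := R * B * R⁻¹ * B⁻¹ with hK
  have pK : p K = S.x k₂ ((C' : F) * (t * u)) := by
    rw [hK, map_mul, map_mul, map_mul, map_inv, map_inv, hR', hB, S.x_comm_word hD hS hr hb hk hT' hrb hx']
  have pZ : p (A * B * A⁻¹ * B⁻¹) = S.x k₁ ((C : F) * (v * u)) := by
    rw [map_mul, map_mul, map_mul, map_inv, map_inv, hA, hB, S.x_comm_word hD hS ha hb hs hT hab hx]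
  rw [← S.pair_eq hp hc hR' pZ, ← S.pair_eq hp hc hA pK]
  have cA : R * A * R⁻¹ = A := by
    rw [hPC r hr a ha (by omega) _ _ _ _ hR' hA, mul_inv_cancel_right]
  have cK : K * (A * B * A⁻¹ * B⁻¹) = A * B * A⁻¹ * B⁻¹ * K :=
    hPC k₂ hk k₁ hs (by rw [hS.symm k₂ hk k₁ hs, hsk]; norm_num) _ _ _ _ pK pZ
  have cB : R * B * R⁻¹ = K * B := by rw [hK]; group
  calc R * (A * B * A⁻¹ * B⁻¹) * R⁻¹ * (A * B * A⁻¹ * B⁻¹)⁻¹
      = (R * A * R⁻¹) * (R * B * R⁻¹) * (R * A * R⁻¹)⁻¹ * (R * B * R⁻¹)⁻¹ * (A * B * A⁻¹ * B⁻¹)⁻¹ := by group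
    _ = A * K * A⁻¹ * (A * B * A⁻¹ * B⁻¹) * K⁻¹ * (A * B * A⁻¹ * B⁻¹)⁻¹ := by rw [cA, cB]; group
    _ = A * K * A⁻¹ * K⁻¹ * (K * (A * B * A⁻¹ * B⁻¹)) * K⁻¹ * (A * B * A⁻¹ * B⁻¹)⁻¹ := by group
    _ = _ := by rw [cK]; group

theorem pairComm_orth (h2 : (2 : F) ≠ 0)
    (hPC : ∀ r < D.nroots, ∀ s < D.nroots, 0 < D.pairing r s → PairComm S p r s) {r s : ℕ} (hr : r < D.nroots)
    (hs : s < D.nroots) (h0 : D.pairing r s = 0) (hO : Orth D r s) : PairComm S p r s := by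
  obtain ⟨a, b, k, b₂, C, C', C₂, C₂', ha, hb, hk, hb₂, hT, hT', hT₂, hT₂', hra, hrk, hsk, hsa, hab, hrb, hkb₂, hrb₂,
    hak, eC, eC', eC₂, esign⟩ := hO
  have hcm : ∀ t u, S.x r t * S.x s u = S.x s u * S.x r t := S.x_comm_of_nonneg hD hS hr hs h0.ge
  have h1 := S.orth_step hD hS hp hc hPC hr hs ha hb hk hT hT' hab hrb hra hsk
  have h2' := S.orth_step hD hS hp hc hPC hr hs hk hb₂ ha hT₂ hT₂' hkb₂ hrb₂ hrk hsa
  have c : ∀ {n : ℤ}, n * n = 1 → (n : F) * (n : F) = 1 := fun e => by rw [← Int.cast_mul, e, Int.cast_one]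
  have g1 : ∀ t w, S.pair hp r s t w = S.pair hp r s 1 (t * w) := fun t w => by
    have e1 := h1 t 1 ((C : F) * w)
    have e2 := h1 1 1 ((C : F) * (t * w))
    simp only [one_mul, ← mul_assoc (C : F) (C : F), c eC] at e1 e2
    rw [e1, e2]
    congr 1
    ring
  have g2 : ∀ v w, S.pair hp a k v w = S.pair hp r s 1 ((C : F) * (C' : F) * (v * w)) := fun v w => by
    have e1 := h1 1 v ((C' : F) * w)
    simp only [one_mul, ← mul_assoc (C' : F) (C' : F), c eC'] at e1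
    rw [← e1]
    congr 1
    ring
  have g3 : ∀ u, S.pair hp r s 1 ((C₂ : F) * u) = (S.pair hp r s 1 ((C₂ : F) * u))⁻¹ := fun u => by
    have e := h2' 1 1 u
    rw [show S.pair hp k a (1 : F) ((C₂' : F) * (1 * u)) = (S.pair hp a k ((C₂' : F) * (1 * u)) 1)⁻¹ by
      simp only [Sys.pair]; group, g2, one_mul, mul_one, ← mul_assoc ((C : F) * (C' : F)),
      show (C : F) * (C' : F) * (C₂' : F) = (C₂ : F) by rw [← Int.cast_mul, ← Int.cast_mul, esign]] at e
    exact e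
  intro t u A B hA hB
  haveI : NeZero (2 : F) := ⟨h2⟩
  have h := S.pair_add_right hp hc hcm 1 ((t * u) / 2) ((t * u) / 2)
  rw [add_halves, show S.pair hp r s 1 (t * u / 2) * S.pair hp r s 1 (t * u / 2) = 1 by
    have h3 := g3 ((C₂ : F) * (t * u / 2))
    rw [← mul_assoc, c eC₂, one_mul] at h3
    nth_rw 2 [h3]
    exact mul_inv_cancel _] at h
  rw [← g1] at h
  rw [← S.pair_eq hp hc hA hB, mul_inv_eq_one, mul_inv_eq_iff_eq_mul] at h
  exact h

theorem pairComm_orth_of_four (hR : ∃ M d, Roots D M d)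
    (hX : ∀ i < D.rank, Decomp D (D.simple i) ∧ Decomp D (D.neg (D.simple i))) (hv : ∃ v : Fˣ, v ^ 2 ≠ 1) {r s : ℕ}
    (hr : r < D.nroots) (hs : s < D.nroots) (h0 : D.pairing r s = 0) : PairComm S p r s := by
  obtain ⟨M, d, hR⟩ := hR
  obtain ⟨v, hv⟩ := hv
  have hcm : ∀ t u, S.x r t * S.x s u = S.x s u * S.x r t := S.x_comm_of_nonneg hD hS hr hs h0.ge
  obtain ⟨g, hg⟩ := S.exists_coroot_elem hD hR hX r v
  intro t u A B hA hB
  have hne : ((v : F) ^ 2 - 1) ≠ 0 := sub_ne_zero.2 fun e => hv (Units.ext (by simpa using e))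
  have h := S.pair_acts hp hc hcm hg (t / ((v : F) ^ 2 - 1)) u
  simp only [h0, zpow_zero, Units.val_one, one_mul, hD.pairing_self r hr,
    show (2 : ℤ) = ((2 : ℕ) : ℤ) from rfl, zpow_natCast, Units.val_pow_eq_pow_val] at h
  rw [show (v : F) ^ 2 * (t / ((v : F) ^ 2 - 1)) = t + t / ((v : F) ^ 2 - 1) by field_simp; ring,
    S.pair_add_left hp hc hcm, mul_eq_right, ← S.pair_eq hp hc hA hB, mul_inv_eq_one, mul_inv_eq_iff_eq_mul] at h
  exact h

end Sys

theorem splits_E {F : Type u} [Field F] (D : ChevalleyDatum) (hmem : D ∈ [chevE6, chevE7, chevE8]) :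
    Splits (D.SteinbergCover F) := by
  have hD7 : D ∈ [chevG2, chevB2, chevD4, chevF4, chevE6, chevE7, chevE8] := by
    simp only [List.mem_cons, List.not_mem_nil, or_false] at hmem ⊢
    tauto
  obtain ⟨hS, hdb, h3b⟩ : SLRoots D ∧ decB D = true ∧ dec3B D = true := by
    simp only [List.mem_cons, List.not_mem_nil, or_false] at hmem
    rcases hmem with rfl | rfl | rfl
    exacts [⟨slRootsE6, decB_E6, dec3B_E6⟩, ⟨slRootsE7, decB_E7, dec3B_E7⟩, ⟨slRootsE8, decB_E8, dec3B_E8⟩]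
  obtain ⟨hD, M, d, hR⟩ : Good D ∧ ∃ M d, Roots D M d := by
    simp only [List.mem_cons, List.not_mem_nil, or_false] at hmem
    rcases hmem with rfl | rfl | rfl
    exacts [⟨Chev.DataE6.good, _, _, rootsE6⟩, ⟨Chev.DataE7.good, _, _, rootsE7⟩, ⟨Chev.DataE8.good, _, _, rootsE8⟩]
  have hdec := dec_of_simple hD hR hS (dec_of_decB hD hdb)
  have hθ : ∀ (r : ℕ) (t : F), r < D.nroots →
      ((covHom F hD (D.scGen F r t) : GL D.Idx F) : Matrix D.Idx D.Idx F) = D.x F r t :=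
    fun r t _ => by rw [covHom_gen, coe_xg]
  intro L _ p hp hc
  refine sl_section hD hS (dec3_of_simple hD hR hS (dec3_of_dec3B hD h3b)) (fun k hk => ?_) p hp hc hθ
    fun r hr s hs h => Sys.pairComm_of_dec _ hD hS hp hc hr hs (hdec r hr) h
  obtain ⟨a, ha, e, -⟩ := hdec k hk k hk (by rw [hD.pairing_self k hk]; norm_num)
  exact ⟨a, ha, e⟩

theorem splits_D4 {F : Type u} [Field F] (hF : ∃ x : F, x ≠ 0 ∧ x ≠ 1) : Splits (chevD4.SteinbergCover F) := by
  have hD : Good chevD4 := Chev.DataD4.tables.good (by decide)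
  have hR := rootsD4
  have hS := slRootsD4
  have hmem : chevD4 ∈ [chevG2, chevB2, chevD4, chevF4, chevE6, chevE7, chevE8] := by simp
  have hθ : ∀ (r : ℕ) (t : F), r < chevD4.nroots →
      ((covHom F hD (chevD4.scGen F r t) : GL chevD4.Idx F) : Matrix chevD4.Idx chevD4.Idx F) = chevD4.x F r t :=
    fun r t _ => by rw [covHom_gen, coe_xg]
  intro L _ p hp hc
  refine sl_section hD hS (dec3_of_simple hD hR hS (dec3_of_dec3B hD dec3B_D4)) (fun k hk => ?_) p hp hc hθ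
    fun r hr s hs h => ?_
  · obtain ⟨a, ha, e, -⟩ := dec1D4 k hk k hk (by rw [hD.pairing_self k hk]; norm_num)
    exact ⟨a, ha, e⟩
  set S := presSys F (chevD4.steinbergRelsAB F) subset_rfl (covHom F hD) hθ
  have hpos : ∀ r < chevD4.nroots, ∀ s < chevD4.nroots, 0 < chevD4.pairing r s → Sys.PairComm S p r s := by
    intro r hr s hs h
    obtain ⟨a, ha, e1, e2, e3⟩ := dec1D4 r hr s hs h
    obtain ⟨b, hb, -, -, -, hxb⟩ := hS.sum s hs _ (hD.neg_lt a ha) (by rw [hD.pairing_neg_right _ ha, e1])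
    simp only [hD.pairing_neg_right _ ha] at hxb
    have hab : chevD4.pairing a b = -1 := by
      rw [hxb, hS.symm a ha s hs, e1, hD.pairing_self a ha]; norm_num
    obtain ⟨k, hk, C, hC, hT, hxk⟩ := hS.sum a ha b hb hab
    have hks : k = s := (hS.eq s hs k hk).1 (by rw [hxk, hxb, hD.pairing_self s hs]; ring)
    subst hks
    intro t u A B hA hB
    obtain ⟨a', ha'⟩ := hp (S.x a 1)
    obtain ⟨b', hb'⟩ := hp (S.x b ((C : F) * u))
    refine commute_comm_preimage hc (a := a') (b := b') ?_ ?_ ?_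
    · rw [hA, ha', S.x_comm_of_nonneg hD hS hr ha e2]
    · rw [hA, hb', S.x_comm_of_nonneg hD hS hr hb (by rw [hxb]; omega)]
    · rw [hB, map_mul, map_mul, map_mul, map_inv, map_inv, ha', hb', S.x_comm_word hD hS ha hb hk hT hab hxk,
        one_mul, ← mul_assoc]
      congr 1
      rcases hC with rfl | rfl <;> simp
  by_cases h0 : chevD4.pairing r s = 0
  swap
  · exact hpos r hr s hs (lt_of_le_of_ne h (Ne.symm h0))
  by_cases h2 : (2 : F) = 0
  · obtain ⟨x, hx0, hx1⟩ := hF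
    refine S.pairComm_orth_of_four hD hS hp hc ⟨_, _, hR⟩ (fun i hi => exists_decomp chevD4 hmem hi)
      ⟨Units.mk0 x hx0, fun e => hx1 ?_⟩ hr hs h0
    have e' : x ^ 2 = 1 := by simpa using congrArg Units.val e
    have h3 : (x - 1) * (x - 1) = 0 := by linear_combination e' - (x - 1) * h2
    exact sub_eq_zero.1 (mul_self_eq_zero.1 h3)
  · exact S.pairComm_orth hD hS hp hc h2 hpos hr hs h0 (orthD4 r hr s hs h0)

end Cfsg.Agent.ChevSt
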