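/-
Chevalley groups of one root length: table facts.
-/
import Cfsg.Agent.Lib.ChevSt.Graph

set_option autoImplicit false
set_option maxRecDepth 100000
set_option synthInstance.maxSize 4000
namespace Cfsg.Agent.ChevSt

open Cfsg.Lie Cfsg.Agent.ChevBN
theorem slD4 : SimplyLaced chevD4 adjD4 2 := by
  unfold SimplyLaced; decide +kernel
theorem slE6 : SimplyLaced chevE6 adjE6 3 := by
  unfold SimplyLaced; decide +kernel

end Cfsg.Agent.ChevSt
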